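import Cfsg.Agent.BlkChar.GalAvg
import Cfsg.Agent.Char.Linear
import Cfsg.Agent.Char.Kernel
import Mathlib

/-!
# The weight inequality for abelian groups acting coprimely

For a finite abelian group `H` and a family of coefficients `z` on the linear characters,
the squared norms of `∑ z_f f` weighted by the sizes of the commutator subgroups `[W, c]`
average to at least `|H|` times the number of cosets met by the support.
-/

set_option autoImplicit false
set_option linter.style.haveILetI false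
set_option linter.unusedSectionVars false

open scoped ComplexConjugate Classical
open Finset

namespace Cfsg.Agent.AbWeight

universe u v

theorem aux_cancel₁ {A : Type*} [CommGroup A] (b g f : A) :
    (b⁻¹ * g)⁻¹ * (b⁻¹ * f) = g⁻¹ * f := by group

theorem aux_cancel₂ {A : Type*} [CommGroup A] (b g f : A) :
    (b * g)⁻¹ * f = g⁻¹ * (b⁻¹ * f) := by group

variable {H : Type u} [Group H] [Fintype H] [Fintype (H →* ℂˣ)] {n : ℕ} [NeZero n]

/-- `f` lies in a coset of `B` meeting the support of `z`. -/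
def Supp (B : Subgroup (H →* ℂˣ)) (z : (H →* ℂˣ) → (ZMod n)ˣ → ℂ) (f : H →* ℂˣ) : Prop :=
  ∃ g : H →* ℂˣ, g⁻¹ * f ∈ B ∧ ∃ a, z g a ≠ 0

/-- The weight `w` dominates the subgroup `B` of linear characters. -/
def Good (n : ℕ) [NeZero n] (w : H → ℝ) (B : Subgroup (H →* ℂˣ)) : Prop :=
  ∀ z : (H →* ℂˣ) → (ZMod n)ˣ → ℂ, (∀ f, z f ∈ GalAvg.cycFun n) →
    (Nat.card H : ℝ) * Fintype.card (ZMod n)ˣ * (univ.filter (Supp B z)).card ≤
      ∑ a : (ZMod n)ˣ, ∑ c : H, w c * ‖∑ f : H →* ℂˣ, z f a * (f c : ℂ)‖ ^ 2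

theorem val_inv_eq_conj (f : H →* ℂˣ) (c : H) : ((f c)⁻¹ : ℂˣ).val = conj (f c : ℂ) := by
  have h1 := Char.irr_inv (Char.isIrrCharacter_monoidHom f) c
  simpa using h1

theorem sum_norm_sq (x : (H →* ℂˣ) → ℂ) :
    ∑ c : H, ‖∑ f : H →* ℂˣ, x f * (f c : ℂ)‖ ^ 2 = (Nat.card H : ℝ) * ∑ f, ‖x f‖ ^ 2 := by
  have h : ∑ c : H, (∑ f : H →* ℂˣ, x f * (f c : ℂ)) * conj (∑ g : H →* ℂˣ, x g * (g c : ℂ)) =
      (Nat.card H : ℂ) * ∑ f, x f * conj (x f) := by
    calc _ = ∑ f : H →* ℂˣ, ∑ g : H →* ℂˣ, x f * conj (x g) * ∑ c : H, ((f * g⁻¹) c : ℂ) := by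
            simp only [map_sum, map_mul, Finset.sum_mul, Finset.mul_sum, MonoidHom.mul_apply,
              MonoidHom.inv_apply, Units.val_mul, val_inv_eq_conj]
            conv_rhs => rw [Finset.sum_comm]
            rw [Finset.sum_comm]
            refine Finset.sum_congr rfl fun f _ => ?_
            rw [Finset.sum_comm]
            exact Finset.sum_congr rfl fun g _ => Finset.sum_congr rfl fun c _ => by ring
      _ = ∑ f : H →* ℂˣ, ∑ g : H →* ℂˣ,
            if f = g then x f * conj (x g) * (Nat.card H : ℂ) else 0 := by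
            refine Finset.sum_congr rfl fun f _ => Finset.sum_congr rfl fun g _ => ?_
            split_ifs with hfg
            · subst hfg; simp [Nat.card_eq_fintype_card]
            · rw [Char.monoidHom_sum_eq_zero (fun h => hfg (mul_inv_eq_one.mp h)), mul_zero]
      _ = _ := by simp [Finset.mul_sum, mul_comm, mul_left_comm]
  simp only [Complex.mul_conj, Complex.normSq_eq_norm_sq] at h
  exact_mod_cast h

theorem good_one : Good (H := H) n (fun _ => 1) ⊥ := by
  intro z hz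
  simp only [one_mul, sum_norm_sq, ← Finset.mul_sum]
  rw [mul_assoc]
  refine mul_le_mul_of_nonneg_left ?_ (Nat.cast_nonneg _)
  rw [Finset.sum_comm]
  have h : ∀ f : H →* ℂˣ, (if Supp ⊥ z f then (Fintype.card (ZMod n)ˣ : ℝ) else 0) ≤
      ∑ a : (ZMod n)ˣ, ‖z f a‖ ^ 2 := fun f => by
    split_ifs with hs
    · obtain ⟨g, hg, ha⟩ := hs
      have hgf : g = f := inv_mul_eq_one.mp (Subgroup.mem_bot.mp hg)
      subst hgf
      exact GalAvg.card_le_sum_norm_sq (hz _) ha
    · positivity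
  refine le_trans (le_of_eq ?_) (Finset.sum_le_sum fun f _ => h f)
  rw [← Finset.sum_filter, Finset.sum_const, nsmul_eq_mul, mul_comm]

theorem good_congr {w w' : H → ℝ} {B : Subgroup (H →* ℂˣ)} (h : Good n w B) (hw : ∀ c, w c ≤ w' c) :
    Good n w' B := fun z hz => (h z hz).trans <| Finset.sum_le_sum fun a _ =>
      Finset.sum_le_sum fun c _ => mul_le_mul_of_nonneg_right (hw c) (sq_nonneg _)

/-- The linear characters trivial on `K`. -/
def annih (K : Subgroup H) : Subgroup (H →* ℂˣ) where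
  carrier := {f | ∀ c ∈ K, f c = 1}
  one_mem' := fun c _ => rfl
  mul_mem' := fun {f g} hf hg c hc => by rw [MonoidHom.mul_apply, hf c hc, hg c hc, one_mul]
  inv_mem' := fun {f} hf c hc => by rw [MonoidHom.inv_apply, hf c hc, inv_one]

theorem exists_annih_apply_ne_one (hcomm : ∀ a b : H, a * b = b * a) (K : Subgroup H) {c : H}
    (hc : c ∉ K) : ∃ f ∈ annih K, f c ≠ 1 := by
  haveI : K.Normal := ⟨fun k hk g => by rwa [hcomm g k, mul_inv_cancel_right]⟩
  rw [Char.mem_normal_iff_forall_irr K c] at hc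
  push Not at hc
  obtain ⟨χ, hK, hne⟩ := hc
  obtain ⟨f, hf⟩ := Char.irr_exists_monoidHom_of_comm hcomm χ.2
  refine ⟨f, fun k hk => Units.ext ?_, fun h => hne ?_⟩
  · rw [← hf, hK k hk, hf, map_one]
  · rw [hf, hf, h, map_one]

theorem card_annih_le (K : Subgroup H) (hcomm : ∀ a b : H, a * b = b * a) :
    Nat.card (annih K) ≤ K.index := by
  haveI : K.Normal := ⟨fun k hk g => by rwa [hcomm g k, mul_inv_cancel_right]⟩
  haveI : Finite (H ⧸ K →* ℂˣ) := Char.monoidHom_complex_finite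
  let F : annih K → (H ⧸ K →* ℂˣ) := fun f => QuotientGroup.lift K f.1 fun c hc => f.2 c hc
  have hF : Function.Injective F := fun f g h => Subtype.ext (MonoidHom.ext fun c =>
    DFunLike.congr_fun h (c : H ⧸ K))
  refine (Nat.card_le_card_of_injective F hF).trans ?_
  rw [Char.card_monoidHom_complex, Subgroup.index_eq_card K]
  exact Nat.le_of_dvd Nat.card_pos (Subgroup.index_dvd_card _)

theorem two_card_le (B A₁ : Subgroup (H →* ℂˣ)) (z : (H →* ℂˣ) → (ZMod n)ˣ → ℂ) :
    2 * (univ.filter (Supp (B ⊔ A₁) z)).card ≤ 2 * (univ.filter (Supp B z)).card +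
      ∑ b : A₁, (univ.filter
        (Supp B (fun f => z f - z ((b : H →* ℂˣ)⁻¹ * f)))).card := by
  set D := (univ.filter (Supp (B ⊔ A₁) z)).filter (fun f => ¬ Supp B z f) with hD
  set T := (univ : Finset A₁).sigma fun b =>
    univ.filter (Supp B (fun f => z f - z ((b : H →* ℂˣ)⁻¹ * f))) with hT
  have h1 : ∀ f ∈ D, ∃ β : A₁, Supp B z ((β : H →* ℂˣ)⁻¹ * f) := fun f hf => by
    simp only [hD, mem_filter, mem_univ, true_and] at hf
    obtain ⟨⟨g, hg, ha⟩, -⟩ := hf
    obtain ⟨x, hx, y, hy, hxy⟩ := Subgroup.mem_sup.mp hg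
    refine ⟨⟨y, hy⟩, g, ?_, ha⟩
    have e : g⁻¹ * (y⁻¹ * f) = x :=
      ((mul_left_comm g⁻¹ y⁻¹ f).trans (congrArg (y⁻¹ * ·) hxy.symm)).trans
        ((congrArg (y⁻¹ * ·) (mul_comm x y)).trans (inv_mul_cancel_left y x))
    exact e ▸ hx
  choose β hβ using h1
  have hdiff : ∀ (b f : H →* ℂˣ),
      ((Supp B z f ∧ ¬ Supp B z (b⁻¹ * f)) ∨ (¬ Supp B z f ∧ Supp B z (b⁻¹ * f))) →
        Supp B (fun f => z f - z (b⁻¹ * f)) f := by
    intro b f h
    rcases h with ⟨⟨g, hg, a, ha⟩, hn⟩ | ⟨hn, g, hg, a, ha⟩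
    · refine ⟨g, hg, a, ?_⟩
      have : z (b⁻¹ * g) a = 0 := by
        by_contra h0
        refine hn ⟨b⁻¹ * g, ?_, a, h0⟩
        have e : (b⁻¹ * g)⁻¹ * (b⁻¹ * f) = g⁻¹ * f := aux_cancel₁ b g f
        exact e ▸ hg
      simp only [Pi.sub_apply, this, sub_zero]
      exact ha
    · have hg' : (b * g)⁻¹ * f ∈ B := by
        have e : (b * g)⁻¹ * f = g⁻¹ * (b⁻¹ * f) := aux_cancel₂ b g f
        exact e ▸ hg
      refine ⟨b * g, hg', a, ?_⟩
      have : z (b * g) a = 0 := by
        by_contra h0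
        exact hn ⟨b * g, hg', a, h0⟩
      have e : b⁻¹ * (b * g) = g := inv_mul_cancel_left b g
      simp only [Pi.sub_apply, this, e, zero_sub, ne_eq, neg_eq_zero]
      exact ha
  have key : (D.disjSum D).card ≤ T.card := by
    let Φ : (H →* ℂˣ) ⊕ (H →* ℂˣ) → (Σ _ : A₁, H →* ℂˣ) := fun
      | .inl f => if h : f ∈ D then ⟨β f h, f⟩ else ⟨1, f⟩
      | .inr f => if h : f ∈ D then ⟨(β f h)⁻¹, ((β f h : H →* ℂˣ))⁻¹ * f⟩ else ⟨1, f⟩
    have hnot : ∀ f ∈ D, ¬ Supp B z f := fun f hf => (mem_filter.mp hf).2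
    refine Finset.card_le_card_of_injOn Φ ?_ ?_
    · intro q hq
      rcases q with f | f <;> simp only [Finset.mem_coe, inl_mem_disjSum, inr_mem_disjSum] at hq
      · simp only [Φ, dif_pos hq, hT, Finset.mem_coe, mem_sigma, mem_univ, mem_filter, true_and]
        exact hdiff _ _ (Or.inr ⟨hnot f hq, hβ f hq⟩)
      · simp only [Φ, dif_pos hq, hT, Finset.mem_coe, mem_sigma, mem_univ, mem_filter, true_and]
        refine hdiff _ _ (Or.inl ⟨hβ f hq, ?_⟩)
        have e : (((β f hq)⁻¹ : A₁) : H →* ℂˣ)⁻¹ * ((β f hq : H →* ℂˣ)⁻¹ * f) = f := by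
          rw [InvMemClass.coe_inv]
          exact (congrArg (· * ((β f hq : H →* ℂˣ)⁻¹ * f)) (inv_inv _)).trans
            (mul_inv_cancel_left (β f hq : H →* ℂˣ) f)
        exact e.symm ▸ hnot f hq
    · intro q hq q' hq' he
      rcases q with f | f <;> rcases q' with g | g <;>
        simp only [Finset.mem_coe, inl_mem_disjSum, inr_mem_disjSum] at hq hq' <;>
        simp only [Φ, dif_pos hq, dif_pos hq', Sigma.mk.injEq, heq_eq_eq] at he
      · rw [he.2]
      · exact absurd (he.2 ▸ hβ g hq') (hnot f hq)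
      · exact absurd (he.2.symm ▸ hβ f hq) (hnot g hq')
      · have := congrArg Subtype.val (inv_injective he.1)
        rw [this] at he
        rw [mul_left_cancel he.2]
  rw [Finset.card_disjSum, hT, Finset.card_sigma] at key
  have hle : (univ.filter (Supp (B ⊔ A₁) z)).card ≤ D.card + (univ.filter (Supp B z)).card := by
    rw [hD, ← Finset.card_filter_add_card_filter_not (s := univ.filter (Supp (B ⊔ A₁) z))
      (fun f => ¬ Supp B z f)]
    simp only [not_not, add_le_add_iff_left]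
    exact Finset.card_le_card fun f hf => by
      simp only [mem_filter, mem_univ, true_and] at hf ⊢; exact hf.2
  omega

theorem good_step (hcomm : ∀ a b : H, a * b = b * a) (K : Subgroup H) {w : H → ℝ}
    {B : Subgroup (H →* ℂˣ)} (h : Good n w B) :
    Good n (fun c => w c * (if c ∈ K then 1 else 1 + (Nat.card (annih K) : ℝ))) (B ⊔ annih K) := by
  intro z hz
  set A₁ := annih K
  let zb : A₁ → (H →* ℂˣ) → (ZMod n)ˣ → ℂ := fun b f => z f - z ((b : H →* ℂˣ)⁻¹ * f)
  have hzb : ∀ b f, zb b f ∈ GalAvg.cycFun n := fun b f => sub_mem (hz f) (hz _)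
  have h1 := h z hz
  have h2 := Finset.sum_le_sum fun b (_ : b ∈ (univ : Finset A₁)) => h (zb b) (hzb b)
  rw [← Finset.mul_sum] at h2
  set F : (ZMod n)ˣ → H → ℂ := fun a c => ∑ f : H →* ℂˣ, z f a * (f c : ℂ)
  have hFb : ∀ (b : A₁) (a : (ZMod n)ˣ) (c : H),
      ∑ f : H →* ℂˣ, zb b f a * (f c : ℂ) = (1 - ((b : H →* ℂˣ) c : ℂ)) * F a c := by
    intro b a c
    have : ∑ f : H →* ℂˣ, z ((b : H →* ℂˣ)⁻¹ * f) a * (f c : ℂ) =
        ((b : H →* ℂˣ) c : ℂ) * F a c := by
      simp only [F, Finset.mul_sum]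
      refine Fintype.sum_equiv (Equiv.mulLeft (b : H →* ℂˣ)⁻¹) _ _ fun f => ?_
      simp only [Equiv.coe_mulLeft, MonoidHom.mul_apply, MonoidHom.inv_apply, Units.val_mul]
      rw [Units.val_inv_eq_inv_val]
      field_simp
    simp only [zb, Pi.sub_apply, sub_mul, Finset.sum_sub_distrib, this]
    ring
  have hb2 : ∀ c : H, ∑ b : A₁, ‖(1 : ℂ) - ((b : H →* ℂˣ) c : ℂ)‖ ^ 2 =
      if c ∈ K then 0 else 2 * (Nat.card A₁ : ℝ) := by
    intro c
    split_ifs with hc
    · refine Finset.sum_eq_zero fun b _ => ?_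
      rw [b.2 c hc, Units.val_one, sub_self, norm_zero]; norm_num
    · obtain ⟨f, hf, hfc⟩ := exists_annih_apply_ne_one hcomm K hc
      let ev : A₁ →* ℂˣ :=
        { toFun := fun b => (b : H →* ℂˣ) c, map_one' := rfl, map_mul' := fun _ _ => rfl }
      have hev : ev ≠ 1 := fun h0 => hfc (DFunLike.congr_fun h0 ⟨f, hf⟩)
      have hs := Char.monoidHom_sum_eq_zero hev
      simp only [ev, MonoidHom.coe_mk, OneHom.coe_mk] at hs
      have : ∀ b : A₁, ((‖(1 : ℂ) - ((b : H →* ℂˣ) c : ℂ)‖ ^ 2 : ℝ) : ℂ) =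
          2 - ((b : H →* ℂˣ) c : ℂ) - conj ((b : H →* ℂˣ) c : ℂ) := fun b => by
        rw [← Complex.normSq_eq_norm_sq, ← Complex.mul_conj, map_sub, map_one, ← val_inv_eq_conj]
        have : ((b : H →* ℂˣ) c : ℂ) * (((b : H →* ℂˣ) c)⁻¹ : ℂˣ) = 1 := Units.mul_inv _
        linear_combination this
      have hC : ((∑ b : A₁, ‖(1 : ℂ) - ((b : H →* ℂˣ) c : ℂ)‖ ^ 2 : ℝ) : ℂ) =
          ((2 * (Nat.card A₁ : ℝ) : ℝ) : ℂ) := by
        rw [Complex.ofReal_sum, Finset.sum_congr rfl fun b _ => this b, Finset.sum_sub_distrib,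
          Finset.sum_sub_distrib, ← map_sum, hs, map_zero, sub_zero, sub_zero, Finset.sum_const,
          Finset.card_univ, nsmul_eq_mul, ← Nat.card_eq_fintype_card]
        push_cast
        ring
      exact_mod_cast hC
  have h2' : ∑ b : A₁, ∑ a : (ZMod n)ˣ, ∑ c : H,
      w c * ‖∑ f : H →* ℂˣ, zb b f a * (f c : ℂ)‖ ^ 2 =
      ∑ a : (ZMod n)ˣ, ∑ c : H, (if c ∈ K then 0 else 2 * (Nat.card A₁ : ℝ)) *
        (w c * ‖F a c‖ ^ 2) := by
    rw [Finset.sum_comm]
    refine Finset.sum_congr rfl fun a _ => ?_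
    rw [Finset.sum_comm]
    refine Finset.sum_congr rfl fun c _ => ?_
    simp only [hFb, norm_mul, mul_pow]
    rw [← hb2, Finset.sum_mul]
    exact Finset.sum_congr rfl fun b _ => by ring
  rw [h2'] at h2
  have h3 : 2 * ∑ a : (ZMod n)ˣ, ∑ c : H,
      w c * (if c ∈ K then 1 else 1 + (Nat.card A₁ : ℝ)) * ‖F a c‖ ^ 2 =
      2 * (∑ a : (ZMod n)ˣ, ∑ c : H, w c * ‖F a c‖ ^ 2) +
      ∑ a : (ZMod n)ˣ, ∑ c : H, (if c ∈ K then 0 else 2 * (Nat.card A₁ : ℝ)) *
        (w c * ‖F a c‖ ^ 2) := by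
    simp only [Finset.mul_sum, ← Finset.sum_add_distrib]
    refine Finset.sum_congr rfl fun a _ => Finset.sum_congr rfl fun c _ => ?_
    split_ifs <;> ring
  have hcast : ((2 * (univ.filter (Supp (B ⊔ A₁) z)).card : ℕ) : ℝ) ≤
      ((2 * (univ.filter (Supp B z)).card + ∑ b : A₁, (univ.filter (Supp B (zb b))).card : ℕ) : ℝ) :=
    Nat.cast_le.mpr (two_card_le B A₁ z)
  push_cast at hcast h2
  have hm := mul_le_mul_of_nonneg_left hcast
    (show (0 : ℝ) ≤ (Nat.card H : ℝ) * Fintype.card (ZMod n)ˣ by positivity)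
  simp only [F] at h3 h1
  linarith

theorem mem_of_forall_ker_trivial (B : Subgroup (H →* ℂˣ))
    (hB : ∀ c : H, (∀ f ∈ B, f c = 1) → c = 1) (f : H →* ℂˣ) : f ∈ B := by
  by_contra hf
  have key : ∑ b : B, ∑ c : H, (((b : H →* ℂˣ) * f⁻¹) c : ℂ) = (Nat.card B : ℂ) := by
    rw [Finset.sum_comm, Finset.sum_eq_single (1 : H)]
    · simp [Nat.card_eq_fintype_card]
    · intro c _ hc
      obtain ⟨b₀, hb₀, hne⟩ : ∃ b₀ ∈ B, b₀ c ≠ 1 := by
        by_contra h; push Not at h; exact hc (hB c h)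
      let ev : B →* ℂˣ :=
        { toFun := fun b => (b : H →* ℂˣ) c, map_one' := rfl, map_mul' := fun _ _ => rfl }
      have hs := Char.monoidHom_sum_eq_zero (f := ev) fun h0 => hne (DFunLike.congr_fun h0 ⟨b₀, hb₀⟩)
      simp only [ev, MonoidHom.coe_mk, OneHom.coe_mk] at hs
      simp only [MonoidHom.mul_apply, Units.val_mul, ← Finset.sum_mul, hs, zero_mul]
    · exact fun h => absurd (Finset.mem_univ _) h
  have h0 : ∑ b : B, ∑ c : H, (((b : H →* ℂˣ) * f⁻¹) c : ℂ) = 0 :=
    Finset.sum_eq_zero fun b _ => Char.monoidHom_sum_eq_zero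
      fun h => hf ((mul_inv_eq_one.mp h : (b : H →* ℂˣ) = f) ▸ b.2)
  rw [h0] at key
  exact Nat.card_pos.ne' (Nat.cast_eq_zero.mp key.symm)

/-- The weight attached to a subgroup `W` of an abelian group on which `L` acts coprimely. -/
theorem exists_weight {X : Type v} [Group X] [Finite X] (V : Subgroup X)
    (hab : ∀ a ∈ V, ∀ b ∈ V, a * b = b * a) (L : Subgroup X) [Fintype ↥L]
    [Fintype (↥L →* ℂˣ)] (hcomm : ∀ a b : ↥L, a * b = b * a)
    (hcop : (Nat.card V).Coprime (Nat.card L)) (W : Subgroup X) (hW : W ≤ V)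
    (hinv : ∀ c : ↥L, ∀ x ∈ W, (c : X) * x * (c : X)⁻¹ ∈ W) :
    ∃ (w : ↥L → ℝ) (B : Subgroup (↥L →* ℂˣ)), (∀ c, 0 ≤ w c) ∧ Good n w B ∧
      (∀ c : ↥L, (∀ f ∈ B, f c = 1) ↔ ∀ x ∈ W, (c : X) * x * (c : X)⁻¹ = x) ∧
      ∀ c : ↥L, w c * Nat.card ↥(W ⊓ Subgroup.centralizer ({(c : X)} : Set X)) ≤ Nat.card W := by
  induction W using WellFoundedLT.induction with
  | _ W ih =>
  by_cases hb : W = ⊥
  · subst hb
    refine ⟨fun _ => 1, ⊥, fun _ => zero_le_one, good_one, fun c => ?_, fun c => by simp⟩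
    exact iff_of_true (fun f hf => by rw [Subgroup.mem_bot.mp hf]; rfl)
      (fun x hx => by simp [Subgroup.mem_bot.mp hx])
  obtain ⟨W', ⟨hW'inv, hW'lt⟩, hmax⟩ := Set.Finite.exists_maximal
    (s := {Y : Subgroup X | (∀ c : ↥L, ∀ x ∈ Y, (c : X) * x * (c : X)⁻¹ ∈ Y) ∧ Y < W})
    (Set.toFinite _) ⟨⊥, fun c x hx => by simp [Subgroup.mem_bot.mp hx], bot_lt_iff_ne_bot.mpr hb⟩
  have hW'V : W' ≤ V := hW'lt.le.trans hW
  obtain ⟨w, B, hw0, hgood, hker, hbound⟩ := ih W' hW'lt hW'V hW'inv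
  let K : Subgroup ↥L :=
    { carrier := {c | ∀ x ∈ W, (c : X) * x * (c : X)⁻¹ * x⁻¹ ∈ W'}
      one_mem' := fun x _ => by simp
      mul_mem' := fun {c d} hc hd x hx => by
        have h1 := W'.mul_mem (hW'inv c _ (hd x hx)) (hc x hx)
        convert h1 using 1
        simp only [Subgroup.coe_mul]; group
      inv_mem' := fun {c} hc x hx => by
        have h1 := hW'inv c⁻¹ _ (W'.inv_mem (hc x hx))
        convert h1 using 1
        simp only [InvMemClass.coe_inv]; group }
  have hfix : ∀ c : ↥L, c ∉ K → ∀ x ∈ W, (c : X) * x * (c : X)⁻¹ * x⁻¹ ∈ W' → x ∈ W' := by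
    intro c hc x hx hx'
    let D : Subgroup X :=
      { carrier := {y | y ∈ W ∧ (c : X) * y * (c : X)⁻¹ * y⁻¹ ∈ W'}
        one_mem' := ⟨W.one_mem, by simp⟩
        mul_mem' := fun {y y'} hy hy' => ⟨W.mul_mem hy.1 hy'.1, by
          have hcy := hW (hinv c y hy.1)
          have hcy' := hW (hinv c y' hy'.1)
          have h1 := W'.mul_mem hy.2 hy'.2
          have hswap : ((c : X) * y' * (c : X)⁻¹ * y'⁻¹) * y⁻¹
              = y⁻¹ * ((c : X) * y' * (c : X)⁻¹ * y'⁻¹) :=
            hab _ (V.mul_mem hcy' (V.inv_mem (hW hy'.1))) _ (V.inv_mem (hW hy.1))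
          convert h1 using 1
          calc (c : X) * (y * y') * (c : X)⁻¹ * (y * y')⁻¹
              = ((c : X) * y * (c : X)⁻¹) * (((c : X) * y' * (c : X)⁻¹ * y'⁻¹) * y⁻¹) := by group
            _ = _ := by rw [hswap]; group⟩
        inv_mem' := fun {y} hy => ⟨W.inv_mem hy.1, by
          have hcy := hW (hinv c y hy.1)
          have h1 := W'.inv_mem hy.2
          convert h1 using 1
          calc (c : X) * y⁻¹ * (c : X)⁻¹ * y⁻¹⁻¹
              = ((c : X) * y * (c : X)⁻¹)⁻¹ * y := by group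
            _ = y * ((c : X) * y * (c : X)⁻¹)⁻¹ := hab _ (V.inv_mem hcy) _ (hW hy.1)
            _ = _ := by group⟩ }
    have hDinv : ∀ d : ↥L, ∀ y ∈ D, (d : X) * y * (d : X)⁻¹ ∈ D := fun d y hy =>
      ⟨hinv d y hy.1, by
        have hcd : (c : X) * (d : X) = (d : X) * (c : X) := congrArg Subtype.val (hcomm c d)
        have hcd' : (d : X)⁻¹ * (c : X)⁻¹ = (c : X)⁻¹ * (d : X)⁻¹ := by
          rw [← mul_inv_rev, ← mul_inv_rev, hcd]
        have h1 := hW'inv d _ hy.2
        convert h1 using 1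
        calc (c : X) * ((d : X) * y * (d : X)⁻¹) * (c : X)⁻¹ * ((d : X) * y * (d : X)⁻¹)⁻¹
            = ((c : X) * (d : X)) * y * ((d : X)⁻¹ * (c : X)⁻¹) *
                ((d : X) * y⁻¹ * (d : X)⁻¹) := by group
          _ = _ := by rw [hcd, hcd']; group⟩
    have hle : W' ≤ D := fun y hy => ⟨hW'lt.le hy, W'.mul_mem (hW'inv c y hy) (W'.inv_mem hy)⟩
    have hDW : D < W := lt_of_le_of_ne (fun y hy => hy.1) fun he => hc fun y hy =>
      ((SetLike.ext_iff.mp he y).mpr hy).2
    exact hmax ⟨hDinv, hDW⟩ hle ⟨hx, hx'⟩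
  set m : ℝ := (Nat.card (annih K) : ℝ)
  refine ⟨fun c => w c * (if c ∈ K then 1 else 1 + m), B ⊔ annih K, fun c =>
    mul_nonneg (hw0 c) (by split_ifs <;> positivity), good_step hcomm K hgood, fun c => ?_,
    fun c => ?_⟩
  · constructor
    · intro h x hx
      have hc1 := (hker c).mp fun f hf => h f (Subgroup.mem_sup_left hf)
      have hcK : c ∈ K := by
        by_contra hcK
        obtain ⟨f, hf, hne⟩ := exists_annih_apply_ne_one hcomm K hcK
        exact hne (h f (Subgroup.mem_sup_right hf))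
      set y := (c : X) * x * (c : X)⁻¹ * x⁻¹
      have hy : y ∈ W' := hcK x hx
      have hj : ∀ j : ℕ, (c : X) ^ j * x * ((c : X) ^ j)⁻¹ = y ^ j * x := by
        intro j
        induction j with
        | zero => simp
        | succ j ihj =>
          calc (c : X) ^ (j + 1) * x * ((c : X) ^ (j + 1))⁻¹
              = (c : X) * ((c : X) ^ j * x * ((c : X) ^ j)⁻¹) * (c : X)⁻¹ := by
                rw [pow_succ']; group
            _ = ((c : X) * y * (c : X)⁻¹) ^ j * ((c : X) * x * (c : X)⁻¹) := by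
                rw [ihj, conj_pow]; group
            _ = _ := by rw [hc1 y hy, pow_succ]; simp [y, mul_assoc]
      have h1 := hj (Nat.card L)
      have hcL : (c : X) ^ Nat.card L = 1 := congrArg Subtype.val (pow_card_eq_one' (x := c))
      rw [hcL, one_mul, inv_one, mul_one] at h1
      replace h1 : y ^ Nat.card L = 1 := mul_eq_right.mp h1.symm
      have h2 : y ^ Nat.card V = 1 :=
        congrArg Subtype.val (pow_card_eq_one' (x := (⟨y, hW'V hy⟩ : ↥V)))
      have h3 : y = 1 := by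
        have := pow_gcd_eq_one.mpr ⟨h2, h1⟩
        rwa [hcop, pow_one] at this
      exact mul_inv_eq_one.mp h3
    · intro h f hf
      have hle : B ⊔ annih K ≤
          ({ carrier := {f | f c = 1}, one_mem' := rfl,
             mul_mem' := fun {f g} hf hg => by
               show (f * g) c = 1
               rw [MonoidHom.mul_apply, show f c = 1 from hf, show g c = 1 from hg, one_mul],
             inv_mem' := fun {f} hf => by
               show f⁻¹ c = 1
               rw [MonoidHom.inv_apply, show f c = 1 from hf, inv_one] } :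
            Subgroup (↥L →* ℂˣ)) :=
        sup_le (fun f hf => (hker c).mpr (fun x hx => h x (hW'lt.le hx)) f hf)
          fun f hf => hf c fun x hx => by rw [h x hx, mul_inv_cancel]; exact W'.one_mem
      exact hle hf
  · set C := Subgroup.centralizer ({(c : X)} : Set X)
    have hcardW : Nat.card W = Nat.card W' * W'.relIndex W := by
      rw [← Nat.card_congr (Subgroup.subgroupOfEquivOfLe hW'lt.le).toEquiv]
      exact (Subgroup.card_mul_index _).symm
    have hr0 : W'.relIndex W ≠ 0 := Subgroup.index_ne_zero_of_finite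
    by_cases hc : c ∈ K
    · simp only [if_pos hc, mul_one]
      have h1 : Nat.card ↥(W ⊓ C) ≤ Nat.card ↥(W' ⊓ C) * W'.relIndex W := by
        have hle : W' ⊓ C ≤ W ⊓ C := inf_le_inf_right _ hW'lt.le
        rw [← Subgroup.card_mul_index ((W' ⊓ C).subgroupOf (W ⊓ C)),
          Nat.card_congr (Subgroup.subgroupOfEquivOfLe hle).toEquiv]
        refine Nat.mul_le_mul_left _ ?_
        have he : W' ⊓ C = W' ⊓ (W ⊓ C) := by
          rw [← inf_assoc, inf_eq_left.mpr hW'lt.le]
        show (W' ⊓ C).relIndex (W ⊓ C) ≤ _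
        rw [he, Subgroup.inf_relIndex_right]
        exact Subgroup.relIndex_le_of_le_right inf_le_left hr0
      calc w c * Nat.card ↥(W ⊓ C) ≤ w c * ((Nat.card ↥(W' ⊓ C) * W'.relIndex W : ℕ) : ℝ) :=
            mul_le_mul_of_nonneg_left (Nat.cast_le.mpr h1) (hw0 c)
        _ = w c * Nat.card ↥(W' ⊓ C) * W'.relIndex W := by push_cast; ring
        _ ≤ Nat.card W' * W'.relIndex W := mul_le_mul_of_nonneg_right (hbound c) (Nat.cast_nonneg _)
        _ = _ := by rw [hcardW]; push_cast; ring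
    · simp only [if_neg hc]
      have h1 : W ⊓ C = W' ⊓ C := by
        refine le_antisymm (fun x hx => ⟨hfix c hc x hx.1 ?_, hx.2⟩) (inf_le_inf_right _ hW'lt.le)
        rw [← (Subgroup.mem_centralizer_singleton_iff.mp hx.2)]
        simp
      obtain ⟨x, hxW, hxW'⟩ := SetLike.exists_of_lt hW'lt
      let Ψ : Option (↥L ⧸ K) → ↥W ⧸ W'.subgroupOf W := fun q => q.elim (QuotientGroup.mk 1)
        fun d => QuotientGroup.mk ⟨(d.out : X) * x * ((d.out : X))⁻¹, hinv d.out x hxW⟩
      have hΨ : Function.Injective Ψ := by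
        have hne : ∀ d : ↥L ⧸ K, Ψ none ≠ Ψ (some d) := by
          intro d he
          simp only [Ψ, Option.elim, QuotientGroup.eq, Subgroup.mem_subgroupOf, inv_one,
            one_mul] at he
          have h2 := hW'inv d.out⁻¹ _ he
          refine hxW' ?_
          convert h2 using 1
          simp only [InvMemClass.coe_inv]; group
        rintro (_ | d) (_ | e) he
        · rfl
        · exact absurd he (hne e)
        · exact absurd he.symm (hne d)
        · simp only [Ψ, Option.elim, QuotientGroup.eq, Subgroup.mem_subgroupOf] at he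
          congr 1
          rw [← QuotientGroup.out_eq' d, ← QuotientGroup.out_eq' e, QuotientGroup.eq]
          by_contra hK
          refine hxW' (hfix _ hK x hxW ?_)
          have hdV := hW (hinv d.out x hxW)
          have heV := hW (hinv e.out x hxW)
          have h2 := hW'inv d.out⁻¹ _ he
          simp only [Subgroup.coe_mul, InvMemClass.coe_inv] at h2 ⊢
          rw [hab _ (V.inv_mem hdV) _ heV] at h2
          convert h2 using 1
          group
      have h2 : K.index + 1 ≤ W'.relIndex W := by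
        have := Nat.card_le_card_of_injective Ψ hΨ
        rwa [Finite.card_option] at this
      have h3 : (1 + m : ℝ) ≤ (W'.relIndex W : ℝ) := by
        have := card_annih_le K hcomm
        calc (1 + m : ℝ) = ((1 + Nat.card (annih K) : ℕ) : ℝ) := by push_cast; rfl
          _ ≤ _ := Nat.cast_le.mpr (by omega)
      rw [h1]
      calc w c * (1 + m) * Nat.card ↥(W' ⊓ C) = w c * Nat.card ↥(W' ⊓ C) * (1 + m) := by ring
        _ ≤ Nat.card W' * (W'.relIndex W : ℝ) :=
            mul_le_mul (hbound c) h3 (by positivity) (Nat.cast_nonneg _)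
        _ = _ := by rw [hcardW]; push_cast; ring

end Cfsg.Agent.AbWeight
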