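import Cfsg.Agent.BlkChar.LocalTrace
import Cfsg.Agent.Block.Idempotent
import Cfsg.Agent.Brauer.ResAlgClosed
import Cfsg.Agent.Char.Orthogonality
import Mathlib.LinearAlgebra.Trace
import Mathlib.LinearAlgebra.Matrix.ToLin

/-!
# The block algebra over the residue field

Ranks of idempotent matrices survive reduction, so the block algebra `e F G` has dimension
`∑ χ(1) ^ 2` and its commutator quotient has dimension `|B|`.
-/

set_option autoImplicit false
set_option linter.style.haveILetI false
set_option linter.unusedSectionVars false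

namespace Cfsg.Agent.BlkChar.BlockAlg

open Cfsg MonoidAlgebra
open Cfsg.Agent.Block
open scoped ComplexConjugate Classical

/-! ### Ranks of idempotent matrices under reduction -/

section Rank

variable {O F K : Type*} [CommRing O] [Field F] [Field K] [CharZero K] {n : Type*} [Fintype n]
  [DecidableEq n]

theorem finrank_range_map_le (φ : O →+* F) (hφ : Function.Surjective φ) (ι : O →+* K)
    (hι : Function.Injective ι) (E : Matrix n n O) :
    Module.finrank F (LinearMap.range (E.map φ).mulVecLin) ≤
      Module.finrank K (LinearMap.range (E.map ι).mulVecLin) := by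
  set m := Module.finrank F (LinearMap.range (E.map φ).mulVecLin)
  obtain ⟨β⟩ : Nonempty (Module.Basis (Fin m) F (LinearMap.range (E.map φ).mulVecLin)) :=
    ⟨Module.finBasis F _⟩
  -- preimages with coefficients in `O`
  have hpre : ∀ i, ∃ v : n → O, (E.map φ).mulVec (φ ∘ v) = (β i : n → F) := by
    intro i
    obtain ⟨w, hw⟩ := LinearMap.mem_range.1 (β i).2
    choose v hv using fun t => hφ (w t)
    exact ⟨v, by rw [show φ ∘ v = w from funext hv]; exact hw⟩
  choose v hv using hpre
  set W : Matrix n (Fin m) O := Matrix.of fun t i => (E.mulVec (v i)) t with hW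
  have hWF : ∀ i, (W.map φ).mulVec (Pi.single i 1) = (β i : n → F) := by
    intro i
    rw [← hv i]
    funext t
    rw [Matrix.mulVec_single_one]
    show φ ((E.mulVec (v i)) t) = _
    rw [RingHom.map_mulVec]
  have hinjF : LinearMap.ker (W.map φ).mulVecLin = ⊥ := by
    rw [LinearMap.ker_eq_bot']
    intro c hc
    have h1 : ∑ i, c i • (β i : n → F) = 0 := by
      rw [← hc]
      simp only [Matrix.mulVecLin_apply, ← hWF, ← Matrix.mulVec_smul, ← Matrix.mulVec_sum]
      congr 1
      funext t
      simp [Finset.sum_apply, Pi.single_apply]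
    have h2 := Fintype.linearIndependent_iff.1 β.linearIndependent c (Subtype.ext (by simpa using h1))
    exact funext h2
  obtain ⟨g, hg⟩ := LinearMap.exists_leftInverse_of_injective _ hinjF
  choose L hL using fun i t => hφ (LinearMap.toMatrix' g i t)
  have hLW : ((Matrix.of L : Matrix (Fin m) n O) * W).map φ = 1 := by
    rw [Matrix.map_mul, show (Matrix.of L : Matrix (Fin m) n O).map φ = LinearMap.toMatrix' g from
      Matrix.ext hL]
    have h := congrArg LinearMap.toMatrix' hg
    rwa [LinearMap.toMatrix'_comp, LinearMap.toMatrix'_id, ← Matrix.toLin'_apply',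
      LinearMap.toMatrix'_toLin'] at h
  have hdet : φ ((Matrix.of L : Matrix (Fin m) n O) * W).det = 1 := by
    rw [RingHom.map_det, RingHom.mapMatrix_apply, hLW, Matrix.det_one]
  have hdetK : (((Matrix.of L : Matrix (Fin m) n O).map ι) * W.map ι).det ≠ 0 := by
    rw [← Matrix.map_mul, ← RingHom.mapMatrix_apply, ← RingHom.map_det,
      (map_ne_zero_iff _ hι)]
    intro h0
    rw [h0, map_zero] at hdet
    exact zero_ne_one hdet
  have hinjK : Function.Injective (W.map ι).mulVecLin := by
    rw [← LinearMap.ker_eq_bot, LinearMap.ker_eq_bot']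
    intro c hc
    by_contra hne
    refine hdetK (Matrix.exists_mulVec_eq_zero_iff.1 ⟨c, hne, ?_⟩)
    rw [← Matrix.mulVec_mulVec, show (W.map ι).mulVec c = 0 from hc, Matrix.mulVec_zero]
  have hle : LinearMap.range (W.map ι).mulVecLin ≤ LinearMap.range (E.map ι).mulVecLin := by
    rintro _ ⟨c, rfl⟩
    refine ⟨∑ i, c i • (ι ∘ v i), ?_⟩
    simp only [Matrix.mulVecLin_apply, Matrix.mulVec_sum, Matrix.mulVec_smul]
    funext t
    simp only [Finset.sum_apply, Pi.smul_apply, smul_eq_mul, Matrix.mulVec, dotProduct,
      Matrix.map_apply, hW, Matrix.of_apply, map_sum, map_mul, Function.comp_apply]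
    exact Finset.sum_congr rfl fun i _ => mul_comm _ _
  have h := Submodule.finrank_mono hle
  rwa [LinearMap.finrank_range_of_inj hinjK, Module.finrank_fin_fun] at h

theorem finrank_range_add_compl {R : Type*} [Field R] (A : Matrix n n R) (hA : A * A = A) :
    Module.finrank R (LinearMap.range A.mulVecLin) +
      Module.finrank R (LinearMap.range (1 - A).mulVecLin) = Fintype.card n := by
  have hker : LinearMap.ker A.mulVecLin = LinearMap.range (1 - A).mulVecLin := by
    ext x
    simp only [LinearMap.mem_ker, LinearMap.mem_range, Matrix.mulVecLin_apply]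
    refine ⟨fun h => ⟨x, by rw [Matrix.sub_mulVec, Matrix.one_mulVec, h, sub_zero]⟩, ?_⟩
    rintro ⟨y, rfl⟩
    rw [Matrix.mulVec_mulVec, mul_sub, mul_one, hA, sub_self, Matrix.zero_mulVec]
  rw [← hker, LinearMap.finrank_range_add_finrank_ker, Module.finrank_fintype_fun_eq_card]

theorem finrank_range_map_eq_trace (φ : O →+* F) (hφ : Function.Surjective φ) (ι : O →+* K)
    (hι : Function.Injective ι) (E : Matrix n n O) (hE : E * E = E) :
    ((Module.finrank F (LinearMap.range (E.map φ).mulVecLin) : ℕ) : K) = (E.map ι).trace := by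
  have e1 := finrank_range_add_compl (E.map φ) (by rw [← Matrix.map_mul, hE])
  have e2 := finrank_range_add_compl (E.map ι) (by rw [← Matrix.map_mul, hE])
  have l1 := finrank_range_map_le φ hφ ι hι E
  have l2 := finrank_range_map_le φ hφ ι hι (1 - E)
  rw [show (1 - E).map φ = 1 - E.map φ by
      rw [← RingHom.mapMatrix_apply, map_sub, map_one, RingHom.mapMatrix_apply],
    show (1 - E).map ι = 1 - E.map ι by
      rw [← RingHom.mapMatrix_apply, map_sub, map_one, RingHom.mapMatrix_apply]] at l2
  have heq : Module.finrank F (LinearMap.range (E.map φ).mulVecLin) =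
      Module.finrank K (LinearMap.range (E.map ι).mulVecLin) := by omega
  rw [heq]
  have hproj : LinearMap.IsProj (LinearMap.range (E.map ι).mulVecLin) (E.map ι).mulVecLin := by
    refine ⟨fun x => LinearMap.mem_range_self _ x, ?_⟩
    rintro _ ⟨y, rfl⟩
    simp only [Matrix.mulVecLin_apply, Matrix.mulVec_mulVec, ← Matrix.map_mul, hE]
  rw [← hproj.trace, ← Matrix.toLin'_apply', Matrix.trace_toLin'_eq]

end Rank

/-! ### The operators of a central element -/

noncomputable local instance conjClassesFintype {G : Type*} [Group G] [Fintype G] :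
    Fintype (ConjClasses G) := by
  haveI : Finite (ConjClasses G) := Finite.of_surjective _ ConjClasses.mk_surjective
  exact Fintype.ofFinite _

section Ops

variable {R : Type*} [CommRing R] {G : Type*} [Group G] [Fintype G]

/-- Left multiplication, as a matrix. -/
noncomputable def mulMat (a : MonoidAlgebra R G) : Matrix G G R :=
  Matrix.of fun x y => a.coeff (x * y⁻¹)

theorem mulMat_mulVec (a b : MonoidAlgebra R G) :
    (mulMat a).mulVec (fun g => b.coeff g) = fun g => (a * b).coeff g := by
  funext g
  rw [coeff_mul_sum' a b]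
  rfl

/-- The class sums of coefficients. -/
noncomputable def classProj (b : MonoidAlgebra R G) : ConjClasses G → R :=
  fun c => ∑ g : G, if ConjClasses.mk g = c then b.coeff g else 0

/-- The action of `a` on the class sums of coefficients. -/
noncomputable def classMat (a : MonoidAlgebra R G) : Matrix (ConjClasses G) (ConjClasses G) R :=
  Matrix.of fun c c' => ∑ g : G, if ConjClasses.mk g = c then a.coeff (g * (Quotient.out c')⁻¹) else 0

theorem classProj_mul {a : MonoidAlgebra R G} (ha : IsCentralElt a) (b : MonoidAlgebra R G) :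
    classProj (a * b) = (classMat a).mulVec (classProj b) := by
  funext c
  have hindep : ∀ y : G, (∑ g : G, if ConjClasses.mk g = c then a.coeff (g * y⁻¹) else 0) =
      classMat a c (ConjClasses.mk y) := by
    intro y
    obtain ⟨t, ht⟩ := isConj_iff.1 (ConjClasses.mk_eq_mk_iff_isConj.1
      (Quotient.out_eq (ConjClasses.mk y) : ConjClasses.mk _ = ConjClasses.mk y))
    rw [classMat, Matrix.of_apply]
    refine Fintype.sum_equiv (MulAut.conj t⁻¹).toEquiv _ _ fun g => ?_
    show _ = if ConjClasses.mk (t⁻¹ * g * t⁻¹⁻¹) = c then _ else _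
    refine if_congr ?_ ?_ rfl
    · rw [ConjClasses.mk_eq_mk_iff_isConj.2 (isConj_iff.2 ⟨t⁻¹, rfl⟩ :
        IsConj g (t⁻¹ * g * t⁻¹⁻¹))]
    · show a.coeff (g * y⁻¹) = a.coeff (t⁻¹ * g * t⁻¹⁻¹ * _)
      rw [← ha (g * y⁻¹) t⁻¹]
      congr 1
      generalize Quotient.out (ConjClasses.mk y) = o at ht ⊢
      subst ht; group
  simp only [classProj, coeff_mul_sum' a b, Matrix.mulVec, dotProduct]
  calc (∑ g : G, if ConjClasses.mk g = c then ∑ y, a.coeff (g * y⁻¹) * b.coeff y else 0)
      = ∑ y : G, (∑ g : G, if ConjClasses.mk g = c then a.coeff (g * y⁻¹) else 0) * b.coeff y := by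
        simp only [← Finset.sum_filter, Finset.sum_mul]
        exact Finset.sum_comm
    _ = ∑ y : G, classMat a c (ConjClasses.mk y) * b.coeff y := by simp only [hindep]
    _ = _ := by
        simp only [Finset.mul_sum, mul_ite, mul_zero]
        rw [Finset.sum_comm]
        exact Finset.sum_congr rfl fun y _ => by simp

theorem classProj_single (g : G) (r : R) :
    classProj (single g r) = Pi.single (ConjClasses.mk g) r := by
  funext c
  simp only [classProj, coeff_single, Finsupp.single_apply]
  rw [Finset.sum_eq_single g]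
  · simp [Pi.single_apply, eq_comm]
  · intro x _ hx; simp [Ne.symm hx]
  · simp

theorem classProj_surjective : Function.Surjective (classProj : MonoidAlgebra R G → _) := by
  intro f
  refine ⟨∑ c : ConjClasses G, single (Quotient.out c) (f c), ?_⟩
  funext c
  have h : classProj (∑ c : ConjClasses G, single (Quotient.out c) (f c)) c =
      ∑ c' : ConjClasses G, classProj (single (Quotient.out c') (f c')) c := by
    simp only [classProj, coeff_sum, Finsupp.finsetSum_apply]
    rw [Finset.sum_comm]
    exact Finset.sum_congr rfl fun g _ => by split_ifs <;> simp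
  rw [h]
  simp only [classProj_single]
  rw [Finset.sum_eq_single c]
  · simp [show ConjClasses.mk (Quotient.out c) = c from Quotient.out_eq c]
  · intro c' _ hne
    rw [show ConjClasses.mk (Quotient.out c') = c' from Quotient.out_eq c',
      Pi.single_eq_of_ne hne.symm]
  · simp

theorem classMat_mul_self {a : MonoidAlgebra R G} (ha : IsCentralElt a) (h : a * a = a) :
    classMat a * classMat a = classMat a := by
  refine Matrix.ext_of_mulVec_single fun c => ?_
  obtain ⟨b, hb⟩ := classProj_surjective (Pi.single c (1 : R))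
  rw [← Matrix.mulVec_mulVec, ← hb, ← classProj_mul ha, ← classProj_mul ha, ← mul_assoc, h]

theorem mulMat_mul_self {a : MonoidAlgebra R G} (h : a * a = a) :
    mulMat a * mulMat a = mulMat a := by
  refine Matrix.ext_of_mulVec_single fun y => ?_
  obtain ⟨b, hb⟩ : ∃ b : MonoidAlgebra R G, (fun g => b.coeff g) = Pi.single y 1 :=
    ⟨single y 1, funext fun g => by simp [coeff_single, Finsupp.single_apply, Pi.single_apply, eq_comm]⟩
  rw [← Matrix.mulVec_mulVec, ← hb, mulMat_mulVec, mulMat_mulVec, ← mul_assoc, h]

theorem mulMat_mapR {S : Type*} [CommRing S] (f : R →+* S) (a : MonoidAlgebra R G) :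
    (mulMat a).map f = mulMat (mapR f a) := by
  ext x y
  simp [mulMat]

theorem classMat_mapR {S : Type*} [CommRing S] (f : R →+* S) (a : MonoidAlgebra R G) :
    (classMat a).map f = classMat (mapR f a) := by
  ext c c'
  simp [classMat, apply_ite f]

end Ops

/-! ### The two dimensions -/

universe u

variable {G : Type u} [Group G] [Fintype G] {p : ℕ} {M : Ideal AlgInt} [M.IsPrime]
  {B : Set (IrrCharacter G)}

theorem trace_mulMat_blockIdem (B : Set (IrrCharacter G)) :
    (mulMat (blockIdem B)).trace = ∑ χ ∈ Finset.univ.filter (· ∈ B), (χ : G → ℂ) 1 ^ 2 := by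
  have hG : (Nat.card G : ℂ) ≠ 0 := Nat.cast_ne_zero.2 Nat.card_pos.ne'
  simp only [Matrix.trace, Matrix.diag, mulMat, Matrix.of_apply, mul_inv_cancel, coeff_blockIdem,
    Finset.sum_const, Finset.card_univ, nsmul_eq_mul, ← Nat.card_eq_fintype_card]
  rw [blockCoeff_eq_sum, Finset.mul_sum, Finset.mul_sum]
  refine Finset.sum_congr rfl fun χ _ => ?_
  obtain ⟨d, -, hd⟩ := Char.irr_one_pos χ.2
  rw [hd, Complex.conj_natCast]
  field_simp

theorem trace_classMat_blockIdem (B : Set (IrrCharacter G)) :
    (classMat (blockIdem B)).trace = (Nat.card B : ℂ) := by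
  have hG : (Nat.card G : ℂ) ≠ 0 := Nat.cast_ne_zero.2 Nat.card_pos.ne'
  set f : G → ℂ := fun g => (blockIdem B).coeff g with hf
  set T : G → ℂ := fun h => ∑ χ ∈ Finset.univ.filter (· ∈ B), (χ : G → ℂ) h * conj ((χ : G → ℂ) h)
    with hT
  -- averaging over the conjugates
  have havg : ∀ h : G, ∑ x : G, f (x * h * x⁻¹ * h⁻¹) = T h := by
    intro h
    simp only [hf, coeff_blockIdem, blockCoeff_eq_sum, ← Finset.mul_sum, hT]
    rw [Finset.sum_comm, Finset.mul_sum]
    refine Finset.sum_congr rfl fun χ _ => ?_
    have e1 : ∀ x : G, (x * h * x⁻¹ * h⁻¹)⁻¹ = h * (x * h⁻¹ * x⁻¹) := fun x => by group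
    have e2 : ∀ x : G, conj ((χ : G → ℂ) (x * h * x⁻¹ * h⁻¹)) =
        (χ : G → ℂ) (h * (x * h⁻¹ * x⁻¹)) := fun x => by
      rw [← e1, Char.irr_inv χ.2]
    simp only [e2]
    rw [← Finset.mul_sum, sum_char_mul_conj χ.2, Char.irr_inv χ.2]
    have h1 : (χ : G → ℂ) 1 ≠ 0 := Char.irr_one_ne_zero χ.2
    field_simp
  have hcount : ∀ h : G, ∑ x : G, f (x * h * x⁻¹ * h⁻¹) =
      (Nat.card (Subgroup.centralizer ({h} : Set G)) : ℂ) *
        ∑ g : G, if ConjClasses.mk g = ConjClasses.mk h then f (g * h⁻¹) else 0 := by
    intro h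
    rw [← Finset.sum_fiberwise (Finset.univ : Finset G) (fun x => x * h * x⁻¹), Finset.mul_sum]
    refine Finset.sum_congr rfl fun g _ => ?_
    rw [Finset.sum_congr rfl (g := fun _ => f (g * h⁻¹)) (fun x hx => by
      rw [(Finset.mem_filter.1 hx).2]), Finset.sum_const, nsmul_eq_mul]
    by_cases hg : ConjClasses.mk g = ConjClasses.mk h
    · rw [if_pos hg]
      congr 2
      obtain ⟨t, rfl⟩ := isConj_iff.1 (ConjClasses.mk_eq_mk_iff_isConj.1 hg.symm)
      rw [Nat.card_eq_fintype_card, ← Finset.card_univ]
      refine Finset.card_bij' (fun x hx => (⟨t⁻¹ * x, ?_⟩ : Subgroup.centralizer ({h} : Set G)))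
        (fun z _ => t * (z : G)) ?_ ?_ ?_ ?_
      · have hx' := (Finset.mem_filter.1 hx).2
        rw [Subgroup.mem_centralizer_singleton_iff]
        have h2 := congrArg (fun w => t⁻¹ * w * x) hx'
        simpa [mul_assoc] using h2
      · intro x _; simp
      · intro z _
        refine Finset.mem_filter.2 ⟨Finset.mem_univ _, ?_⟩
        calc t * (z : G) * h * (t * (z : G))⁻¹ = t * ((z : G) * h * (z : G)⁻¹) * t⁻¹ := by group
          _ = _ := by rw [Subgroup.mem_centralizer_singleton_iff.1 z.2, mul_inv_cancel_right]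
      · intro x _; simp
      · intro z _; simp
    · rw [if_neg hg, mul_zero, Finset.filter_false_of_mem, Finset.card_empty, Nat.cast_zero, zero_mul]
      intro x _ hx
      exact hg (ConjClasses.mk_eq_mk_iff_isConj.2 (isConj_iff.2 ⟨x, hx⟩).symm)
  have hdiag : ∀ c : ConjClasses G, classMat (blockIdem B) c c * (Nat.card G : ℂ) =
      ∑ g : G, if ConjClasses.mk g = c then T g else 0 := by
    intro c
    set h := Quotient.out c with hh
    have hc : ConjClasses.mk h = c := Quotient.out_eq c
    have hTc : ∀ g : G, ConjClasses.mk g = c → T g = T h := by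
      intro g hg
      simp only [hT]
      refine Finset.sum_congr rfl fun χ _ => ?_
      rw [Char.isClassFunction_eq_of_isConj (Char.irr_isClassFunction χ.2)
        (ConjClasses.mk_eq_mk_iff_isConj.1 (hg.trans hc.symm))]
    have hset : Finset.univ.filter (fun g : G => ConjClasses.mk g = c) =
        Finset.univ.filter (fun g : G => IsConj h g) := by
      refine Finset.filter_congr fun g _ => ?_
      rw [← hc, ConjClasses.mk_eq_mk_iff_isConj]
      exact ⟨IsConj.symm, IsConj.symm⟩
    have hmul : ((Finset.univ.filter (fun g : G => ConjClasses.mk g = c)).card : ℂ) *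
        (Nat.card (Subgroup.centralizer ({h} : Set G)) : ℂ) = (Nat.card G : ℂ) := by
      rw [hset, ← Nat.cast_mul]
      congr 1
      convert Char.card_isConj_mul_card_centralizer h
    rw [← Finset.sum_filter, Finset.sum_congr rfl (g := fun _ => T h)
      (fun g hg => hTc g (Finset.mem_filter.1 hg).2), Finset.sum_const, nsmul_eq_mul, ← havg,
      hcount, hc, ← mul_assoc, hmul, classMat, Matrix.of_apply, mul_comm]
  refine mul_right_cancel₀ hG ?_
  simp only [Matrix.trace, Matrix.diag, Finset.sum_mul, hdiag]
  rw [Finset.sum_comm]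
  simp only [Finset.sum_ite_eq, Finset.mem_univ, if_true, hT]
  rw [Finset.sum_comm]
  have hn : ∀ χ : IrrCharacter G, ∑ g : G, (χ : G → ℂ) g * conj ((χ : G → ℂ) g) = Nat.card G := by
    intro χ
    rw [Char.sum_mul_conj_eq_card_mul_classInner, Char.classInner_irrCharacter, if_pos rfl, mul_one]
  rw [Finset.sum_congr rfl fun χ _ => hn χ, Finset.sum_const, nsmul_eq_mul]
  congr 2
  rw [Nat.card_eq_fintype_card, Fintype.card_subtype]

theorem finrank_range_mulMat (hB : IsPBlock M B) :
    ((Module.finrank (ResF M) (LinearMap.range (mulMat (idemF M B)).mulVecLin) : ℕ) : ℂ) =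
      ∑ χ ∈ Finset.univ.filter (· ∈ B), (χ : G → ℂ) 1 ^ 2 := by
  have h := finrank_range_map_eq_trace (red M) red_surjective (localRing M).subtype
    Subtype.val_injective (mulMat (idemS M B)) (mulMat_mul_self (idemS_mul_self hB))
  rw [mulMat_mapR, mulMat_mapR] at h
  rw [show toC M (idemS M B) = mapR (localRing M).subtype (idemS M B) from rfl] at *
  rw [show idemF M B = mapR (red M) (idemS M B) from rfl, h,
    show mapR (localRing M).subtype (idemS M B) = blockIdem B from toC_idemS hB,
    trace_mulMat_blockIdem]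

theorem finrank_range_classMat (hB : IsPBlock M B) :
    ((Module.finrank (ResF M) (LinearMap.range (classMat (idemF M B)).mulVecLin) : ℕ) : ℂ) =
      (Nat.card B : ℂ) := by
  have h := finrank_range_map_eq_trace (red M) red_surjective (localRing M).subtype
    Subtype.val_injective (classMat (idemS M B))
    (classMat_mul_self (idemS_isCentralElt B) (idemS_mul_self hB))
  rw [classMat_mapR, classMat_mapR] at h
  rw [show idemF M B = mapR (red M) (idemS M B) from rfl, h,
    show mapR (localRing M).subtype (idemS M B) = blockIdem B from toC_idemS hB,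
    trace_classMat_blockIdem]

/-- A central idempotent below the block idempotent is zero or that idempotent. -/
theorem eq_zero_or_eq_idemF (hB : IsPBlock M B) {x : MonoidAlgebra (ResF M) G}
    (hx : IsCentralElt x) (hxx : x * x = x) (hle : idemF M B * x = x) :
    x = 0 ∨ x = idemF M B := by
  obtain ⟨χ₀, hχ₀⟩ := pBlock_nonempty hB
  have hl : IsIdempotentElem (lam M (χ₀ : G → ℂ) x) := by
    show _ * _ = _
    rw [← lam_mul χ₀.2 hx hx, hxx]
  have hconst : ∀ χ ∈ B, lam M ((χ : IrrCharacter G) : G → ℂ) x = lam M (χ₀ : G → ℂ) x :=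
    fun χ hχ => lam_eq_of_sameBlock χ.2 χ₀.2 (pBlock_sameBlock hB hχ hχ₀) x
  have hzero : ∀ y : MonoidAlgebra (ResF M) G, IsCentralElt y → y * y = y → idemF M B * y = y →
      (∀ χ ∈ B, lam M ((χ : IrrCharacter G) : G → ℂ) y = 0) → y = 0 := by
    intro y hy hyy hey h
    obtain ⟨n, hn⟩ := isNilpotent_idemF_mul hB hy h
    rw [hey] at hn
    rcases n with _ | n
    · exact eq_zero_of_zero_eq_one (by simpa using hn.symm) _
    · rwa [(show IsIdempotentElem y from hyy).pow_succ_eq] at hn
  rcases IsIdempotentElem.iff_eq_zero_or_one.1 hl with h | h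
  · exact Or.inl (hzero x hx hxx hle fun χ hχ => (hconst χ hχ).trans h)
  · refine Or.inr (sub_eq_zero.1 (hzero _ ((idemF_isCentralElt B).sub hx) ?_ ?_ fun χ hχ => ?_)).symm
    · rw [sub_mul, mul_sub, mul_sub, idemF_mul_self hB, hle, hxx,
        isCentralElt_commute hx (idemF M B), hle]
      abel
    · rw [mul_sub, idemF_mul_self hB, hle]
    · rw [lam_sub χ.2 (idemF_isCentralElt B) hx, lam_idemF_of_mem hB hχ, hconst χ hχ, h, sub_self]

/-! ### A block with two members -/

/-- The annihilator of an idempotent central element. -/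
noncomputable def annIdeal {k : Type*} [Field k] (e : MonoidAlgebra k G) :
    Ideal (MonoidAlgebra k G) where
  carrier := {x | x * e = 0}
  zero_mem' := zero_mul e
  add_mem' {a b} ha hb := by
    show (a + b) * e = 0
    rw [add_mul, show a * e = 0 from ha, show b * e = 0 from hb, add_zero]
  smul_mem' c x hx := by
    show c * x * e = 0
    rw [mul_assoc, show x * e = 0 from hx, mul_zero]

/-- For two members `∑ χ(1) ^ 2` is twice a square. -/
theorem sum_sq_eq_two_mul_sq (hM : IsPModular p M) (hB : IsPBlock M B) (h2 : Nat.card B = 2) :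
    ∃ n : ℕ, ∑ χ ∈ Finset.univ.filter (· ∈ B), (χ : G → ℂ) 1 ^ 2 = 2 * (n : ℂ) ^ 2 := by
  haveI : IsAlgClosed (ResF M) := Brauer.isAlgClosed_resF hM.2.1
  haveI : FiniteDimensional (ResF M) (MonoidAlgebra (ResF M) G) :=
    Module.Finite.of_basis (MonoidAlgebra.basis G (ResF M))
  set e := idemF M B with he
  have hec : IsCentralElt e := idemF_isCentralElt B
  have hee : e * e = e := idemF_mul_self hB
  have hcomm : ∀ x, e * x = x * e := isCentralElt_commute hec
  haveI : (annIdeal e).IsTwoSided := ⟨fun {a} b (ha : a * e = 0) => by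
    show a * b * e = 0
    rw [mul_assoc, ← hcomm, ← mul_assoc, ha, zero_mul]⟩
  set q := Ideal.Quotient.mkₐ (ResF M) (annIdeal e) with hq
  have hqs : Function.Surjective q := Ideal.Quotient.mk_surjective
  have hq0 : ∀ x, q x = 0 ↔ x * e = 0 := fun x => Ideal.Quotient.eq_zero_iff_mem
  haveI : FiniteDimensional (ResF M) (MonoidAlgebra (ResF M) G ⧸ annIdeal e) :=
    Module.Finite.of_surjective q.toLinearMap hqs
  obtain ⟨σ, hσ⟩ := q.toLinearMap.exists_rightInverse_of_surjective (LinearMap.range_eq_top.2 hqs)
  have hσ' : ∀ y, q (σ y) = y := fun y => LinearMap.congr_fun hσ y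
  set s := (LinearMap.mulLeft (ResF M) e).comp σ with hs
  have hsq : ∀ x, s (q x) = e * x := by
    intro x
    have h : q (σ (q x) - x) = 0 := by rw [map_sub, hσ', sub_self]
    rw [hq0, ← hcomm, mul_sub, sub_eq_zero] at h
    exact h
  have hqe : q e = 1 := by
    rw [← map_one q, ← sub_eq_zero, ← map_sub, hq0, sub_mul, hee, one_mul, sub_self]
  have hsinj : Function.Injective s := by
    intro a b h
    obtain ⟨x, rfl⟩ := hqs a
    obtain ⟨y, rfl⟩ := hqs b
    rw [hsq, hsq] at h
    have h1 := congrArg q h
    rwa [map_mul, map_mul, hqe, one_mul, one_mul] at h1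
  -- the coefficient map
  let co : MonoidAlgebra (ResF M) G ≃ₗ[ResF M] (G → ResF M) :=
    { toFun := fun x g => x.coeff g
      map_add' := fun x y => by funext g; simp [coeff_add]
      map_smul' := fun c x => by funext g; simp [coeff_smul]
      invFun := ofFn
      left_inv := fun x => groupAlgebra_ext fun g => by simp
      right_inv := fun f => by funext g; simp }
  have hdim : Module.finrank (ResF M) (MonoidAlgebra (ResF M) G ⧸ annIdeal e) =
      Module.finrank (ResF M) (LinearMap.range (mulMat e).mulVecLin) := by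
    rw [← LinearMap.finrank_range_of_inj (f := co.toLinearMap.comp s)
      (co.injective.comp hsinj)]
    suffices hr : LinearMap.range (co.toLinearMap.comp s) =
        LinearMap.range (mulMat e).mulVecLin by rw [hr]
    refine le_antisymm ?_ ?_
    · rintro _ ⟨a, rfl⟩
      obtain ⟨x, rfl⟩ := hqs a
      exact ⟨co x, by rw [LinearMap.comp_apply, hsq, Matrix.mulVecLin_apply]; exact mulMat_mulVec e x⟩
    · rintro _ ⟨v, rfl⟩
      refine ⟨q (co.symm v), ?_⟩
      rw [LinearMap.comp_apply, hsq, Matrix.mulVecLin_apply]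
      show (fun g => (e * co.symm v).coeff g) = _
      rw [← mulMat_mulVec]
      congr 1
  -- the form
  let τ : (MonoidAlgebra (ResF M) G ⧸ annIdeal e) →ₗ[ResF M] ResF M :=
    (LinearMap.proj (1 : G)).comp (co.toLinearMap.comp s)
  have hτq : ∀ x, τ (q x) = (e * x).coeff 1 := fun x => by
    show (s (q x)).coeff 1 = _
    rw [hsq]
  have hsym : ∀ u v : MonoidAlgebra (ResF M) G, (u * v).coeff 1 = (v * u).coeff 1 := by
    intro u v
    rw [coeff_mul_sum' u v, coeff_mul_sum v u]
    simp [mul_comm]
  have hτ : ∀ a b, τ (a * b) = τ (b * a) := by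
    intro a b
    obtain ⟨x, rfl⟩ := hqs a
    obtain ⟨y, rfl⟩ := hqs b
    rw [← map_mul, ← map_mul, hτq, hτq, ← mul_assoc, hsym, ← mul_assoc, ← hcomm, mul_assoc]
  have hnd : ∀ a, (∀ b, τ (a * b) = 0) → a = 0 := by
    intro a ha
    obtain ⟨x, rfl⟩ := hqs a
    rw [hq0, ← hcomm]
    refine groupAlgebra_ext fun g => ?_
    have h := ha (q (single g⁻¹ 1))
    rw [← map_mul, hτq, ← mul_assoc, coeff_mul_sum'] at h
    rw [coeff_zero, Finsupp.zero_apply]
    simpa [coeff_single, Finsupp.single_apply, inv_inv] using h
  have hcent : ∀ f : MonoidAlgebra (ResF M) G ⧸ annIdeal e, IsIdempotentElem f →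
      (∀ x, f * x = x * f) → f = 0 ∨ f = 1 := by
    intro f hf hfc
    obtain ⟨x, rfl⟩ := hqs f
    have hmul : ∀ y z, s (q (y * z)) = (e * y) * (e * z) := fun y z => by
      rw [hsq, mul_assoc e y, ← mul_assoc y e, ← hcomm y]
      simp only [← mul_assoc, hee]
    have hxc : IsCentralElt (e * x) := by
      refine isCentralElt_of_commute fun g => ?_
      have h := congrArg s (hfc (q (single g 1)))
      rw [← map_mul, ← map_mul, hsq, hsq, ← mul_assoc] at h
      rw [h, ← mul_assoc, ← mul_assoc, hcomm (single g 1)]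
    have hxx : (e * x) * (e * x) = e * x := by
      rw [← hmul, map_mul, hf.eq, hsq]
    rcases eq_zero_or_eq_idemF hB hxc hxx (by rw [← mul_assoc, ← he, hee]) with h | h
    · left
      have := congrArg q h
      rwa [map_mul, hqe, one_mul, map_zero] at this
    · right
      have := congrArg q h
      rwa [map_mul, hqe, one_mul] at this
  -- the commutator quotient
  let cp : MonoidAlgebra (ResF M) G →ₗ[ResF M] (ConjClasses G → ResF M) :=
    { toFun := classProj
      map_add' := fun x y => by
        funext c
        simp only [classProj, coeff_add, Finsupp.add_apply, Pi.add_apply, ← Finset.sum_add_distrib]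
        exact Finset.sum_congr rfl fun g _ => by split_ifs <;> simp
      map_smul' := fun r x => by
        funext c
        simp only [classProj, coeff_smul, Finsupp.smul_apply, Pi.smul_apply, RingHom.id_apply,
          Finset.smul_sum, smul_ite, smul_zero] }
  have hker : ∀ a, classProj a = 0 → a ∈ LocalTrace.commSpan (ResF M) (MonoidAlgebra (ResF M) G) := by
    intro a ha
    have hrep : a = ∑ g : G, a.coeff g • (single g 1 - single (Quotient.out (ConjClasses.mk g)) 1) := by
      have h1 : ∑ g : G, a.coeff g • single (Quotient.out (ConjClasses.mk g)) (1 : ResF M) = 0 := by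
        rw [← Finset.sum_fiberwise (Finset.univ : Finset G) ConjClasses.mk]
        refine Finset.sum_eq_zero fun c _ => ?_
        rw [Finset.sum_congr rfl (g := fun g => a.coeff g • single (Quotient.out c) (1 : ResF M))
          (fun g hg => by rw [(Finset.mem_filter.1 hg).2]), ← Finset.sum_smul, Finset.sum_filter]
        rw [show (∑ g : G, if ConjClasses.mk g = c then a.coeff g else 0) = 0 from congrFun ha c,
          zero_smul]
      simp only [smul_sub, Finset.sum_sub_distrib, h1, sub_zero]
      refine groupAlgebra_ext fun x => ?_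
      simp [coeff_sum, Finsupp.finsetSum_apply, coeff_single, Finsupp.single_apply]
    rw [hrep]
    refine Submodule.sum_mem _ fun g _ => Submodule.smul_mem _ _ ?_
    obtain ⟨t, ht⟩ := isConj_iff.1 (ConjClasses.mk_eq_mk_iff_isConj.1
      (Quotient.out_eq (ConjClasses.mk g) : ConjClasses.mk _ = ConjClasses.mk g))
    have h := LocalTrace.comm_mem (F := ResF M) (single t (1 : ResF M))
      (single (Quotient.out (ConjClasses.mk g) * t⁻¹) 1)
    rwa [single_mul_single, single_mul_single, one_mul, ← mul_assoc, ht, inv_mul_cancel_right] at h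
  have hk : Module.finrank (ResF M) ((MonoidAlgebra (ResF M) G ⧸ annIdeal e) ⧸
      LocalTrace.commSpan (ResF M) (MonoidAlgebra (ResF M) G ⧸ annIdeal e)) = 2 := by
    set S := LocalTrace.commSpan (ResF M) (MonoidAlgebra (ResF M) G ⧸ annIdeal e) with hS
    have hkc : S = LinearMap.ker (cp.comp s) := by
      refine le_antisymm ?_ ?_
      · rw [hS, LocalTrace.commSpan, Submodule.span_le]
        rintro _ ⟨⟨a, b⟩, rfl⟩
        obtain ⟨x, rfl⟩ := hqs a
        obtain ⟨y, rfl⟩ := hqs b
        simp only [SetLike.mem_coe, LinearMap.mem_ker, ← map_mul, ← map_sub, LinearMap.comp_apply,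
          hsq]
        show classProj (e * (x * y - y * x)) = 0
        rw [classProj_mul hec]
        have h0 : classProj (x * y - y * x) = 0 := by
          have hlin : classProj (x * y - y * x) = classProj (x * y) - classProj (y * x) :=
            map_sub cp (x * y) (y * x)
          rw [hlin, sub_eq_zero]
          funext c
          simp only [classProj, coeff_mul_sum' x y, coeff_mul_sum y x, ← Finset.sum_filter]
          rw [Finset.sum_comm, Finset.sum_comm (s := Finset.univ.filter _)]
          refine Finset.sum_congr rfl fun z _ => ?_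
          simp only [mul_comm (y.coeff z)]
          rw [Finset.sum_filter, Finset.sum_filter]
          refine Fintype.sum_equiv (MulAut.conj z).toEquiv _ _ fun g => ?_
          show _ = if ConjClasses.mk (z * g * z⁻¹) = c then _ else _
          refine if_congr ?_ ?_ rfl
          · rw [ConjClasses.mk_eq_mk_iff_isConj.2 (isConj_iff.2 ⟨z, rfl⟩ : IsConj g (z * g * z⁻¹))]
          · show _ = x.coeff (z⁻¹ * (z * g * z⁻¹)) * _
            rw [show z⁻¹ * (z * g * z⁻¹) = g * z⁻¹ by group]
        rw [h0, Matrix.mulVec_zero]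
      · intro a ha
        have ha' : classProj (s a) = 0 := ha
        have h1 : a = q (s a) := by
          obtain ⟨x, rfl⟩ := hqs a
          rw [hsq, map_mul, hqe, one_mul]
        rw [h1]
        refine Submodule.span_induction ?_ ?_ ?_ ?_ (hker _ ha')
        · rintro _ ⟨⟨x, y⟩, rfl⟩
          simp only [map_sub, map_mul]
          exact LocalTrace.comm_mem _ _
        · rw [map_zero]; exact Submodule.zero_mem _
        · intro x y _ _ hx hy; rw [map_add]; exact Submodule.add_mem _ hx hy
        · intro c x _ hx; rw [map_smul]; exact Submodule.smul_mem _ c hx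
    rw [hkc, (cp.comp s).quotKerEquivRange.finrank_eq]
    have hr : LinearMap.range (cp.comp s) = LinearMap.range (classMat e).mulVecLin := by
      refine le_antisymm ?_ ?_
      · rintro _ ⟨a, rfl⟩
        obtain ⟨x, rfl⟩ := hqs a
        refine ⟨classProj x, ?_⟩
        rw [Matrix.mulVecLin_apply, LinearMap.comp_apply, hsq]
        exact (classProj_mul hec x).symm
      · rintro _ ⟨v, rfl⟩
        obtain ⟨x, rfl⟩ := classProj_surjective v
        refine ⟨q x, ?_⟩
        rw [Matrix.mulVecLin_apply, LinearMap.comp_apply, hsq]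
        exact classProj_mul hec x
    rw [hr]
    have h := finrank_range_classMat (M := M) hB
    rw [h2] at h
    exact_mod_cast h
  haveI : Nontrivial (MonoidAlgebra (ResF M) G ⧸ annIdeal e) := by
    refine ⟨⟨1, 0, fun h => ?_⟩⟩
    rw [← map_one q, hq0, one_mul] at h
    obtain ⟨χ₀, hχ₀⟩ := pBlock_nonempty hB
    have := lam_idemF_of_mem hB hχ₀
    rw [← he, h, lam_zero] at this
    exact zero_ne_one this
  obtain ⟨n, hn⟩ := LocalTrace.exists_finrank_eq_two_mul_sq τ hτ hnd hcent hk
  refine ⟨n, ?_⟩
  rw [← finrank_range_mulMat (M := M) hB, ← he, ← hdim, hn]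
  push_cast
  rfl

end Cfsg.Agent.BlkChar.BlockAlg
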