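import Cfsg.Agent.Char.Orthogonality
import Cfsg.Agent.Char.Virtual
import Cfsg.Agent.Char.Linear
import Cfsg.Agent.Char.Integrality
import Cfsg.Agent.CharExt.Extension
import Mathlib

/-!
# Degrees when an abelian normal subgroup has a complement of coprime order

If `X = V G` with `V` abelian normal and `|V|` prime to `|G|`, then every irreducible
character degree of `X` is prime to `|V|` (Itô, by an elementary projection argument).
-/

set_option autoImplicit false
set_option linter.style.haveILetI false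

open Module

namespace Cfsg.Agent.KgvDeg

universe u

variable {X : Type u} [Group X] [Finite X]

theorem coprime_finrank (V : Subgroup X) [hVn : V.Normal]
    (hab : ∀ a ∈ V, ∀ b ∈ V, a * b = b * a) (G : Subgroup X) (hGV : Subgroup.IsComplement' V G)
    (hcop : (Nat.card V).Coprime (Nat.card G)) {d : ℕ} (ρ : Representation ℂ X (Fin d → ℂ))
    [hirr : ρ.IsIrreducible] : d.Coprime (Nat.card V) := by
  classical
  letI := Fintype.ofFinite X
  letI := Fintype.ofFinite ↥V
  letI := Fintype.ofFinite ↥G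
  haveI hn : Nontrivial (Fin d → ℂ) := Char.nontrivial_of_isIrreducible ρ
  have hVne : (Nat.card V : ℂ) ≠ 0 := Nat.cast_ne_zero.mpr Nat.card_pos.ne'
  let ρV : Representation ℂ ↥V (Fin d → ℂ) := ρ.comp V.subtype
  obtain ⟨μ, k₀, hk₀, hμ⟩ := Char.exists_irr_constituent (Char.isCharacter_character ρV) (by
    intro h
    have h1 := congrFun h 1
    simp only [Representation.char_one, Pi.zero_apply, Nat.cast_eq_zero] at h1
    exact finrank_pos.ne' h1)
  obtain ⟨f, hf⟩ := Char.irr_exists_monoidHom_of_comm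
    (fun a b => Subtype.ext (hab a a.2 b b.2)) μ.2
  let E : Module.End ℂ (Fin d → ℂ) :=
    (Nat.card V : ℂ)⁻¹ • ∑ v : ↥V, ((f v⁻¹ : ℂˣ) : ℂ) • ρ (v : X)
  have hEρ : ∀ w : ↥V, ∀ u, ρ (w : X) (E u) = (f w : ℂ) • E u := by
    intro w u
    simp only [E, LinearMap.smul_apply, LinearMap.sum_apply, map_smul, map_sum, smul_smul,
      Finset.smul_sum]
    refine Fintype.sum_equiv (Equiv.mulLeft w) _ _ fun v => ?_
    rw [← Module.End.mul_apply, ← map_mul, Equiv.coe_mulLeft, ← Subgroup.coe_mul]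
    congr 1
    rw [mul_inv_rev, map_mul, Units.val_mul, map_inv f w, Units.val_inv_eq_inv_val]
    field_simp
  let W : Submodule ℂ (Fin d → ℂ) :=
    ⨅ v : ↥V, LinearMap.ker (ρ (v : X) - (f v : ℂ) • (1 : Module.End ℂ (Fin d → ℂ)))
  have hWmem : ∀ u, u ∈ W ↔ ∀ v : ↥V, ρ (v : X) u = (f v : ℂ) • u := fun u => by
    simp [W, sub_eq_zero]
  have hEid : ∀ u ∈ W, E u = u := by
    intro u hu
    rw [hWmem] at hu
    simp only [E, LinearMap.smul_apply, LinearMap.sum_apply, hu, smul_smul]
    simp only [← Units.val_mul, ← map_mul, inv_mul_cancel, map_one, Units.val_one, one_smul,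
      Finset.sum_const, Finset.card_univ, ← Nat.card_eq_fintype_card]
    rw [← Nat.cast_smul_eq_nsmul ℂ, inv_smul_smul₀ hVne]
  have hproj : LinearMap.IsProj W E :=
    ⟨fun u => (hWmem _).mpr fun v => hEρ v u, hEid⟩
  have htr : (finrank ℂ W : ℂ) = (Nat.card V : ℂ)⁻¹ * ∑ v : ↥V, (f v⁻¹ : ℂ) * ρV.character v := by
    rw [← hproj.trace]
    simp only [E, map_smul, map_sum, smul_eq_mul]
    rfl
  set m := finrank ℂ W with hm
  have hm0 : m ≠ 0 := by
    intro h0
    suffices h : classInner ρV.character (μ : ↥V → ℂ) = 0 by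
      rw [hμ, Nat.cast_eq_zero] at h; omega
    rw [h0, Nat.cast_zero] at htr
    simp only [classInner, hf]
    refine Eq.trans ?_ htr.symm
    congr 1
    refine Finset.sum_congr rfl fun v _ => ?_
    rw [mul_comm]
    congr 1
    rw [← Char.irr_inv (Char.isIrrCharacter_monoidHom f)]
  let Gf : Subgroup X :=
    { carrier := {g | g ∈ G ∧ ∀ v : ↥V, f (MulAut.conjNormal g v) = f v}
      one_mem' := ⟨G.one_mem, fun v => by rw [map_one]; rfl⟩
      mul_mem' := fun {a b} ha hb => ⟨G.mul_mem ha.1 hb.1, fun v => by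
        rw [map_mul, MulAut.mul_apply, ha.2, hb.2]⟩
      inv_mem' := fun {a} ha => ⟨G.inv_mem ha.1, fun v => by
        have h := ha.2 (MulAut.conjNormal a⁻¹ v)
        rw [← MulAut.mul_apply, ← map_mul, mul_inv_cancel, map_one] at h
        exact h.symm⟩ }
  have hGfle : Gf ≤ G := fun g hg => hg.1
  have hWstab : ∀ g ∈ Gf, ∀ u ∈ W, ρ g u ∈ W := by
    intro g hg u hu
    rw [hWmem] at hu ⊢
    intro v
    have h1 : (v : X) * g = g * (MulAut.conjNormal g⁻¹ v : X) := by
      rw [MulAut.conjNormal_apply]; group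
    rw [← Module.End.mul_apply, ← map_mul, h1, map_mul, Module.End.mul_apply, hu, map_smul]
    congr 2
    rw [(Gf.inv_mem hg).2]
  have hmove : ∀ g ∈ G, g ∉ Gf → ∀ u ∈ W, E (ρ g u) = 0 := by
    intro g hg hgf u hu
    rw [hWmem] at hu
    have h1 : ∀ v : ↥V, ρ (v : X) (ρ g u) = (f (MulAut.conjNormal g⁻¹ v) : ℂ) • ρ g u := by
      intro v
      have h1 : (v : X) * g = g * (MulAut.conjNormal g⁻¹ v : X) := by
        rw [MulAut.conjNormal_apply]; group
      rw [← Module.End.mul_apply, ← map_mul, h1, map_mul, Module.End.mul_apply, hu, map_smul]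
    let h : ↥V →* ℂˣ :=
      (f.comp (MulAut.conjNormal g⁻¹).toMonoidHom) * f⁻¹
    have hh : h ≠ 1 := by
      intro h0
      refine hgf ⟨hg, fun v => ?_⟩
      have h2 := DFunLike.congr_fun h0 (MulAut.conjNormal g v)
      simp only [h, MonoidHom.mul_apply, MonoidHom.inv_apply, MonoidHom.comp_apply,
        MulEquiv.coe_toMonoidHom, MonoidHom.one_apply] at h2
      rw [← MulAut.mul_apply, ← map_mul, inv_mul_cancel, map_one, MulAut.one_apply,
        mul_inv_eq_one] at h2
      exact h2.symm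
    have h3 := Char.monoidHom_sum_eq_zero hh
    simp only [E, LinearMap.smul_apply, LinearMap.sum_apply, h1, smul_smul, ← Finset.sum_smul]
    have h4 : ∑ v : ↥V, (f v⁻¹ : ℂ) * (f (MulAut.conjNormal g⁻¹ v) : ℂ) = 0 := by
      rw [← h3]
      refine Finset.sum_congr rfl fun v _ => ?_
      simp only [h, MonoidHom.mul_apply, MonoidHom.inv_apply, MonoidHom.comp_apply,
        MulEquiv.coe_toMonoidHom, map_inv, Units.val_mul]
      rw [mul_comm]
    rw [h4, mul_zero, zero_smul]
  -- Schur
  let S : Module.End ℂ (Fin d → ℂ) := ∑ g : ↥G, ρ (g : X) * E * ρ ((g : X)⁻¹)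
  have hSG : ∀ x ∈ G, S * ρ x = ρ x * S := by
    intro x hx
    simp only [S, Finset.sum_mul, Finset.mul_sum]
    refine (Fintype.sum_equiv (Equiv.mulLeft (⟨x, hx⟩ : ↥G)) _ _ fun g => ?_).symm
    simp only [Equiv.coe_mulLeft, Subgroup.coe_mul, mul_inv_rev, map_mul, mul_assoc]
    rw [← map_mul ρ x⁻¹ x, inv_mul_cancel, map_one, mul_one]
  have hEV : ∀ w : ↥V, E * ρ (w : X) = ρ (w : X) * E := by
    intro w
    simp only [E, smul_mul_assoc, mul_smul_comm, Finset.sum_mul, Finset.mul_sum, ← map_mul]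
    congr 1
    exact Finset.sum_congr rfl fun v _ => by rw [hab _ v.2 _ w.2]
  have hSV : ∀ w : ↥V, S * ρ (w : X) = ρ (w : X) * S := by
    intro w
    simp only [S, Finset.sum_mul, Finset.mul_sum]
    refine Finset.sum_congr rfl fun g _ => ?_
    have hw' : (g : X)⁻¹ * w * g ∈ V := by simpa using hVn.conj_mem _ w.2 (g : X)⁻¹
    have h1 := hEV ⟨_, hw'⟩
    calc ρ (g : X) * E * ρ ((g : X)⁻¹) * ρ (w : X)
        = ρ (g : X) * (E * ρ ((g : X)⁻¹ * w * g)) * ρ ((g : X)⁻¹) := by
          simp only [mul_assoc, ← map_mul]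
          congr 3; group
      _ = _ := by
          rw [h1]
          simp only [← mul_assoc, ← map_mul]
          congr 3; group
  obtain ⟨c, hc⟩ := CharExt.exists_scalar_of_commute ρ S fun x => by
    obtain ⟨⟨v, g⟩, hvg⟩ := hGV.2 x
    show S * ρ x = ρ x * S
    rw [← hvg, map_mul, ← mul_assoc, hSV v, mul_assoc, hSG g g.2, ← mul_assoc]
  obtain ⟨w, hw, hw0⟩ : ∃ w ∈ W, w ≠ 0 := by
    have : W ≠ ⊥ := fun h => hm0 (by rw [hm, h, finrank_bot])
    exact Submodule.exists_mem_ne_zero_of_ne_bot this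
  have hterm : ∀ g : ↥G, (ρ (g : X) * E * ρ ((g : X)⁻¹)) w = if (g : X) ∈ Gf then w else 0 := by
    intro g
    split_ifs with hg
    · rw [Module.End.mul_apply, Module.End.mul_apply, hEid _ (hWstab _ (Gf.inv_mem hg) _ hw),
        ← Module.End.mul_apply, ← map_mul, mul_inv_cancel, map_one, Module.End.one_apply]
    · rw [Module.End.mul_apply, Module.End.mul_apply, hmove _ (G.inv_mem g.2)
        (fun h => hg (by simpa using Gf.inv_mem h)) _ hw, map_zero]
  have hcount : (Finset.univ.filter fun g : ↥G => (g : X) ∈ Gf).card = Nat.card Gf := by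
    rw [← Fintype.card_subtype, ← Nat.card_eq_fintype_card]
    exact Nat.card_congr ⟨fun g => ⟨g.1.1, g.2⟩, fun g => ⟨⟨g.1, hGfle g.2⟩, g.2⟩,
      fun g => rfl, fun g => rfl⟩
  have hcval : c = (Nat.card Gf : ℂ) := by
    have h1 : S w = (Nat.card Gf : ℂ) • w := by
      simp only [S, LinearMap.sum_apply, hterm]
      rw [← Finset.sum_filter, Finset.sum_const, hcount, ← Nat.cast_smul_eq_nsmul ℂ]
    rw [hc] at h1
    exact smul_left_injective ℂ hw0 (by simpa using h1)
  have hrel : (Nat.card G : ℂ) * m = (Nat.card Gf : ℂ) * d := by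
    have h1 : LinearMap.trace ℂ _ S = (Nat.card G : ℂ) * m := by
      have : ∀ g : ↥G, LinearMap.trace ℂ _ (ρ (g : X) * E * ρ ((g : X)⁻¹)) = (m : ℂ) := fun g => by
        rw [LinearMap.trace_mul_comm, ← mul_assoc, ← map_mul, inv_mul_cancel, map_one, one_mul,
          hproj.trace]
      simp only [S, map_sum, this, Finset.sum_const, Finset.card_univ, nsmul_eq_mul,
        ← Nat.card_eq_fintype_card]
    rw [hc, map_smul, LinearMap.trace_one, hcval, smul_eq_mul, finrank_fin_fun] at h1
    exact h1.symm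
  -- `W` is irreducible for the stabilizer
  let WR : Subrepresentation (ρ.comp Gf.subtype) := ⟨W, fun g u hu => hWstab _ g.2 u hu⟩
  have hWirr : WR.toRepresentation.IsIrreducible := by
    rw [Char.isIrreducible_iff_forall]
    refine ⟨(Submodule.nontrivial_iff_ne_bot (p := W)).mpr fun h => hm0 (by rw [hm, h, finrank_bot]),
      fun q hq => ?_⟩
    by_contra hne
    push Not at hne
    set U := q.map W.subtype with hU
    let T : Submodule ℂ (Fin d → ℂ) := ⨆ g : ↥G, U.map (ρ (g : X))
    have hUT : U ≤ T := fun u hu =>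
      Submodule.mem_iSup_of_mem (1 : ↥G) ⟨u, hu, by simp⟩
    have hTinv : ∀ x : X, ∀ u ∈ T, ρ x u ∈ T := by
      intro x
      obtain ⟨⟨v, g⟩, hvg⟩ := hGV.2 x
      suffices h : T ≤ T.comap (ρ x) from fun u hu => h hu
      refine iSup_le fun k => ?_
      rintro _ ⟨u, hu, rfl⟩
      rw [Submodule.mem_comap]
      have hw' : ((g : X) * k)⁻¹ * v * ((g : X) * k) ∈ V := by
        simpa using hVn.conj_mem _ v.2 ((g : X) * k)⁻¹
      have h1 : x * (k : X) = ((g : X) * k) * (((g : X) * k)⁻¹ * v * ((g : X) * k)) := by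
        rw [← hvg]; group
      obtain ⟨u', -, rfl⟩ := (show u ∈ q.map W.subtype from hu)
      have hu' := (hWmem _).mp u'.2 ⟨_, hw'⟩
      rw [← Module.End.mul_apply, ← map_mul, h1, map_mul, Module.End.mul_apply]
      simp only [Submodule.subtype_apply] at hu ⊢
      rw [hu', map_smul]
      exact Submodule.smul_mem _ _
        (Submodule.mem_iSup_of_mem (g * k : ↥G) ⟨_, hu, rfl⟩)
    rcases ((Char.isIrreducible_iff_forall ρ).mp hirr).2 T hTinv with h | h
    · obtain ⟨u, hu, hu0⟩ := Submodule.exists_mem_ne_zero_of_ne_bot hne.1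
      have h' : (u : Fin d → ℂ) ∈ T := hUT ⟨u, hu, rfl⟩
      rw [h, Submodule.mem_bot] at h'
      exact hu0 (Subtype.ext h')
    · refine hne.2 ((Submodule.eq_top_iff' (p := q)).mpr fun y => ?_)
      have hy : E (y : Fin d → ℂ) ∈ U := by
        have hle : T ≤ U.comap E := by
          refine iSup_le fun k => ?_
          rintro _ ⟨u, hu, rfl⟩
          rw [Submodule.mem_comap]
          obtain ⟨u', hu', rfl⟩ := hu
          by_cases hk : (k : X) ∈ Gf
          · have h1 := hq ⟨k, hk⟩ u' hu'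
            rw [Submodule.subtype_apply, hEid _ (hWstab _ hk _ u'.2)]
            exact ⟨_, h1, rfl⟩
          · rw [Submodule.subtype_apply, hmove _ k.2 hk _ u'.2]
            exact Submodule.zero_mem _
        exact hle (by rw [h]; trivial)
      rw [hEid _ y.2] at hy
      obtain ⟨y', hy', he⟩ := hy
      rwa [← Subtype.ext (a1 := y') he]
  haveI := hWirr
  have hdvd : m ∣ Nat.card Gf := Char.finrank_dvd_card (V := ↥W) WR.toRepresentation
  have hmG : m ∣ Nat.card G := hdvd.trans (Subgroup.card_dvd_of_le hGfle)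
  have hnat : Nat.card G * m = Nat.card Gf * d := by exact_mod_cast hrel
  have hd : d ∣ Nat.card G * m := ⟨Nat.card Gf, by rw [hnat, mul_comm]⟩
  exact Nat.Coprime.coprime_dvd_left hd
    (Nat.Coprime.mul_left hcop.symm (hcop.symm.coprime_dvd_left hmG))

/-- Irreducible character degrees are prime to `|V|`. -/
theorem irr_degree_coprime (V : Subgroup X) [V.Normal] (hab : ∀ a ∈ V, ∀ b ∈ V, a * b = b * a)
    (G : Subgroup X) (hGV : Subgroup.IsComplement' V G)
    (hcop : (Nat.card V).Coprime (Nat.card G)) (χ : IrrCharacter X) :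
    ∃ d : ℕ, (χ : X → ℂ) 1 = d ∧ d.Coprime (Nat.card V) := by
  obtain ⟨d, ρ, hρ, hχ⟩ := χ.2
  exact ⟨d, by rw [← hχ]; simp, coprime_finrank V hab G hGV hcop ρ⟩

end Cfsg.Agent.KgvDeg
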