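import Cfsg.Agent.BlkChar.Sums
import Cfsg.Agent.BlkChar.CoprimeDegree
import Cfsg.Agent.Block.LocalRing
import Cfsg.Agent.Char.Product
import Mathlib

/-!
# Knörr's averaging criterion for `k(GV) ≤ |V|`
-/

set_option autoImplicit false
set_option linter.style.haveILetI false

open scoped ComplexConjugate
open Finset

namespace Cfsg.Agent.Kgv

universe u

theorem exists_pModular {p : ℕ} (hp : p.Prime) : ∃ M : Ideal AlgInt, IsPModular p M := by
  have hne : Ideal.span {(p : AlgInt)} ≠ ⊤ := by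
    intro h
    rw [Ideal.span_singleton_eq_top, isUnit_iff_exists_inv] at h
    obtain ⟨b, hb⟩ := h
    have hb' : (p : ℂ) * (b : ℂ) = 1 := by simpa using congrArg Subtype.val hb
    have hi : IsIntegral ℤ (((1 : ℤ) : ℂ) / (p : ℂ)) := by
      have : (b : ℂ) = ((1 : ℤ) : ℂ) / (p : ℂ) := by
        rw [Int.cast_one, eq_div_iff (Nat.cast_ne_zero.mpr hp.ne_zero), mul_comm, hb']
      exact this ▸ b.2
    obtain ⟨j, hj⟩ := GalAvg.int_of_isIntegral_div hi
    rw [Int.cast_one, div_eq_iff (Nat.cast_ne_zero.mpr hp.ne_zero)] at hj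
    have : (1 : ℤ) = j * p := by exact_mod_cast hj
    have := Int.eq_one_of_mul_eq_one_left (Int.natCast_nonneg p) this.symm
    exact hp.ne_one (by exact_mod_cast this)
  obtain ⟨M, hM, hle⟩ := Ideal.exists_le_maximal _ hne
  exact ⟨M, hp, hM, hle (Ideal.mem_span_singleton_self _)⟩

variable {p : ℕ} {M : Ideal AlgInt}

/-- A character is congruent to its degree at elements of `p`-power order. -/
theorem char_sub_degree_memLocalIdeal (hM : IsPModular p M) {G : Type u} [Group G] [Finite G]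
    {χ : G → ℂ} (h : IsCharacter G χ) {g : G} {k : ℕ} (hg : g ^ p ^ k = 1) :
    MemLocalIdeal M (χ g - χ 1) := by
  haveI := Block.isPrime_of_isPModular hM
  obtain ⟨d, ρ, rfl⟩ := h
  obtain ⟨ε, hε, hpow⟩ := Char.exists_character_eq_sum_roots ρ g
  have h1 := hpow 1
  have h0 := hpow 0
  simp only [pow_one, pow_zero, Finset.sum_const, Finset.card_univ, nsmul_eq_mul, mul_one] at h1 h0
  rw [h1, h0]
  have heq : (∑ i, ε i) - (Fintype.card (Fin (Module.finrank ℂ (Fin d → ℂ))) : ℂ) =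
      ∑ i, (ε i - 1) := by simp [Finset.sum_sub_distrib]
  rw [heq]
  refine Block.memLocalIdeal_sum _ _ fun i _ => ?_
  obtain ⟨l, hl⟩ := orderOf_dvd_of_pow_eq_one hg
  have hi : (ε i) ^ p ^ k = 1 := by rw [hl, pow_mul, hε i, one_pow]
  have hmem : MemLocalRing M (ε i) :=
    Block.memLocalRing_of_pow_eq_one (pow_ne_zero _ hM.1.ne_zero) hi
  have hz : (⟨ε i, hmem⟩ : Block.localRing M) ^ p ^ k = 1 := Subtype.ext (by simpa using hi)
  have hr := Block.red_eq_one_of_pow_prime_pow hM hz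
  rw [← map_one (Block.red M), Block.red_eq_iff] at hr
  simpa using hr

variable {X : Type u} [Group X] [Finite X]

theorem coprime_card [hp : Fact p.Prime] {V : Subgroup X} (hVp : IsPGroup p V)
    (hidx : ¬ p ∣ V.index) {G : Subgroup X} (hGV : Subgroup.IsComplement' V G) :
    (Nat.card V).Coprime (Nat.card G) := by
  obtain ⟨k, hk⟩ := IsPGroup.iff_card.mp hVp
  rw [hk, ← hGV.symm.index_eq_card]
  exact Nat.Coprime.pow_left _ ((Nat.Prime.coprime_iff_not_dvd hp.out).mpr hidx)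

theorem degree_not_dvd [hp : Fact p.Prime] (V : Subgroup X) [V.Normal] (hVp : IsPGroup p V)
    (hidx : ¬ p ∣ V.index) (hab : ∀ a ∈ V, ∀ b ∈ V, a * b = b * a)
    (G : Subgroup X) (hGV : Subgroup.IsComplement' V G) (χ : IrrCharacter X) :
    ∃ d : ℕ, (χ : X → ℂ) 1 = d ∧ ¬ p ∣ d := by
  obtain ⟨d, hd, hcop⟩ := KgvDeg.irr_degree_coprime V hab G hGV (coprime_card hVp hidx hGV) χ
  refine ⟨d, hd, fun hpd => ?_⟩
  obtain ⟨k, hk⟩ := IsPGroup.iff_card.mp hVp
  rcases Nat.eq_zero_or_pos k with rfl | hk0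
  · obtain ⟨d', -, hd', hdvd⟩ := Char.irr_degree_dvd_card χ.2
    have : d' = d := by exact_mod_cast hd'.symm.trans hd
    subst this
    refine hidx (hpd.trans ?_)
    rwa [← hGV.card_mul, hk, pow_zero, one_mul, ← hGV.symm.index_eq_card] at hdvd
  · rw [hk] at hcop
    exact Nat.not_coprime_of_dvd_of_dvd hp.out.one_lt hpd (dvd_pow_self p hk0.ne') hcop

theorem not_memLocalIdeal_of_mem [hp : Fact p.Prime] (hM : IsPModular p M) (V : Subgroup X)
    [V.Normal] (hVp : IsPGroup p V) (hidx : ¬ p ∣ V.index)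
    (hab : ∀ a ∈ V, ∀ b ∈ V, a * b = b * a) (G : Subgroup X)
    (hGV : Subgroup.IsComplement' V G) (χ : IrrCharacter X) {v : X} (hv : v ∈ V) :
    ¬ MemLocalIdeal M ((χ : X → ℂ) v) := by
  haveI := Block.isPrime_of_isPModular hM
  obtain ⟨d, hd, hpd⟩ := degree_not_dvd V hVp hidx hab G hGV χ
  obtain ⟨k, hk⟩ := hVp ⟨v, hv⟩
  intro h
  have h1 := char_sub_degree_memLocalIdeal hM (Char.isCharacter_of_irr χ.2)
    (g := v) (k := k) (congrArg Subtype.val hk)
  have h2 := Block.memLocalIdeal_sub h h1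
  rw [sub_sub_cancel, hd, Block.memLocalIdeal_natCast_iff hM] at h2
  exact hpd h2

theorem ne_zero_of_mem [hp : Fact p.Prime] (V : Subgroup X) [V.Normal] (hVp : IsPGroup p V)
    (hidx : ¬ p ∣ V.index) (hab : ∀ a ∈ V, ∀ b ∈ V, a * b = b * a) (G : Subgroup X)
    (hGV : Subgroup.IsComplement' V G) (χ : IrrCharacter X) {v : X} (hv : v ∈ V) :
    (χ : X → ℂ) v ≠ 0 := by
  obtain ⟨M, hM⟩ := exists_pModular hp.out
  haveI := Block.isPrime_of_isPModular hM
  intro h
  refine not_memLocalIdeal_of_mem hM V hVp hidx hab G hGV χ hv ?_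
  rw [h]
  exact Block.memLocalIdeal_zero

/-- The centralizer of `v c`, `v ∈ V` and `c ∈ G` commuting. -/
theorem card_centralizer_mul (V : Subgroup X) [hVn : V.Normal]
    (hab : ∀ a ∈ V, ∀ b ∈ V, a * b = b * a) (G : Subgroup X) (hGV : Subgroup.IsComplement' V G)
    (hcop : (Nat.card V).Coprime (Nat.card G)) {v c : X} (hv : v ∈ V) (hc : c ∈ G)
    (hvc : v * c = c * v) :
    Nat.card (Subgroup.centralizer ({v * c} : Set X)) =
      Nat.card ↥(V ⊓ Subgroup.centralizer ({c} : Set X)) *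
        Nat.card ↥(G ⊓ Subgroup.centralizer ({v} : Set X) ⊓ Subgroup.centralizer ({c} : Set X)) := by
  have hmem : ∀ {x y : X}, x ∈ Subgroup.centralizer ({y} : Set X) ↔ Commute x y :=
    fun {x y} => Subgroup.mem_centralizer_singleton_iff
  rw [← Nat.card_prod]
  let F : ↥(V ⊓ Subgroup.centralizer ({c} : Set X)) ×
      ↥(G ⊓ Subgroup.centralizer ({v} : Set X) ⊓ Subgroup.centralizer ({c} : Set X)) →
        ↥(Subgroup.centralizer ({v * c} : Set X)) := fun uw => ⟨(uw.1 : X) * (uw.2 : X), by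
    obtain ⟨⟨u, hu, huc⟩, ⟨w, ⟨hw, hwv⟩, hwc⟩⟩ := uw
    show (u : X) * w ∈ _
    rw [hmem]
    exact ((show Commute u v from hab u hu v hv).mul_left (hmem.mp hwv)).mul_right
      ((hmem.mp huc).mul_left (hmem.mp hwc))⟩
  refine (Nat.card_congr (Equiv.ofBijective F ⟨?_, ?_⟩)).symm
  · rintro ⟨⟨u, hu, huc⟩, ⟨w, ⟨hw, hwv⟩, hwc⟩⟩ ⟨⟨u', hu', huc'⟩, ⟨w', ⟨hw', hwv'⟩, hwc'⟩⟩ h
    have h1 := hGV.1 (a₁ := (⟨u, hu⟩, ⟨w, hw⟩)) (a₂ := (⟨u', hu'⟩, ⟨w', hw'⟩))
      (congrArg Subtype.val h)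
    simp only [Prod.mk.injEq, Subtype.mk.injEq] at h1
    exact Prod.ext (Subtype.ext h1.1) (Subtype.ext h1.2)
  · rintro ⟨x, hx⟩
    obtain ⟨⟨u, w⟩, huw⟩ := hGV.2 x
    simp only at huw
    rw [hmem] at hx
    have hxv : Commute x v := by
      have hcm : c ^ Nat.card G = 1 :=
        congrArg Subtype.val (pow_card_eq_one' (x := (⟨c, hc⟩ : ↥G)))
      have h1 := hx.pow_right (Nat.card G)
      rw [(show Commute v c from hvc).mul_pow, hcm, mul_one] at h1
      have hcop' : Nat.Coprime (orderOf v) (Nat.card G) :=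
        hcop.coprime_dvd_left ((Subgroup.orderOf_mk v hv) ▸ orderOf_dvd_natCard (⟨v, hv⟩ : ↥V))
      obtain ⟨r, hr⟩ := exists_pow_eq_self_of_coprime (x := v) hcop'.symm
      rw [← hr]
      exact h1.pow_right r
    have hxc : Commute x c := by
      have h1 := (hxv.inv_right).mul_right hx
      rwa [inv_mul_cancel_left] at h1
    have huv : Commute (u : X) v := hab _ u.2 _ hv
    have hwv : Commute (w : X) v := by
      have h1 := huv.inv_left.mul_left (show Commute ((u : X) * (w : X)) v by rwa [huw])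
      rwa [inv_mul_cancel_left] at h1
    have hk : (u : X) * ((w : X) * c) = (c * (u : X) * c⁻¹) * (c * (w : X)) := by
      have h1 : (u : X) * (w : X) * c = c * ((u : X) * (w : X)) := by rw [huw]; exact hxc
      rw [← mul_assoc, h1]; group
    have h2 := hGV.1 (a₁ := (u, ⟨(w : X) * c, G.mul_mem w.2 hc⟩))
      (a₂ := (⟨c * (u : X) * c⁻¹, hVn.conj_mem _ u.2 c⟩, ⟨c * (w : X), G.mul_mem hc w.2⟩)) hk
    simp only [Prod.mk.injEq, Subtype.mk.injEq] at h2
    have huc : Commute (u : X) c := by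
      have h3 := congrArg Subtype.val h2.1
      simp only at h3
      exact (mul_inv_eq_iff_eq_mul.mp h3.symm).symm
    exact ⟨(⟨u, u.2, hmem.mpr huc⟩, ⟨w, ⟨w.2, hmem.mpr hwv⟩, hmem.mpr h2.2⟩), Subtype.ext huw⟩

/-- Expansion of `c ↦ χ (v ^ a * c)` with coefficients forming cyclotomic families. -/
theorem exists_family {n : ℕ} [NeZero n] {χ : X → ℂ} (hχ : IsCharacter X χ) {v : X}
    (hv : v ^ n = 1) (H : Subgroup X) (hH : ∀ c ∈ H, v * c = c * v) :
    ∃ z : IrrCharacter ↥H → (ZMod n)ˣ → ℂ, (∀ φ, z φ ∈ GalAvg.cycFun n) ∧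
      ∀ (a : (ZMod n)ˣ) (c : ↥H),
        χ (v ^ (a : ZMod n).val * (c : X)) = ∑ φ : IrrCharacter ↥H, z φ a * (φ : ↥H → ℂ) c := by
  classical
  set K := Subgroup.zpowers v
  let f : ↥K × ↥H →* X := MonoidHom.noncommCoprod K.subtype H.subtype fun k c => by
    obtain ⟨i, hi⟩ := Subgroup.mem_zpowers_iff.mp k.2
    show Commute (k : X) (c : X)
    rw [← hi]
    exact (show Commute v (c : X) from hH c c.2).zpow_left i
  set vK : ↥K := ⟨v, Subgroup.mem_zpowers v⟩
  obtain ⟨s, hs⟩ := Char.isCharacter_eq_multiset_sum (Char.isCharacter_comp hχ f)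
  suffices h : ∀ t : Multiset (IrrCharacter (↥K × ↥H)),
      ∃ z : IrrCharacter ↥H → (ZMod n)ˣ → ℂ, (∀ φ, z φ ∈ GalAvg.cycFun n) ∧
        ∀ (a : (ZMod n)ˣ) (c : ↥H), (t.map Subtype.val).sum (vK ^ (a : ZMod n).val, c) =
          ∑ φ : IrrCharacter ↥H, z φ a * (φ : ↥H → ℂ) c by
    obtain ⟨z, hz, hz'⟩ := h s
    refine ⟨z, hz, fun a c => ?_⟩
    rw [← hz' a c, ← hs]
    simp [f, vK]
  intro t
  induction t using Multiset.induction with
  | empty => exact ⟨fun _ => 0, fun _ => zero_mem _, fun a c => by simp⟩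
  | cons θ t ih =>
    obtain ⟨z, hz, hz'⟩ := ih
    obtain ⟨μ, φ₀, hθ⟩ := Char.exists_irr_prodMul θ.2
    obtain ⟨g, hg⟩ := Char.irr_exists_monoidHom_of_comm
      (fun a b => Commute.eq (by
        obtain ⟨i, hi⟩ := Subgroup.mem_zpowers_iff.mp a.2
        obtain ⟨j, hj⟩ := Subgroup.mem_zpowers_iff.mp b.2
        refine Subtype.ext ?_
        simp only [Subgroup.coe_mul, ← hi, ← hj, ← zpow_add, add_comm])) μ.2
    have hroot : (fun a : (ZMod n)ˣ => (g vK : ℂ) ^ (a : ZMod n).val) ∈ GalAvg.cycFun n := by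
      refine GalAvg.root_mem ?_
      have : vK ^ n = 1 := Subtype.ext (by simpa [vK] using hv)
      rw [← Units.val_pow_eq_pow_val, ← map_pow, this, map_one, Units.val_one]
    refine ⟨fun φ => (if φ = φ₀ then (fun a : (ZMod n)ˣ => (g vK : ℂ) ^ (a : ZMod n).val) else 0)
      + z φ, fun φ => ?_, fun a c => ?_⟩
    · by_cases h : φ = φ₀
      · simp only [if_pos h]; exact add_mem hroot (hz φ)
      · simp only [if_neg h]; exact add_mem (zero_mem _) (hz φ)
    · simp only [Multiset.map_cons, Multiset.sum_cons, Pi.add_apply, hz' a c, add_mul,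
        Finset.sum_add_distrib]
      congr 1
      rw [Finset.sum_eq_single φ₀]
      · rw [if_pos rfl, hθ]
        simp only [hg, map_pow, Units.val_pow_eq_pow_val]
      · intro φ _ hne; rw [if_neg hne]; simp
      · exact fun h => absurd (Finset.mem_univ _) h

/-- Knörr's criterion: if the weighted squared norms of every irreducible character on the
section of `v` average to at least `k(C_G(v))`, then `k(X) ≤ |V|`. -/
theorem criterion [hp : Fact p.Prime] (V : Subgroup X) [V.Normal] (hVp : IsPGroup p V)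
    (hidx : ¬ p ∣ V.index) (hab : ∀ a ∈ V, ∀ b ∈ V, a * b = b * a) (G : Subgroup X)
    (hGV : Subgroup.IsComplement' V G) {v : X} (hv : v ∈ V) (H : Subgroup X)
    (hH : H = G ⊓ Subgroup.centralizer ({v} : Set X)) [Fintype ↥H] (w : ↥H → ℝ)
    (hw0 : ∀ c, 0 ≤ w c)
    (hw : ∀ c : ↥H, w c * Nat.card ↥(V ⊓ Subgroup.centralizer ({(c : X)} : Set X)) ≤ Nat.card V)
    (hlow : ∀ χ : IrrCharacter X,
      (Nat.card H : ℝ) * Nat.card (ConjClasses H) * Fintype.card (ZMod (Nat.card X))ˣ ≤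
        ∑ a : (ZMod (Nat.card X))ˣ, ∑ c : ↥H,
          w c * ‖(χ : X → ℂ) (v ^ (a : ZMod (Nat.card X)).val * (c : X))‖ ^ 2) :
    Nat.card (ConjClasses X) ≤ Nat.card V := by
  classical
  letI := Fintype.ofFinite X
  set n := Nat.card X
  haveI : NeZero n := ⟨Nat.card_pos.ne'⟩
  set U : ℝ := (Fintype.card (ZMod n)ˣ : ℝ) with hU
  have hUpos : 0 < U := Nat.cast_pos.mpr Fintype.card_pos
  have hHK : ∑ c : ↥H, (Nat.card (Subgroup.centralizer ({c} : Set ↥H)) : ℝ)
      = Nat.card H * Nat.card (ConjClasses H) := by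
    simp_rw [← GalAvg.irr_sum_norm_sq]
    rw [Finset.sum_comm]
    have : ∀ φ : IrrCharacter ↥H, ∑ c : ↥H, ‖(φ : ↥H → ℂ) c‖ ^ 2 = (Nat.card H : ℝ) :=
      fun φ => GalAvg.irr_norm_sq_sum φ.2
    simp only [this, Finset.sum_const, Finset.card_univ, nsmul_eq_mul,
      ← Nat.card_eq_fintype_card, Char.card_irr_eq_card_conjClasses]
    ring
  have hup : ∀ (a : (ZMod n)ˣ) (c : ↥H),
      ∑ χ : IrrCharacter X, w c * ‖(χ : X → ℂ) (v ^ (a : ZMod n).val * (c : X))‖ ^ 2 ≤
        (Nat.card V : ℝ) * Nat.card (Subgroup.centralizer ({c} : Set ↥H)) := by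
    intro a c
    have hc : (c : X) ∈ G ∧ (c : X) ∈ Subgroup.centralizer ({v} : Set X) := by
      have h := c.2
      simp only [hH, Subgroup.mem_inf] at h
      exact h
    have hcv : Commute (c : X) v := Subgroup.mem_centralizer_singleton_iff.mp hc.2
    have hca : Commute (c : X) (v ^ (a : ZMod n).val) := hcv.pow_right _
    rw [← Finset.mul_sum, GalAvg.irr_sum_norm_sq,
      card_centralizer_mul V hab G hGV (coprime_card hVp hidx hGV) (V.pow_mem hv _) hc.1 hca.symm.eq,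
      Nat.cast_mul, ← mul_assoc]
    have hcard : Nat.card ↥(G ⊓ Subgroup.centralizer ({v ^ (a : ZMod n).val} : Set X) ⊓
        Subgroup.centralizer ({(c : X)} : Set X))
        = Nat.card (Subgroup.centralizer ({c} : Set ↥H)) := by
      have he : Subgroup.centralizer ({v ^ (a : ZMod n).val} : Set X)
          = Subgroup.centralizer ({v} : Set X) := by
        ext x
        rw [Subgroup.mem_centralizer_singleton_iff, Subgroup.mem_centralizer_singleton_iff]
        have h1 := GalAvg.pow_unit_mem_iff a (Subgroup.centralizer ({x} : Set X)) v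
        rw [Subgroup.mem_centralizer_singleton_iff, Subgroup.mem_centralizer_singleton_iff] at h1
        exact ⟨fun h => (h1.mp h.symm).symm, fun h => (h1.mpr h.symm).symm⟩
      rw [he]
      refine Nat.card_congr
        ⟨fun x => ⟨⟨x, hH ▸ x.2.1⟩, Subgroup.mem_centralizer_singleton_iff.mpr
            (Subtype.ext (Subgroup.mem_centralizer_singleton_iff.mp x.2.2))⟩,
          fun x => ⟨x.1, hH ▸ x.1.2, Subgroup.mem_centralizer_singleton_iff.mpr
            (congrArg Subtype.val (Subgroup.mem_centralizer_singleton_iff.mp x.2))⟩,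
          fun x => rfl, fun x => rfl⟩
    rw [hcard]
    exact mul_le_mul_of_nonneg_right (hw c) (Nat.cast_nonneg _)
  have h1 := Finset.sum_le_sum fun χ (_ : χ ∈ (Finset.univ : Finset (IrrCharacter X))) => hlow χ
  rw [Finset.sum_comm] at h1
  have h2 : ∀ a : (ZMod n)ˣ, ∑ χ : IrrCharacter X, ∑ c : ↥H,
      w c * ‖(χ : X → ℂ) (v ^ (a : ZMod n).val * (c : X))‖ ^ 2 ≤
        (Nat.card V : ℝ) * (Nat.card H * Nat.card (ConjClasses H)) := fun a => by
    rw [Finset.sum_comm, ← hHK, Finset.mul_sum]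
    exact Finset.sum_le_sum fun c _ => hup a c
  have h3 := h1.trans (Finset.sum_le_sum fun a _ => h2 a)
  simp only [Finset.sum_const, Finset.card_univ, nsmul_eq_mul, ← hU] at h3
  rw [← Nat.card_eq_fintype_card, Char.card_irr_eq_card_conjClasses] at h3
  have hpos : 0 < U * ((Nat.card H : ℝ) * Nat.card (ConjClasses H)) :=
    mul_pos hUpos (mul_pos (Nat.cast_pos.mpr Nat.card_pos) (Nat.cast_pos.mpr Nat.card_pos))
  have h4 : (Nat.card (ConjClasses X) : ℝ) ≤ Nat.card V := by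
    refine le_of_mul_le_mul_right ?_ hpos
    linarith
  exact_mod_cast h4

end Cfsg.Agent.Kgv
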