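import Cfsg.Agent.BlkChar.LocalTrace
import Cfsg.Agent.Brauer.PrimIdem

/-!
# Symmetric algebras with a single class of primitive idempotents

If the quotient by the commutators has dimension at most four then the basic algebra is commutative
(a theorem of Külshammer), so the algebra is a matrix algebra over a commutative algebra of that
dimension.
-/

set_option autoImplicit false
set_option linter.style.haveILetI false
set_option maxHeartbeats 400000

namespace Cfsg.Agent.BlkChar.LocalSymm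

open Matrix LocalTrace

variable {F : Type*} [Field F] {R : Type*} [Ring R] [Algebra F R] [FiniteDimensional F R]

omit [FiniteDimensional F R] in
/-- Elements of a nilpotent space generated by one element commute. -/
theorem comm_of_generated {N : Submodule F R} (hNN : N * N ≤ N) (hN : ∃ m : ℕ, N ^ m = ⊥) {x : R}
    (hx : x ∈ N) (h : N ≤ Submodule.span F {x} ⊔ N * N) : ∀ a ∈ N, ∀ b ∈ N, a * b = b * a := by
  have hP := LocalTrace.le_span_powers hN hx hNN h rfl
  have key : ∀ a ∈ Submodule.span F (Set.range fun i => x ^ (i + 1)),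
      ∀ b ∈ Submodule.span F (Set.range fun i => x ^ (i + 1)), a * b = b * a := by
    intro a ha
    refine Submodule.span_induction ?_ ?_ ?_ ?_ ha
    · rintro _ ⟨i, rfl⟩ b hb
      refine Submodule.span_induction ?_ ?_ ?_ ?_ hb
      · rintro _ ⟨l, rfl⟩; exact (Commute.pow_pow_self x _ _).eq
      · simp
      · intro y z _ _ hy hz; rw [mul_add, add_mul, hy, hz]
      · intro c y _ hy; rw [mul_smul_comm, smul_mul_assoc, hy]
    · intro b _; simp
    · intro y z _ _ hy hz b hb; rw [mul_add, add_mul, hy b hb, hz b hb]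
    · intro c y _ hy b hb; rw [mul_smul_comm, smul_mul_assoc, hy b hb]
  exact fun a ha b hb => key a (hP ha) b (hP hb)

section Graded

variable {a b c : F} {Lx Ly Rx Ry : R}

omit [FiniteDimensional F R] in
/-- The associativity equations of a quadratic step with nonsymmetric table vanish. -/
theorem eq_zero_of_assoc {V : Submodule F R}
    (h1 : a • Rx - a • Lx ∈ V) (h2 : a • Ry - b • Lx ∈ V) (h3 : b • Rx - (b - 1) • Lx ∈ V)
    (h4 : (b - 1) • Rx - a • Ly ∈ V) (h5 : b • Ry - c • Lx ∈ V) (h6 : (b - 1) • Ry - b • Ly ∈ V)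
    (h7 : c • Rx - (b - 1) • Ly ∈ V) (h8 : c • Ry - c • Ly ∈ V) : Lx ∈ V ∧ Ly ∈ V := by
  have sm : ∀ (t : F) {v : R}, t ≠ 0 → t • v ∈ V → v ∈ V :=
    fun t v ht h => (Submodule.smul_mem_iff _ ht).1 h
  have cancel : ∀ {u w : R}, u - w ∈ V → u ∈ V → w ∈ V := fun {u w} h hu => by
    have := V.sub_mem hu h
    rwa [sub_sub_cancel] at this
  have cancel' : ∀ {u w : R}, u - w ∈ V → w ∈ V → u ∈ V := fun {u w} h hw => by
    have := V.add_mem h hw
    rwa [sub_add_cancel] at this
  by_cases ha : a ≠ 0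
  · have e : Rx - Lx ∈ V := sm a ha (by rwa [smul_sub])
    have hLx : Lx ∈ V := by
      have h := V.sub_mem h3 (V.smul_mem b e)
      convert h using 1
      module
    have hRx : Rx ∈ V := cancel' e hLx
    exact ⟨hLx, sm a ha (cancel h4 (V.smul_mem _ hRx))⟩
  by_cases hc : c ≠ 0
  · have e : Ry - Ly ∈ V := sm c hc (by rwa [smul_sub])
    have hLy : Ly ∈ V := by
      have h := V.sub_mem (V.smul_mem (b - 1) e) h6
      convert h using 1
      module
    have hRy : Ry ∈ V := cancel' e hLy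
    exact ⟨sm c hc (cancel h5 (V.smul_mem _ hRy)), hLy⟩
  rw [not_not] at ha hc
  subst ha hc
  simp only [zero_smul, zero_sub, sub_zero] at h2 h4 h5 h7
  rw [neg_mem_iff] at h2 h7
  refine ⟨?_, ?_⟩
  · by_cases hb : b = 0
    · subst hb
      convert h3 using 1
      module
    · exact sm b hb h2
  · by_cases hb : b = 1
    · subst hb
      simp only [sub_self, zero_smul, one_smul, zero_sub, neg_mem_iff] at h6
      exact h6
    · exact sm _ (sub_ne_zero.2 hb) h7

end Graded

variable (τ : R →ₗ[F] F) (hτ : ∀ a b, τ (a * b) = τ (b * a))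
include hτ

/-- Külshammer: a local symmetric algebra with commutator quotient of dimension at most four is
commutative. -/
theorem cornerComm_eq_bot {e : R} (he : IsIdempotentElem e) {A Nn : Submodule F R}
    (hA : A = cornerSub (F := F) e) (hnd : ∀ a ∈ A, (∀ b ∈ A, τ (a * b) = 0) → a = 0)
    (hNA : Nn ≤ A) (hdec : ∀ a ∈ A, ∃ t : F, a - t • e ∈ Nn) (hNN : Nn * Nn ≤ Nn)
    (hnil : ∃ m : ℕ, Nn ^ m = ⊥) (h4 : Module.finrank F A ≤ Module.finrank F (cornerComm (F := F) e) + 4) :
    cornerComm (F := F) e = ⊥ := by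
  classical
  have hid : ∀ x ∈ A, e * x = x ∧ x * e = x := fun x hx => (mem_cornerSub he).1 (hA ▸ hx)
  have heA : e ∈ A := hA ▸ (mem_cornerSub he).2 ⟨he.eq, he.eq⟩
  set SA := cornerComm (F := F) e with hSA
  have hgen : ∀ x ∈ A, ∀ y ∈ A, ∃ u ∈ Nn, ∃ v ∈ Nn, x * y - y * x = u * v - v * u := by
    intro x hx y hy
    obtain ⟨cx, hcx⟩ := hdec x hx
    obtain ⟨cy, hcy⟩ := hdec y hy
    refine ⟨_, hcx, _, hcy, ?_⟩
    simp only [sub_mul, mul_sub, smul_mul_assoc, mul_smul_comm, (hid x hx).1, (hid x hx).2,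
      (hid y hy).1, (hid y hy).2, he.eq]
    module
  have hSle : ∀ V : Submodule F R, (∀ u ∈ Nn, ∀ v ∈ Nn, u * v - v * u ∈ V) → SA ≤ V := by
    intro V hV
    rw [hSA, cornerComm, Submodule.span_le]
    rintro _ ⟨x, hx, y, hy, rfl⟩
    obtain ⟨u, hu, v, hv, h⟩ := hgen x (hA ▸ hx) y (hA ▸ hy)
    rw [h]; exact hV u hu v hv
  by_contra hne
  have hcomm : ¬ ∀ u ∈ Nn, ∀ v ∈ Nn, u * v = v * u := fun h =>
    hne (le_bot_iff.1 (hSle ⊥ fun u hu v hv => by simp [h u hu v hv]))
  have hS2 : SA ≤ Nn * Nn := hSle _ fun u hu v hv =>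
    Submodule.sub_mem _ (Submodule.mul_mem_mul hu hv) (Submodule.mul_mem_mul hv hu)
  have hSτ : ∀ s ∈ SA, τ s = 0 := fun s hs => LinearMap.mem_ker.1 <| (show SA ≤ LinearMap.ker τ by
    rw [hSA, cornerComm, Submodule.span_le]
    rintro _ ⟨x, -, y, -, rfl⟩
    rw [SetLike.mem_coe, LinearMap.mem_ker, map_sub, hτ, sub_self]) hs
  -- the socle
  let Z : Submodule F R := A ⊓ ⨅ x ∈ Nn, LinearMap.ker (LinearMap.mulLeft F x)
  have hZ : ∀ {z : R}, z ∈ Z ↔ z ∈ A ∧ ∀ x ∈ Nn, x * z = 0 := fun {z} => by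
    simp [Z, Submodule.mem_iInf]
  have hZ0 : ∀ z ∈ Z, τ z = 0 → z = 0 := by
    intro z hz h0
    obtain ⟨hzA, hzN⟩ := hZ.1 hz
    refine hnd z hzA fun b hb => ?_
    obtain ⟨t, ht⟩ := hdec b hb
    rw [hτ, show b = t • e + (b - t • e) by abel, add_mul, hzN _ ht, add_zero, smul_mul_assoc,
      (hid z hzA).1, map_smul, h0, smul_zero]
  have hZS : Disjoint SA Z := Submodule.disjoint_def.2 fun s hs hz => hZ0 s hz (hSτ s hs)
  have hZ1 : Module.finrank F Z ≤ 1 := by
    have : Function.Injective (τ.comp Z.subtype) := by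
      rw [injective_iff_map_eq_zero]
      exact fun z hz => Subtype.ext (hZ0 _ z.2 hz)
    simpa using LinearMap.finrank_le_finrank_of_injective this
  -- powers
  have hpow : ∀ i : ℕ, Nn ^ (i + 1) ≤ Nn := by
    intro i
    induction i with
    | zero => rw [zero_add, pow_one]
    | succ i ih => rw [pow_succ]; exact (mul_le_mul' ih le_rfl).trans hNN
  have hkill : ∀ W : Submodule F R, W ≤ A → Nn * W = ⊥ → W ≤ Z := fun W hW h w hw =>
    hZ.2 ⟨hW hw, fun x hx => (Submodule.mem_bot F).1 (h ▸ Submodule.mul_mem_mul hx hw)⟩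
  set N3 := Nn * (Nn * Nn) with hN3
  by_cases hcube : N3 = ⊥
  · exact hne (le_bot_iff.1 fun s hs =>
      Submodule.disjoint_def.1 hZS s hs (hkill _ (hNN.trans hNA) (hN3 ▸ hcube) (hS2 hs)) ▸
        Submodule.zero_mem _)
  -- the socle is the last nonzero power
  have hZ3 : ∃ z ∈ Z, z ∈ N3 ∧ z ≠ 0 := by
    obtain ⟨m, hm⟩ := hnil
    have hex : ∃ i, Nn ^ (i + 3) = ⊥ := ⟨m, by rw [pow_add, hm, Submodule.bot_mul]⟩
    have hi0 : Nat.find hex ≠ 0 := fun h => hcube (by
      have := Nat.find_spec hex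
      rw [h, zero_add, pow_succ', pow_two] at this
      exact this)
    obtain ⟨i, hi⟩ := Nat.exists_eq_succ_of_ne_zero hi0
    have hne' : Nn ^ (i + 3) ≠ ⊥ := Nat.find_min hex (by omega)
    obtain ⟨z, hz, hz0⟩ := Submodule.exists_mem_ne_zero_of_ne_bot hne'
    refine ⟨z, hkill _ ((hpow (i + 2)).trans hNA) ?_ hz, ?_, hz0⟩
    · rw [← pow_succ', show i + 3 + 1 = i.succ + 3 by omega, ← hi]
      exact Nat.find_spec hex
    · have hle : Nn ^ (i + 3) ≤ N3 := by
        rw [hN3, show Nn * (Nn * Nn) = Nn ^ 3 by rw [pow_succ', pow_two]]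
        clear hz hne' hi
        induction i with
        | zero => rfl
        | succ i ih =>
          refine le_trans ?_ ih
          rw [show i + 1 + 3 = (i + 3) + 1 by omega, pow_succ]
          rw [show Nn ^ (i + 3) = Nn ^ (i + 2) * Nn by rw [← pow_succ]]
          rw [mul_assoc]
          exact mul_le_mul' le_rfl hNN
      exact hle hz
  obtain ⟨z₀, hz₀, hz₀3, hz₀0⟩ := hZ3
  have hN3N2 : N3 ≤ Nn * Nn := mul_le_mul' le_rfl hNN
  have hzsup : Submodule.span F {z₀} ⊔ SA ≤ Nn * Nn := sup_le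
    ((Submodule.span_singleton_le_iff_mem _ _).2 (hN3N2 hz₀3)) hS2
  have hdimS : Module.finrank F SA + 1 = Module.finrank F ↥(Submodule.span F {z₀} ⊔ SA) := by
    rw [add_comm, ← finrank_span_singleton (K := F) hz₀0]
    have h := Submodule.finrank_sup_add_finrank_inf_eq (Submodule.span F {z₀}) SA
    have hbot : Submodule.span F {z₀} ⊓ SA = ⊥ :=
      (hZS.mono_right ((Submodule.span_singleton_le_iff_mem _ _).2 hz₀)).symm.eq_bot
    rw [hbot, finrank_bot, add_zero] at h
    exact h.symm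
  have heN : e ∉ Nn := by
    intro h
    obtain ⟨m, hm⟩ := hnil
    have hem : e ^ (m + 1) ∈ Nn ^ (m + 1) := Submodule.pow_mem_pow _ h _
    rw [he.pow_succ_eq, pow_succ, hm, Submodule.bot_mul, Submodule.mem_bot] at hem
    apply hz₀0
    rw [← (hid z₀ (hZ.1 hz₀).1).1, hem, zero_mul]
  have hdimA : Module.finrank F Nn + 1 ≤ Module.finrank F A :=
    Submodule.finrank_lt_finrank_of_lt (lt_of_le_of_ne hNA fun h => heN (by rw [h]; exact heA))
  -- two generators
  have hone : ∀ x ∈ Nn, ¬ Nn ≤ Submodule.span F {x} ⊔ Nn * Nn := fun x hx h =>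
    hcomm (comm_of_generated hNN hnil hx h)
  obtain ⟨x, hx, hx2⟩ := SetLike.not_le_iff_exists.1 (hone 0 Nn.zero_mem)
  rw [Submodule.span_zero_singleton, bot_sup_eq] at hx2
  obtain ⟨y, hy, hy2⟩ := SetLike.not_le_iff_exists.1 (hone x hx)
  set W1 := Submodule.span F {x} ⊔ Nn * Nn
  set W2 := Submodule.span F {y} ⊔ W1
  have l1 : Module.finrank F ↥(Nn * Nn) < Module.finrank F W1 :=
    Submodule.finrank_lt_finrank_of_lt (lt_of_le_of_ne le_sup_right fun h => hx2 (by
      rw [h]; exact Submodule.mem_sup_left (Submodule.mem_span_singleton_self x)))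
  have l2 : Module.finrank F W1 < Module.finrank F W2 :=
    Submodule.finrank_lt_finrank_of_lt (lt_of_le_of_ne le_sup_right fun h => hy2 (by
      rw [h]; exact Submodule.mem_sup_left (Submodule.mem_span_singleton_self y)))
  have hW2 : W2 ≤ Nn := sup_le ((Submodule.span_singleton_le_iff_mem _ _).2 hy)
    (sup_le ((Submodule.span_singleton_le_iff_mem _ _).2 hx) hNN)
  have l0 := Submodule.finrank_mono hzsup
  have l3 := Submodule.finrank_mono hW2
  have hNeq : W2 = Nn := Submodule.eq_of_le_of_finrank_le hW2 (by omega)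
  have hN2eq : Submodule.span F {z₀} ⊔ SA = Nn * Nn :=
    Submodule.eq_of_le_of_finrank_le hzsup (by omega)
  -- the square is generated by the commutator of the generators modulo the cube
  have hmemN : ∀ u ∈ Nn, ∃ (α β : F) (w : R), w ∈ Nn * Nn ∧ u = α • x + β • y + w := by
    intro u hu
    rw [← hNeq] at hu
    obtain ⟨u1, hu1, u2, hu2, rfl⟩ := Submodule.mem_sup.1 hu
    obtain ⟨u3, hu3, w, hw, rfl⟩ := Submodule.mem_sup.1 hu2
    obtain ⟨β, rfl⟩ := Submodule.mem_span_singleton.1 hu1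
    obtain ⟨α, rfl⟩ := Submodule.mem_span_singleton.1 hu3
    exact ⟨α, β, w, hw, by abel⟩
  have h3a : Nn * Nn * Nn = N3 := mul_assoc _ _ _
  set ζ := x * y - y * x with hζ
  set V2 := Submodule.span F {ζ} ⊔ N3
  have hSV : SA ≤ V2 := hSle _ fun u hu v hv => by
    obtain ⟨α, β, w, hw, rfl⟩ := hmemN u hu
    obtain ⟨α', β', w', hw', rfl⟩ := hmemN v hv
    have e1 : (α • x + β • y + w) * (α' • x + β' • y + w') -
        (α' • x + β' • y + w') * (α • x + β • y + w) = (α * β' - β * α') • ζ +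
        (((α • x + β • y + w) * w' - w' * (α • x + β • y + w)) +
          (w * (α' • x + β' • y) - (α' • x + β' • y) * w)) := by
      simp only [hζ, mul_add, add_mul, smul_mul_assoc, mul_smul_comm, smul_add, smul_sub]
      module
    rw [e1]
    refine Submodule.add_mem _ (Submodule.mem_sup_left
      (Submodule.smul_mem _ _ (Submodule.mem_span_singleton_self _))) (Submodule.mem_sup_right ?_)
    have hu' : α • x + β • y + w ∈ Nn :=
      Nn.add_mem (Nn.add_mem (Nn.smul_mem _ hx) (Nn.smul_mem _ hy)) (hNN hw)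
    have hv' : α' • x + β' • y ∈ Nn := Nn.add_mem (Nn.smul_mem _ hx) (Nn.smul_mem _ hy)
    exact N3.add_mem
      (N3.sub_mem (Submodule.mul_mem_mul hu' hw') (h3a ▸ Submodule.mul_mem_mul hw' hu'))
      (N3.sub_mem (h3a ▸ Submodule.mul_mem_mul hw hv') (Submodule.mul_mem_mul hv' hw))
  have hN2V : Nn * Nn ≤ V2 := hN2eq ▸
    sup_le ((Submodule.span_singleton_le_iff_mem _ _).2 (Submodule.mem_sup_right hz₀3)) hSV
  have hq : ∀ u ∈ Nn, ∀ v ∈ Nn, ∃ t : F, u * v - t • ζ ∈ N3 := by
    intro u hu v hv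
    obtain ⟨u1, hu1, u2, hu2, h⟩ := Submodule.mem_sup.1 (hN2V (Submodule.mul_mem_mul hu hv))
    obtain ⟨t, rfl⟩ := Submodule.mem_span_singleton.1 hu1
    exact ⟨t, by rw [← h, add_sub_cancel_left]; exact hu2⟩
  obtain ⟨ta, hta⟩ := hq x hx x hx
  obtain ⟨tb, htb⟩ := hq x hx y hy
  obtain ⟨tc, htc⟩ := hq y hy y hy
  have hty : y * x - (tb - 1) • ζ ∈ N3 := by
    convert htb using 1
    rw [sub_smul, one_smul, hζ]
    abel
  set V4 := Nn * N3 with hV4
  have h4a : N3 * Nn = V4 := by
    rw [hV4, hN3]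
    simp only [mul_assoc]
  -- associativity of the degree three products
  have hassoc : ∀ u ∈ Nn, ∀ v : R, ∀ w ∈ Nn, ∀ s t : F, u * v - s • ζ ∈ N3 → v * w - t • ζ ∈ N3 →
      s • (ζ * w) - t • (u * ζ) ∈ V4 := by
    intro u hu v w hw s t hs ht
    have h1 : (u * v - s • ζ) * w ∈ V4 := h4a ▸ Submodule.mul_mem_mul hs hw
    have h2 : u * (v * w - t • ζ) ∈ V4 := Submodule.mul_mem_mul hu ht
    have := V4.sub_mem h2 h1
    convert this using 1
    simp only [mul_sub, sub_mul, smul_mul_assoc, mul_smul_comm, mul_assoc]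
    abel
  obtain ⟨hLx, hLy⟩ := eq_zero_of_assoc (V := V4)
    (hassoc x hx x x hx _ _ hta hta) (hassoc x hx x y hy _ _ hta htb)
    (hassoc x hx y x hx _ _ htb hty) (hassoc y hy x x hx _ _ hty hta)
    (hassoc x hx y y hy _ _ htb htc) (hassoc y hy x y hy _ _ hty htb)
    (hassoc y hy y x hx _ _ htc hty) (hassoc y hy y y hy _ _ htc htc)
  have h34 : N3 ≤ V4 := by
    rw [hN3, Submodule.mul_le]
    intro u hu q hqm
    obtain ⟨q1, hq1, q2, hq2, rfl⟩ := Submodule.mem_sup.1 (hN2V hqm)
    obtain ⟨t, rfl⟩ := Submodule.mem_span_singleton.1 hq1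
    obtain ⟨α, β, w, hw, rfl⟩ := hmemN u hu
    rw [mul_add]
    refine V4.add_mem ?_ (Submodule.mul_mem_mul
      (Nn.add_mem (Nn.add_mem (Nn.smul_mem _ hx) (Nn.smul_mem _ hy)) (hNN hw)) hq2)
    rw [add_mul, add_mul, smul_mul_assoc, smul_mul_assoc, mul_smul_comm, mul_smul_comm]
    refine V4.add_mem (V4.add_mem (V4.smul_mem _ (V4.smul_mem _ hLx))
      (V4.smul_mem _ (V4.smul_mem _ hLy))) ?_
    rw [mul_smul_comm]
    refine V4.smul_mem _ ?_
    have hz2 : ζ ∈ Nn * Nn := Nn.mul_mem_mul hx hy |> fun h =>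
      Submodule.sub_mem _ h (Submodule.mul_mem_mul hy hx)
    have := Submodule.mul_mem_mul hw hz2
    rw [mul_assoc] at this
    exact this
  -- descend
  have hall : ∀ i : ℕ, N3 ≤ Nn ^ i * N3 := by
    intro i
    induction i with
    | zero => rw [pow_zero, one_mul]
    | succ i ih =>
      refine ih.trans ((mul_le_mul' le_rfl h34).trans ?_)
      rw [hV4, ← mul_assoc, ← pow_succ]
  obtain ⟨m, hm⟩ := hnil
  exact hcube (le_bot_iff.1 ((hall m).trans (by rw [hm, Submodule.bot_mul])))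

/-- A symmetric algebra with one class of primitive idempotents and commutator quotient of
dimension `k ≤ 4` is a matrix algebra over a commutative algebra of dimension `k`. -/
theorem exists_matrix_dims [IsAlgClosed F] [Nontrivial R]
    (hnd : ∀ a, (∀ b, τ (a * b) = 0) → a = 0)
    (hone : ∀ e f : R, Brauer.PrimIdem.IsPrim e → Brauer.PrimIdem.IsPrim f →
      Brauer.PrimIdem.Equivalent e f)
    (hk : Module.finrank F (R ⧸ commSpan F R) ≤ 4) :
    ∃ (n : ℕ) (e : R), Brauer.PrimIdem.IsPrim e ∧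
      Module.finrank F R = n ^ 2 * Module.finrank F (R ⧸ commSpan F R) ∧
      Module.finrank F (LinearMap.range (LinearMap.mulLeft F e)) =
        n * Module.finrank F (R ⧸ commSpan F R) := by
  classical
  haveI : IsArtinianRing R := IsArtinianRing.of_finite F R
  set J := Ring.jacobson R with hJ
  haveI hss : IsSemisimpleRing (R ⧸ J) := IsSemiprimaryRing.isSemisimpleRing
  obtain ⟨N, hN⟩ := (IsSemiprimaryRing.isNilpotent : IsNilpotent (Ring.jacobson R))
  haveI : FiniteDimensional F (R ⧸ J) :=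
    Module.Finite.of_surjective (Ideal.Quotient.mkₐ F J).toLinearMap Ideal.Quotient.mk_surjective
  obtain ⟨r, d, hd, ⟨Φ⟩⟩ := IsSemisimpleRing.exists_algEquiv_pi_matrix_of_isAlgClosed F (R ⧸ J)
  set q : R →ₐ[F] (∀ i, Matrix (Fin (d i)) (Fin (d i)) F) :=
    Φ.toAlgHom.comp (Ideal.Quotient.mkₐ F J) with hqdef
  have hqs : Function.Surjective q := Φ.surjective.comp Ideal.Quotient.mk_surjective
  have hqk : ∀ x, q x = 0 ↔ x ∈ J := fun x => by
    simp [hqdef, Ideal.Quotient.eq_zero_iff_mem]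
  have hnil : ∀ x, q x = 0 → IsNilpotent x := fun x hx =>
    ⟨N, by
      have h := Ideal.pow_mem_pow ((hqk x).1 hx) N
      rw [← hJ] at hN
      rw [hN] at h
      exact (Submodule.mem_bot R).1 h⟩
  -- a single factor
  let tr : Fin r → R →ₗ[F] F := fun i =>
    (traceLinearMap (Fin (d i)) F F).comp ((LinearMap.proj i).comp q.toLinearMap)
  have htr : ∀ i x y, tr i (x * y) = tr i (y * x) := fun i x y => by
    simp only [tr, LinearMap.comp_apply, LinearMap.proj_apply, traceLinearMap_apply,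
      AlgHom.toLinearMap_apply, map_mul, Pi.mul_apply]
    exact trace_mul_comm _ _
  have hr0 : r ≠ 0 := by
    rintro rfl
    have h1 : q (1 : R) = 0 := funext fun i => i.elim0
    exact not_isNilpotent_one (hnil 1 h1)
  have hlift : ∀ i, ∃ f : R, IsIdempotentElem f ∧ ∀ l, tr l f = if l = i then 1 else 0 := by
    intro i
    haveI := hd i
    obtain ⟨f, hf, hqf⟩ := exists_isIdempotentElem_eq_of_ker_isNilpotent
      (q : R →+* ∀ i, Matrix (Fin (d i)) (Fin (d i)) F) (fun x hx => hnil x hx)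
      (Pi.single i (single 0 0 (1 : F))) (hqs _)
      (by rw [IsIdempotentElem, ← Pi.single_mul, single_mul_single_same, mul_one])
    refine ⟨f, hf, fun l => ?_⟩
    have hqf' : q f = Pi.single i (single 0 0 (1 : F)) := hqf
    simp only [tr, LinearMap.comp_apply, LinearMap.proj_apply, traceLinearMap_apply,
      AlgHom.toLinearMap_apply, hqf']
    by_cases h : l = i
    · subst h; simp
    · simp [h]
  have hspan : ∀ f g : R, IsIdempotentElem f → Brauer.PrimIdem.IsPrim g →
      ∃ t : F, ∀ l, tr l f = t * tr l g := by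
    intro f g hf hg
    refine Brauer.PrimIdem.induction_prim F (P := fun f => ∃ t : F, ∀ l, tr l f = t * tr l g)
      ⟨0, fun l => by simp⟩ (fun e he => ⟨1, fun l => ?_⟩) ?_ hf
    · obtain ⟨u, v, -, -, huv, hvu⟩ := hone e g he hg
      rw [one_mul, ← huv, ← hvu, htr]
    · rintro e e' - - - ⟨t, ht⟩ ⟨t', ht'⟩
      exact ⟨t + t', fun l => by rw [add_mul, ← ht, ← ht', ← map_add, add_sub_cancel]⟩
  have hr1 : r = 1 := by
    obtain ⟨g, hg⟩ : ∃ g : R, Brauer.PrimIdem.IsPrim g := by
      by_contra hcon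
      push Not at hcon
      have h10 : (1 : R) = 0 := Brauer.PrimIdem.induction_prim F (P := fun f : R => f = 0) rfl
        (fun e he => absurd he (hcon e)) (fun e f _ _ _ h1 h2 => by
          rw [h1, sub_zero] at h2; exact h2) IsIdempotentElem.one
      exact one_ne_zero h10
    by_contra hr
    obtain ⟨f0, hf0, hf0'⟩ := hlift ⟨0, Nat.pos_of_ne_zero hr0⟩
    obtain ⟨f1, hf1, hf1'⟩ := hlift ⟨1, by omega⟩
    obtain ⟨t0, ht0⟩ := hspan f0 g hf0 hg
    obtain ⟨t1, ht1⟩ := hspan f1 g hf1 hg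
    have a0 := ht0 ⟨0, Nat.pos_of_ne_zero hr0⟩
    have a1 := ht1 ⟨0, Nat.pos_of_ne_zero hr0⟩
    have b1 := ht1 ⟨1, by omega⟩
    rw [hf0', if_pos rfl] at a0
    rw [hf1', if_neg (by simp)] at a1
    rw [hf1', if_pos rfl] at b1
    rcases mul_eq_zero.1 a1.symm with h | h
    · rw [h, zero_mul] at b1; exact one_ne_zero b1
    · rw [h, mul_zero] at a0; exact one_ne_zero a0
  subst hr1
  haveI := hd 0
  set q₀ : R →ₐ[F] Matrix (Fin (d 0)) (Fin (d 0)) F := (Pi.evalAlgHom F _ 0).comp q with hq₀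
  have hqeq : ∀ x, q₀ x = 0 ↔ q x = 0 := fun x =>
    ⟨fun h => funext fun i => by obtain rfl := Subsingleton.elim i 0; exact h,
      fun h => by simp [hq₀, h]⟩
  obtain ⟨U, hU⟩ := exists_units (q := q₀) (fun m => by
    obtain ⟨x, hx⟩ := hqs (fun i => by obtain rfl := Subsingleton.elim i 0; exact m)
    exact ⟨x, by simp [hq₀, hx]⟩) (fun x hx => hnil x ((hqeq x).1 hx))
  have he0 : IsIdempotentElem (U.e 0) := U.complete.idem 0
  set A := cornerSub (F := F) (U.e 0) with hA
  have hmemA : ∀ {x : R}, x ∈ A ↔ U.e 0 * x = x ∧ x * U.e 0 = x := fun {x} => mem_cornerSub he0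
  set Nn := A ⊓ J.restrictScalars F with hNn
  have hdec : ∀ a ∈ A, ∃ c : F, a - c • U.e 0 ∈ Nn := by
    intro a ha
    refine ⟨q₀ a 0 0, ?_, (hqk _).1 ((hqeq _).1 ?_)⟩
    · exact A.sub_mem ha (A.smul_mem _ (hmemA.2 ⟨he0.eq, he0.eq⟩))
    · obtain ⟨h1, h2⟩ := hmemA.1 ha
      rw [map_sub, map_smul, hU, sub_eq_zero]
      conv_lhs => rw [← h2, ← h1, map_mul, map_mul, hU]
      rw [single_mul_mul_single, one_mul, mul_one, smul_single, smul_eq_mul, mul_one]
  have hNN : Nn * Nn ≤ Nn := Submodule.mul_le.2 fun x hx y hy =>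
    ⟨hmemA.2 ⟨by rw [← mul_assoc, (hmemA.1 hx.1).1], by rw [mul_assoc, (hmemA.1 hy.1).2]⟩,
      J.mul_mem_left x hy.2⟩
  have hpow : ∀ m : ℕ, ∀ x ∈ Nn ^ (m + 1), x ∈ J ^ (m + 1) := by
    intro m
    induction m with
    | zero => intro x hx; rw [zero_add, pow_one] at hx; rw [zero_add, Submodule.pow_one]; exact hx.2
    | succ m ih =>
      intro x hx
      rw [pow_succ] at hx
      rw [Ideal.IsTwoSided.pow_succ, ← Ideal.IsTwoSided.pow_succ]
      refine Submodule.mul_induction_on hx (fun a ha b hb => ?_) (fun a b ha hb => add_mem ha hb)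
      rw [Submodule.pow_succ]
      exact Ideal.mul_mem_mul (ih a ha) hb.2
  have hNnil : ∃ m : ℕ, Nn ^ m = ⊥ := ⟨N + 1, (Submodule.eq_bot_iff _).2 fun z hz => by
    have h := Ideal.pow_le_pow_right (Nat.le_succ N) (hpow N z hz)
    rw [← hJ] at hN
    rw [hN] at h
    exact (Submodule.mem_bot R).1 h⟩
  set SA := cornerComm (F := F) (U.e 0) with hSA
  have hsurj : Module.finrank F (R ⧸ commSpan F R) ≤ Module.finrank F A := by
    have hs : Function.Surjective ((commSpan F R).mkQ.comp A.subtype) := by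
      intro y
      obtain ⟨x, rfl⟩ := Submodule.mkQ_surjective _ y
      refine ⟨⟨U.tr (F := F) x, U.tr_mem x⟩, ?_⟩
      exact ((Submodule.Quotient.eq _).2 (U.sub_tr_mem x)).symm
    simpa using LinearMap.finrank_le_finrank_of_injective
      (f := ((commSpan F R).mkQ.comp A.subtype).dualMap) (LinearMap.dualMap_injective_of_surjective hs)
  have hmap : commSpan F R ≤ LinearMap.ker (SA.mkQ.comp (U.tr (F := F))) := fun x hx => by
    rw [LinearMap.mem_ker, LinearMap.comp_apply, Submodule.mkQ_apply, Submodule.Quotient.mk_eq_zero]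
    exact U.tr_comm_mem hx
  have hSle : SA ≤ A := by
    rw [hSA, cornerComm, Submodule.span_le]
    rintro _ ⟨x, hx, y, hy, rfl⟩
    rw [← hA] at hx hy
    obtain ⟨x1, x2⟩ := hmemA.1 hx
    obtain ⟨y1, y2⟩ := hmemA.1 hy
    exact hmemA.2 ⟨by rw [mul_sub, ← mul_assoc, x1, ← mul_assoc, y1],
      by rw [sub_mul, mul_assoc, y2, mul_assoc, x2]⟩
  have hAS : Module.finrank F A ≤
      Module.finrank F SA + Module.finrank F (R ⧸ commSpan F R) := by
    have h1 : Module.finrank F (A.map SA.mkQ) ≤ Module.finrank F (R ⧸ commSpan F R) := by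
      refine le_trans (Submodule.finrank_mono ?_)
        (LinearMap.finrank_range_le ((commSpan F R).liftQ _ hmap))
      rintro _ ⟨a, ha, rfl⟩
      exact ⟨Submodule.Quotient.mk (U.a 0 * a * U.b 0), by
        rw [Submodule.liftQ_apply, LinearMap.comp_apply, U.tr_surj ha]⟩
    have h2 := (SA.mkQ.comp A.subtype).finrank_range_add_finrank_ker
    rw [LinearMap.range_comp, Submodule.range_subtype, LinearMap.ker_comp, Submodule.ker_mkQ,
      (Submodule.comapSubtypeEquivOfLe hSle).finrank_eq] at h2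
    omega
  have hbot : SA = ⊥ := cornerComm_eq_bot τ hτ he0 hA (fun a ha h => hnd a fun b => by
      obtain ⟨h1, h2⟩ := hmemA.1 ha
      have hmem : U.e 0 * b * U.e 0 ∈ A :=
        hmemA.2 ⟨by rw [← mul_assoc, ← mul_assoc, he0.eq], by rw [mul_assoc, he0.eq]⟩
      have := h _ hmem
      rwa [← mul_assoc, ← mul_assoc, h2, hτ, ← mul_assoc, h1] at this)
    inf_le_left hdec hNN hNnil (by rw [← hSA]; omega)
  have hAk : Module.finrank F A = Module.finrank F (R ⧸ commSpan F R) := by
    refine le_antisymm ?_ hsurj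
    rw [hbot, finrank_bot, zero_add] at hAS
    exact hAS
  refine ⟨d 0, U.e 0, ⟨he0, ?_, fun f hf hfe => ?_⟩, by rw [U.finrank_eq (F := F), hAk], ?_⟩
  · intro h
    rw [h, map_zero] at hU
    simpa using congrFun (congrFun hU 0) 0
  · obtain ⟨c, hc⟩ := hdec f (hmemA.2 hfe)
    have hq0 : q₀ f = c • single 0 0 1 := by
      have h := (hqeq _).2 ((hqk _).2 hc.2)
      rwa [map_sub, map_smul, hU, sub_eq_zero] at h
    have hc2 : c * c = c := by
      have h := congrArg q₀ hf.eq
      rw [map_mul, hq0] at h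
      simpa using congrFun (congrFun h 0) 0
    have key : ∀ g : R, IsIdempotentElem g → q₀ g = 0 → g = 0 := fun g hg h =>
      hg.eq_zero_of_isNilpotent (hnil g ((hqeq g).1 h))
    rcases (IsIdempotentElem.iff_eq_zero_or_one.1 hc2) with h | h
    · exact Or.inl (key f hf (by rw [hq0, h, zero_smul]))
    · exact Or.inr (sub_eq_zero.1 (key _ (Brauer.PrimIdem.below_sub he0 hf hfe).1 (by
        rw [map_sub, hU, hq0, h, one_smul, sub_self]))).symm
  · -- the row of the corner
    let Φr : LinearMap.range (LinearMap.mulLeft F (U.e 0)) ≃ₗ[F] (Fin (d 0) → A) :=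
      { toFun := fun v l => ⟨(v : R) * U.a l, hmemA.2 ⟨by
          obtain ⟨w, hw⟩ := v.2
          rw [← hw, LinearMap.mulLeft_apply, ← mul_assoc, ← mul_assoc, he0.eq],
          by rw [mul_assoc, (U.a_mem l).2]⟩⟩
        map_add' := fun v w => by funext l; exact Subtype.ext (by simp [add_mul])
        map_smul' := fun t v => by funext l; exact Subtype.ext (by simp)
        invFun := fun m => ⟨∑ l, (m l : R) * U.b l, ⟨∑ l, (m l : R) * U.b l, by
          rw [LinearMap.mulLeft_apply, Finset.mul_sum]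
          exact Finset.sum_congr rfl fun l _ => by rw [← mul_assoc, (hmemA.1 (m l).2).1]⟩⟩
        left_inv := fun v => Subtype.ext (by
          show ∑ l, (v : R) * U.a l * U.b l = v
          simp only [mul_assoc, U.ab, ← Finset.mul_sum, U.complete.complete, mul_one])
        right_inv := fun m => by
          funext l
          refine Subtype.ext ?_
          show (∑ i, (m i : R) * U.b i) * U.a l = _
          rw [Finset.sum_mul, Finset.sum_eq_single l]
          · rw [mul_assoc, U.ba, (hmemA.1 (m l).2).2]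
          · intro i _ hi
            rw [mul_assoc, U.ba_ne hi, mul_zero]
          · simp }
    rw [Φr.finrank_eq, Module.finrank_pi_fintype, ← hAk]
    simp

end Cfsg.Agent.BlkChar.LocalSymm
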