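import Mathlib.RingTheory.SimpleModule.IsAlgClosed
import Mathlib.RingTheory.Artinian.Module
import Mathlib.RingTheory.Jacobson.Semiprimary
import Mathlib.RingTheory.Idempotents
import Mathlib.RingTheory.Nilpotent.Basic
import Mathlib.LinearAlgebra.Matrix.Trace
import Mathlib.LinearAlgebra.Dimension.Constructions

/-!
# Symmetric algebras whose commutator quotient has dimension two

A symmetric algebra over an algebraically closed field without nontrivial central idempotents,
whose quotient by the span of the commutators has dimension two, has dimension `2 n ^ 2`: it is a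
full matrix algebra over a commutative local algebra of dimension two.
-/

set_option autoImplicit false
set_option linter.style.haveILetI false
set_option maxHeartbeats 400000

namespace Cfsg.Agent.BlkChar.LocalTrace

open Matrix

variable {F : Type*} [Field F] {R : Type*} [Ring R] [Algebra F R]

variable (F R) in
/-- The span of the commutators. -/
def commSpan : Submodule F R :=
  Submodule.span F (Set.range fun x : R × R => x.1 * x.2 - x.2 * x.1)

theorem comm_mem (x y : R) : x * y - y * x ∈ commSpan F R :=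
  Submodule.subset_span ⟨(x, y), rfl⟩

/-- The space `e R e` of an idempotent. -/
def cornerSub (e : R) : Submodule F R :=
  LinearMap.range ((LinearMap.mulLeft F e).comp (LinearMap.mulRight F e))

theorem mem_cornerSub {e : R} (he : IsIdempotentElem e) {x : R} :
    x ∈ cornerSub (F := F) e ↔ e * x = x ∧ x * e = x := by
  constructor
  · rintro ⟨y, rfl⟩
    simp only [LinearMap.comp_apply, LinearMap.mulRight_apply, LinearMap.mulLeft_apply]
    exact ⟨by rw [← mul_assoc, he.eq], by rw [mul_assoc, mul_assoc, he.eq]⟩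
  · rintro ⟨h1, h2⟩
    exact ⟨x, by simp [h1, h2]⟩

/-- Matrix units of `R`. -/
structure Units (R : Type*) [Ring R] (n : ℕ) [NeZero n] where
  e : Fin n → R
  a : Fin n → R
  b : Fin n → R
  complete : CompleteOrthogonalIdempotents e
  a_mem : ∀ i, e i * a i = a i ∧ a i * e 0 = a i
  b_mem : ∀ i, e 0 * b i = b i ∧ b i * e i = b i
  ba : ∀ i, b i * a i = e 0
  ab : ∀ i, a i * b i = e i

variable {n : ℕ} [NeZero n]

theorem Units.ba_ne (U : Units R n) {i l : Fin n} (h : i ≠ l) : U.b i * U.a l = 0 := by
  rw [← (U.b_mem i).2, ← (U.a_mem l).1, mul_assoc, ← mul_assoc (U.e i), U.complete.ortho h,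
    zero_mul, mul_zero]

theorem Units.expand (U : Units R n) (x : R) :
    ∑ i, ∑ l, U.a i * (U.b i * x * U.a l) * U.b l = x := by
  have h : ∀ i l, U.a i * (U.b i * x * U.a l) * U.b l = U.e i * x * U.e l := by
    intro i l
    rw [show U.a i * (U.b i * x * U.a l) * U.b l = (U.a i * U.b i) * x * (U.a l * U.b l) by
      simp only [mul_assoc], U.ab, U.ab]
  simp only [h, ← Finset.mul_sum, U.complete.complete, mul_one, ← Finset.sum_mul, one_mul]

theorem Units.piece_mem (U : Units R n) (x : R) (i l : Fin n) :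
    U.b i * x * U.a l ∈ cornerSub (F := F) (U.e 0) :=
  (mem_cornerSub (U.complete.idem 0)).2
    ⟨by rw [← mul_assoc, ← mul_assoc, (U.b_mem i).1], by rw [mul_assoc, (U.a_mem l).2]⟩

/-- `R` is the matrix space over the corner. -/
noncomputable def Units.equiv (U : Units R n) :
    R ≃ₗ[F] (Fin n → Fin n → cornerSub (F := F) (U.e 0)) where
  toFun x i l := ⟨U.b i * x * U.a l, U.piece_mem x i l⟩
  map_add' x y := by
    funext i l; exact Subtype.ext (by simp [mul_add, add_mul])
  map_smul' c x := by
    funext i l; exact Subtype.ext (by simp)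
  invFun m := ∑ i, ∑ l, U.a i * (m i l : R) * U.b l
  left_inv x := U.expand x
  right_inv m := by
    funext i l
    refine Subtype.ext ?_
    show U.b i * (∑ i', ∑ l', U.a i' * (m i' l' : R) * U.b l') * U.a l = _
    simp only [Finset.mul_sum, Finset.sum_mul]
    rw [Finset.sum_eq_single i, Finset.sum_eq_single l]
    · obtain ⟨h1, h2⟩ := (mem_cornerSub (U.complete.idem 0)).1 (m i l).2
      rw [show U.b i * (U.a i * (m i l : R) * U.b l) * U.a l =
        (U.b i * U.a i) * (m i l : R) * (U.b l * U.a l) by simp only [mul_assoc], U.ba, U.ba, h1, h2]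
    · intro l' _ hl
      rw [show U.b i * (U.a i * (m i l' : R) * U.b l') * U.a l =
        U.b i * (U.a i * (m i l' : R)) * (U.b l' * U.a l) by simp only [mul_assoc], U.ba_ne hl,
        mul_zero]
    · simp
    · intro i' _ hi
      refine Finset.sum_eq_zero fun l' _ => ?_
      rw [show U.b i * (U.a i' * (m i' l' : R) * U.b l') * U.a l =
        (U.b i * U.a i') * (m i' l' : R) * (U.b l' * U.a l) by simp only [mul_assoc],
        U.ba_ne hi.symm, zero_mul, zero_mul]
    · simp

theorem Units.finrank_eq [FiniteDimensional F R] (U : Units R n) :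
    Module.finrank F R = n ^ 2 * Module.finrank F (cornerSub (F := F) (U.e 0)) := by
  rw [(U.equiv (F := F)).finrank_eq, Module.finrank_pi_fintype]
  simp [Module.finrank_pi_fintype, pow_two, mul_assoc]

/-- The trace into the corner. -/
noncomputable def Units.tr (U : Units R n) : R →ₗ[F] R :=
  ∑ i, (LinearMap.mulLeft F (U.b i)).comp (LinearMap.mulRight F (U.a i))

theorem Units.tr_apply (U : Units R n) (x : R) : U.tr (F := F) x = ∑ i, U.b i * x * U.a i := by
  simp [Units.tr, mul_assoc]

theorem Units.tr_mem (U : Units R n) (x : R) : U.tr (F := F) x ∈ cornerSub (F := F) (U.e 0) := by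
  rw [U.tr_apply]; exact Submodule.sum_mem _ fun i _ => U.piece_mem x i i

theorem Units.sub_tr_mem (U : Units R n) (x : R) : x - U.tr (F := F) x ∈ commSpan F R := by
  nth_rw 1 [← U.expand x]
  rw [U.tr_apply, ← Finset.sum_sub_distrib]
  refine Submodule.sum_mem _ fun i _ => ?_
  obtain ⟨m, hm⟩ : ∃ m, m = fun l => U.b i * x * U.a l := ⟨_, rfl⟩
  have hmem : ∀ l, U.e 0 * m l = m l := fun l => by
    rw [hm]; simp only [← mul_assoc, (U.b_mem i).1]
  rw [← Finset.add_sum_erase _ _ (Finset.mem_univ i), add_sub_right_comm]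
  refine Submodule.add_mem _ ?_ (Submodule.sum_mem _ fun l hl => ?_)
  · have h := comm_mem (F := F) (U.a i * m i) (U.b i)
    rw [← mul_assoc (U.b i), U.ba, hmem] at h
    rw [hm] at h
    exact h
  · have h := comm_mem (F := F) (U.a i * m l) (U.b l)
    rw [← mul_assoc (U.b l), U.ba_ne (Finset.ne_of_mem_erase hl), zero_mul, sub_zero, hm] at h
    exact h

/-- The span of the commutators of the corner. -/
def cornerComm (e : R) : Submodule F R :=
  Submodule.span F {z | ∃ x ∈ cornerSub (F := F) e, ∃ y ∈ cornerSub (F := F) e, z = x * y - y * x}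

theorem Units.tr_comm_mem (U : Units R n) {x : R} (hx : x ∈ commSpan F R) :
    U.tr (F := F) x ∈ cornerComm (F := F) (U.e 0) := by
  refine Submodule.span_induction ?_ ?_ ?_ ?_ hx
  · rintro _ ⟨⟨x, y⟩, rfl⟩
    have h : ∀ x y : R, U.tr (F := F) (x * y) =
        ∑ i, ∑ l, (U.b i * x * U.a l) * (U.b l * y * U.a i) := by
      intro x y
      rw [U.tr_apply]
      refine Finset.sum_congr rfl fun i _ => ?_
      have e1 : ∀ l, (U.b i * x * U.a l) * (U.b l * y * U.a i) =
          U.b i * x * (U.e l * (y * U.a i)) := by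
        intro l; rw [← U.ab l]; simp only [mul_assoc]
      rw [Finset.sum_congr rfl fun l _ => e1 l, ← Finset.mul_sum, ← Finset.sum_mul,
        U.complete.complete, one_mul]
      simp only [mul_assoc]
    rw [map_sub, h, h, Finset.sum_comm (f := fun i l => (U.b i * y * U.a l) * (U.b l * x * U.a i)),
      ← Finset.sum_sub_distrib]
    refine Submodule.sum_mem _ fun i _ => ?_
    rw [← Finset.sum_sub_distrib]
    exact Submodule.sum_mem _ fun l _ =>
      Submodule.subset_span ⟨_, U.piece_mem x i l, _, U.piece_mem y l i, rfl⟩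
  · simp
  · intro x y _ _ hx hy; rw [map_add]; exact Submodule.add_mem _ hx hy
  · intro c x _ hx; rw [map_smul]; exact Submodule.smul_mem _ c hx

theorem Units.tr_surj (U : Units R n) {a : R} (ha : a ∈ cornerSub (F := F) (U.e 0)) :
    U.tr (F := F) (U.a 0 * a * U.b 0) = a := by
  obtain ⟨h1, h2⟩ := (mem_cornerSub (U.complete.idem 0)).1 ha
  rw [U.tr_apply, Finset.sum_eq_single 0]
  · rw [show U.b 0 * (U.a 0 * a * U.b 0) * U.a 0 = (U.b 0 * U.a 0) * a * (U.b 0 * U.a 0) by
      simp only [mul_assoc], U.ba, h1, h2]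
  · intro i _ hi
    rw [show U.b i * (U.a 0 * a * U.b 0) * U.a i = (U.b i * U.a 0) * (a * U.b 0 * U.a i) by
      simp only [mul_assoc], U.ba_ne hi, zero_mul]
  · simp

/-- The core: a corner `F e + N` with `N` nilpotent and multiplicatively closed. -/
theorem le_span_powers {x : R} {N P : Submodule F R} (hN : ∃ m : ℕ, N ^ m = ⊥) (hxN : x ∈ N)
    (hNN : N * N ≤ N)
    (hx : N ≤ Submodule.span F {x} ⊔ N * N) (hP : P = Submodule.span F (Set.range fun i => x ^ (i + 1))) :
    N ≤ P := by
  have hPP : P * P ≤ P := by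
    rw [hP, Submodule.span_mul_span]
    refine Submodule.span_mono ?_
    rintro _ ⟨_, ⟨i, rfl⟩, _, ⟨l, rfl⟩, rfl⟩
    exact ⟨i + l + 1, by simp only; rw [← pow_add]; congr 1; omega⟩
  have hxP : Submodule.span F {x} ≤ P := by
    rw [hP, Submodule.span_singleton_le_iff_mem]
    exact Submodule.subset_span ⟨0, pow_one x⟩
  have hPN : P ≤ N := by
    rw [hP, Submodule.span_le]
    rintro _ ⟨i, rfl⟩
    induction i with
    | zero => simpa using hxN
    | succ i ih =>
      show x ^ (i + 1 + 1) ∈ N
      rw [pow_succ]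
      exact hNN (Submodule.mul_mem_mul ih hxN)
  have key : ∀ m : ℕ, N ≤ P ⊔ N ^ (m + 1) := by
    intro m
    induction m with
    | zero => rw [zero_add, pow_one]; exact le_sup_right
    | succ m ih =>
      refine hx.trans (sup_le (hxP.trans le_sup_left) ?_)
      refine (mul_le_mul' ih (le_refl N)).trans ?_
      rw [Submodule.sup_mul]
      refine sup_le ?_ (by rw [← pow_succ]; exact le_sup_right)
      refine (mul_le_mul' (le_refl P) ih).trans ?_
      rw [Submodule.mul_sup]
      refine sup_le (hPP.trans le_sup_left) ?_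
      exact ((mul_le_mul' hPN (le_refl _)).trans_eq (pow_succ' N (m + 1)).symm).trans le_sup_right
  obtain ⟨m, hm⟩ := hN
  refine (key m).trans ?_
  rw [pow_succ, hm, Submodule.bot_mul, sup_bot_eq]

/-- Units of a surjection with nilpotent kernel onto a matrix algebra. -/
theorem exists_units {S : Type*} [Ring S] [Algebra F S] {q : S →ₐ[F] Matrix (Fin n) (Fin n) F}
    (hq : Function.Surjective q) (hnil : ∀ x, q x = 0 → IsNilpotent x) :
    ∃ U : Units S n, q (U.e 0) = single 0 0 1 := by
  classical
  have hker : ∀ x ∈ RingHom.ker (q : S →+* Matrix (Fin n) (Fin n) F), IsNilpotent x :=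
    fun x hx => hnil x hx
  have hE : CompleteOrthogonalIdempotents
      (fun i : Fin n => (single i i (1 : F) : Matrix (Fin n) (Fin n) F)) := by
    refine ⟨⟨fun i => ?_, fun i l hil => ?_⟩, ?_⟩
    · simp [IsIdempotentElem]
    · exact single_mul_single_of_ne 1 i i l hil 1
    · ext a b
      by_cases hab : a = b
      · subst hab; simp [Matrix.sum_apply, Matrix.single]
      · rw [Matrix.one_apply_ne hab, Matrix.sum_apply, Finset.sum_eq_zero]
        intro i _
        simp [Matrix.single]
        rintro rfl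
        exact hab
  obtain ⟨e, he, hqe⟩ := CompleteOrthogonalIdempotents.lift_of_isNilpotent_ker
    (q : S →+* Matrix (Fin n) (Fin n) F) hker hE (fun i => hq _)
  have hqe' : ∀ i, q (e i) = single i i (1 : F) := fun i => congrFun hqe i
  have hA : ∀ i l : Fin n, ∃ x, e i * x * e l = x ∧ q x = single i l (1 : F) := by
    intro i l
    obtain ⟨y, hy⟩ := hq (single i l (1 : F))
    refine ⟨e i * y * e l, ?_, ?_⟩
    · rw [← mul_assoc, ← mul_assoc, (he.idem i).eq, mul_assoc, (he.idem l).eq]
    · simp [hy, hqe']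
  choose X hX hqX using hA
  have hXl : ∀ i l, e i * X i l = X i l := fun i l => by
    conv_lhs => rw [← hX i l, ← mul_assoc, ← mul_assoc, (he.idem i).eq]
    exact hX i l
  have hXr : ∀ i l, X i l * e l = X i l := fun i l => by
    conv_lhs => rw [← hX i l, mul_assoc, (he.idem l).eq]
    exact hX i l
  -- the unit extending an element of the corner
  have hv : ∀ i, ∃ v : S, e 0 * v = v * e 0 ∧ v * (X 0 i * X i 0) * e 0 = e 0 := by
    intro i
    set c := X 0 i * X i 0 + (1 - e 0) with hc
    have hqc : q (c - 1) = 0 := by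
      simp [hc, hqX, hqe']
    obtain ⟨w, hw⟩ := (hnil _ hqc).isUnit_one_add
    rw [add_sub_cancel] at hw
    have h0 : e 0 * c = c * e 0 := by
      simp only [hc, mul_add, add_mul, mul_sub, sub_mul, ← mul_assoc, hXl, mul_one, one_mul,
        (he.idem 0).eq]
      rw [mul_assoc (X 0 i), hXr]
    refine ⟨↑w⁻¹, ?_, ?_⟩
    · have := congrArg (fun z => (↑w⁻¹ : S) * z * (↑w⁻¹ : S)) h0
      simp only [← hw, ← mul_assoc, Units.inv_mul, one_mul] at this
      simp only [mul_assoc, Units.mul_inv, mul_one] at this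
      exact this.symm
    · rw [mul_assoc, show X 0 i * X i 0 * e 0 = c * e 0 by
        simp [hc, add_mul, sub_mul, (he.idem 0).eq], ← hw, ← mul_assoc, Units.inv_mul, one_mul]
  choose v hv0 hv1 using hv
  have hcq : ∀ i, q (v i * e 0) = single 0 0 (1 : F) := by
    intro i
    have h1 := congrArg q (hv1 i)
    rw [map_mul, map_mul, map_mul, hqX, hqX, hqe', single_mul_single_same, mul_one, mul_assoc,
      single_mul_single_same, mul_one] at h1
    rw [map_mul, hqe']
    exact h1
  set b : Fin n → S := fun i => v i * e 0 * X 0 i with hb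
  have hba : ∀ i, b i * X i 0 = e 0 := by
    intro i
    calc b i * X i 0 = v i * (e 0 * X 0 i) * X i 0 := by simp only [hb, mul_assoc]
      _ = v i * (X 0 i * (X i 0 * e 0)) := by rw [hXl, hXr, mul_assoc]
      _ = v i * (X 0 i * X i 0) * e 0 := by simp only [mul_assoc]
      _ = e 0 := hv1 i
  have hbl : ∀ i, e 0 * b i = b i := by
    intro i
    simp only [hb, ← mul_assoc, hv0 i]
    rw [mul_assoc (v i), (he.idem 0).eq]
  have hbr : ∀ i, b i * e i = b i := fun i => by simp only [hb, mul_assoc, hXr]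
  have hab : ∀ i, X i 0 * b i = e i := by
    intro i
    set f := X i 0 * b i with hf
    have hff : f * f = f := by
      calc f * f = X i 0 * (b i * X i 0) * b i := by simp only [hf, mul_assoc]
        _ = f := by rw [hba, mul_assoc, hbl]
    have hef : e i * f = f ∧ f * e i = f :=
      ⟨by rw [hf, ← mul_assoc, hXl], by rw [hf, mul_assoc, hbr]⟩
    have hidem : IsIdempotentElem (e i - f) := by
      show (e i - f) * (e i - f) = e i - f
      rw [mul_sub, sub_mul, sub_mul, (he.idem i).eq, hef.1, hef.2, hff]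
      abel
    have hq0 : q (e i - f) = 0 := by
      rw [map_sub, hqe', hf, hb]
      simp only [map_mul, hqX]
      have h := hcq i
      rw [map_mul] at h
      rw [h, single_mul_single_same, single_mul_single_same, mul_one, mul_one, sub_self]
    obtain ⟨m, hm⟩ := hnil _ hq0
    have h2 : e i - f = 0 := by
      rcases m with _ | m
      · rw [pow_zero] at hm
        exact eq_zero_of_zero_eq_one hm.symm _
      · rw [← hm, hidem.pow_succ_eq]
    exact (sub_eq_zero.1 h2).symm
  exact ⟨⟨e, fun i => X i 0, b, he, fun i => ⟨hXl i 0, hXr i 0⟩, fun i => ⟨hbl i, hbr i⟩, hba,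
    hab⟩, hqe' 0⟩

/-- The dimension of a symmetric algebra with two-dimensional commutator quotient. -/
theorem exists_finrank_eq_two_mul_sq [IsAlgClosed F] [FiniteDimensional F R] [Nontrivial R]
    (τ : R →ₗ[F] F) (hτ : ∀ a b, τ (a * b) = τ (b * a))
    (hnd : ∀ a, (∀ b, τ (a * b) = 0) → a = 0)
    (hcent : ∀ f : R, IsIdempotentElem f → (∀ x, f * x = x * f) → f = 0 ∨ f = 1)
    (hk : Module.finrank F (R ⧸ commSpan F R) = 2) :
    ∃ n : ℕ, Module.finrank F R = 2 * n ^ 2 := by
  classical
  haveI : IsArtinianRing R := IsArtinianRing.of_finite F R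
  set J := Ring.jacobson R with hJ
  haveI hss : IsSemisimpleRing (R ⧸ J) := IsSemiprimaryRing.isSemisimpleRing
  obtain ⟨N, hN⟩ := (IsSemiprimaryRing.isNilpotent : IsNilpotent (Ring.jacobson R))
  haveI : FiniteDimensional F (R ⧸ J) :=
    Module.Finite.of_surjective (Ideal.Quotient.mkₐ F J).toLinearMap Ideal.Quotient.mk_surjective
  obtain ⟨r, d, hd, ⟨Φ⟩⟩ := IsSemisimpleRing.exists_algEquiv_pi_matrix_of_isAlgClosed F (R ⧸ J)
  set q : R →ₐ[F] (∀ i, Matrix (Fin (d i)) (Fin (d i)) F) :=
    Φ.toAlgHom.comp (Ideal.Quotient.mkₐ F J) with hqdef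
  have hqs : Function.Surjective q := Φ.surjective.comp Ideal.Quotient.mk_surjective
  have hqk : ∀ x, q x = 0 ↔ x ∈ J := fun x => by
    simp [hqdef, Ideal.Quotient.eq_zero_iff_mem]
  have hnil : ∀ x, q x = 0 → IsNilpotent x := fun x hx =>
    ⟨N, by
      have h := Ideal.pow_mem_pow ((hqk x).1 hx) N
      rw [← hJ] at hN
      rw [hN] at h
      exact (Submodule.mem_bot R).1 h⟩
  -- the traces of the factors
  set T : R →ₗ[F] (Fin r → F) := LinearMap.pi fun i =>
    (traceLinearMap (Fin (d i)) F F).comp ((LinearMap.proj i).comp q.toLinearMap) with hT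
  have hTc : commSpan F R ≤ LinearMap.ker T := by
    rw [commSpan, Submodule.span_le]
    rintro _ ⟨⟨x, y⟩, rfl⟩
    rw [SetLike.mem_coe, LinearMap.mem_ker]
    funext i
    simp only [hT, LinearMap.pi_apply, LinearMap.comp_apply, LinearMap.proj_apply,
      traceLinearMap_apply, AlgHom.toLinearMap_apply, map_sub, map_mul, Pi.sub_apply, Pi.mul_apply,
      trace_sub, Pi.zero_apply]
    rw [trace_mul_comm, sub_self]
  have hTs : Function.Surjective T := by
    intro c
    obtain ⟨x, hx⟩ := hqs fun i => haveI := hd i; single 0 0 (c i)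
    refine ⟨x, funext fun i => ?_⟩
    haveI := hd i
    simp [hT, hx]
  have hsurj' : Function.Surjective ((commSpan F R).liftQ T hTc) := fun c => by
    obtain ⟨x, rfl⟩ := hTs c
    exact ⟨Submodule.Quotient.mk x, rfl⟩
  have hr2 : r ≤ 2 := by
    have := LinearMap.finrank_le_finrank_of_injective
      (f := ((commSpan F R).liftQ T hTc).dualMap) (LinearMap.dualMap_injective_of_surjective hsurj')
    rwa [Subspace.dual_finrank_eq, Subspace.dual_finrank_eq, Module.finrank_fin_fun, hk] at this
  have hr0 : r ≠ 0 := by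
    rintro rfl
    have h1 : q (1 : R) = 0 := funext fun i => i.elim0
    exact not_isNilpotent_one (hnil 1 h1)
  obtain rfl | rfl : r = 1 ∨ r = 2 := by omega
  swap
  · exfalso
    -- two factors: the form kills the radical
    have hinj : Function.Injective ((commSpan F R).liftQ T hTc) :=
      (LinearMap.injective_iff_surjective_of_finrank_eq_finrank
        (by rw [hk, Module.finrank_fin_fun])).2 hsurj'
    have hkerT : ∀ x, T x = 0 → x ∈ commSpan F R := fun x hx =>
      (Submodule.Quotient.mk_eq_zero _).1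
        (hinj (a₁ := Submodule.Quotient.mk x) (by rw [Submodule.liftQ_apply, hx, map_zero]))
    have hτ0 : ∀ x ∈ commSpan F R, τ x = 0 := by
      intro x hx
      refine (Submodule.span_le (p := LinearMap.ker τ)).2 ?_ hx
      rintro _ ⟨⟨a, b⟩, rfl⟩
      rw [SetLike.mem_coe, LinearMap.mem_ker]
      simp only
      rw [map_sub, hτ a b, sub_self]
    have hJ0 : ∀ a, q a = 0 → a = 0 := fun a ha => hnd a fun b => hτ0 _ (hkerT _ (funext fun i => by
      simp [hT, ha]))
    obtain ⟨f, hf⟩ := hqs (Pi.single 0 1)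
    have hqinj : Function.Injective q := (injective_iff_map_eq_zero q).2 hJ0
    rcases hcent f (hqinj (by rw [map_mul, hf, ← Pi.single_mul, mul_one])) (fun x => hqinj (by
      rw [map_mul, map_mul, hf]
      funext i
      rcases eq_or_ne i 0 with rfl | hi <;> simp [*])) with h | h
    · rw [h, map_zero] at hf
      haveI := hd 0
      have h1 := congrFun hf 0
      simp at h1
    · rw [h, map_one] at hf
      haveI := hd 1
      have h1 := congrFun hf 1
      simp at h1
  -- one factor
  haveI := hd 0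
  set q₀ : R →ₐ[F] Matrix (Fin (d 0)) (Fin (d 0)) F := (Pi.evalAlgHom F _ 0).comp q with hq₀
  have hqeq : ∀ x, q₀ x = 0 ↔ q x = 0 := fun x =>
    ⟨fun h => funext fun i => by obtain rfl := Subsingleton.elim i 0; exact h,
      fun h => by simp [hq₀, h]⟩
  obtain ⟨U, hU⟩ := exists_units (q := q₀) (fun m => by
    obtain ⟨x, hx⟩ := hqs (fun i => by obtain rfl := Subsingleton.elim i 0; exact m)
    exact ⟨x, by simp [hq₀, hx]⟩) (fun x hx => hnil x ((hqeq x).1 hx))
  set A := cornerSub (F := F) (U.e 0) with hA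
  have hmemA : ∀ {x : R}, x ∈ A ↔ U.e 0 * x = x ∧ x * U.e 0 = x := fun {x} =>
    mem_cornerSub (U.complete.idem 0)
  -- at least two
  have hge : 2 ≤ Module.finrank F A := by
    rw [← hk]
    have hsurj : Function.Surjective ((commSpan F R).mkQ.comp A.subtype) := by
      intro y
      obtain ⟨x, rfl⟩ := Submodule.mkQ_surjective _ y
      refine ⟨⟨U.tr (F := F) x, U.tr_mem x⟩, ?_⟩
      exact ((Submodule.Quotient.eq _).2 (U.sub_tr_mem x)).symm
    simpa using LinearMap.finrank_le_finrank_of_injective
      (f := ((commSpan F R).mkQ.comp A.subtype).dualMap)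
      (LinearMap.dualMap_injective_of_surjective hsurj)
  -- at most two modulo the commutators of the corner
  set SA := cornerComm (F := F) (U.e 0) with hSA
  have hmap : commSpan F R ≤ LinearMap.ker (SA.mkQ.comp (U.tr (F := F))) := fun x hx => by
    rw [LinearMap.mem_ker, LinearMap.comp_apply, Submodule.mkQ_apply, Submodule.Quotient.mk_eq_zero]
    exact U.tr_comm_mem hx
  have hSle : SA ≤ A := by
    rw [hSA, cornerComm, Submodule.span_le]
    rintro _ ⟨x, hx, y, hy, rfl⟩
    rw [← hA] at hx hy
    obtain ⟨x1, x2⟩ := hmemA.1 hx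
    obtain ⟨y1, y2⟩ := hmemA.1 hy
    exact hmemA.2 ⟨by rw [mul_sub, ← mul_assoc, x1, ← mul_assoc, y1],
      by rw [sub_mul, mul_assoc, y2, mul_assoc, x2]⟩
  have hAS : Module.finrank F (A.map SA.mkQ) ≤ 2 := by
    refine le_trans ?_ hk.le
    refine le_trans (Submodule.finrank_mono ?_)
      (LinearMap.finrank_range_le ((commSpan F R).liftQ _ hmap))
    rintro _ ⟨a, ha, rfl⟩
    exact ⟨Submodule.Quotient.mk (U.a 0 * a * U.b 0), by
      rw [Submodule.liftQ_apply, LinearMap.comp_apply, U.tr_surj ha]⟩
  -- the nilpotent part of the corner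
  set Nn := A ⊓ J.restrictScalars F with hNn
  have hdec : ∀ a ∈ A, ∃ c : F, a - c • U.e 0 ∈ Nn := by
    intro a ha
    refine ⟨q₀ a 0 0, ?_, (hqk _).1 ((hqeq _).1 ?_)⟩
    · exact A.sub_mem ha (A.smul_mem _ (hmemA.2 ⟨(U.complete.idem 0).eq, (U.complete.idem 0).eq⟩))
    · obtain ⟨h1, h2⟩ := hmemA.1 ha
      rw [map_sub, map_smul, hU, sub_eq_zero]
      conv_lhs => rw [← h2, ← h1, map_mul, map_mul, hU]
      rw [single_mul_mul_single, one_mul, mul_one, smul_single, smul_eq_mul, mul_one]
  have hcomm0 : ∀ {x : R}, x ∈ A → U.e 0 * x = x * U.e 0 := fun {x} hx => by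
    rw [(hmemA.1 hx).1, (hmemA.1 hx).2]
  have hNN : Nn * Nn ≤ Nn := Submodule.mul_le.2 fun x hx y hy =>
    ⟨hmemA.2 ⟨by rw [← mul_assoc, (hmemA.1 hx.1).1], by rw [mul_assoc, (hmemA.1 hy.1).2]⟩,
      J.mul_mem_left x hy.2⟩
  have hSN : SA ≤ Nn * Nn := by
    rw [hSA, cornerComm, Submodule.span_le]
    rintro _ ⟨x, hx, y, hy, rfl⟩
    obtain ⟨cx, hcx⟩ := hdec x hx
    obtain ⟨cy, hcy⟩ := hdec y hy
    have h : x * y - y * x =
        (x - cx • U.e 0) * (y - cy • U.e 0) - (y - cy • U.e 0) * (x - cx • U.e 0) := by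
      simp only [sub_mul, mul_sub, smul_mul_assoc, mul_smul_comm, hcomm0 hx, hcomm0 hy]
      module
    rw [h]
    exact Submodule.sub_mem _ (Submodule.mul_mem_mul hcx hcy) (Submodule.mul_mem_mul hcy hcx)
  have hpow : ∀ m : ℕ, ∀ x ∈ Nn ^ (m + 1), x ∈ J ^ (m + 1) := by
    intro m
    induction m with
    | zero => intro x hx; rw [zero_add, pow_one] at hx; rw [zero_add, Submodule.pow_one]; exact hx.2
    | succ m ih =>
      intro x hx
      rw [pow_succ] at hx
      rw [Ideal.IsTwoSided.pow_succ, ← Ideal.IsTwoSided.pow_succ]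
      refine Submodule.mul_induction_on hx (fun a ha b hb => ?_) (fun a b ha hb => add_mem ha hb)
      rw [Submodule.pow_succ]
      exact Ideal.mul_mem_mul (ih a ha) hb.2
  obtain ⟨x, hxN, hspan⟩ : ∃ x ∈ Nn, Nn ≤ Submodule.span F {x} ⊔ Nn * Nn := by
    by_contra hc
    push Not at hc
    -- otherwise the corner has too many directions
    obtain ⟨a₁, ha₁, ha₁'⟩ := SetLike.not_le_iff_exists.1 (hc 0 Nn.zero_mem)
    obtain ⟨a₂, ha₂, ha₂'⟩ := SetLike.not_le_iff_exists.1 (hc a₁ ha₁)
    have hli : LinearIndependent F ![SA.mkQ (U.e 0), SA.mkQ a₁, SA.mkQ a₂] := by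
      rw [Fintype.linearIndependent_iff]
      intro g hg
      simp only [Fin.sum_univ_three, Matrix.cons_val] at hg
      rw [← map_smul, ← map_smul, ← map_smul, ← map_add, ← map_add, Submodule.mkQ_apply,
        Submodule.Quotient.mk_eq_zero] at hg
      have hz : g 0 • U.e 0 + g 1 • a₁ + g 2 • a₂ ∈ Nn * Nn := hSN hg
      have hg0 : g 0 = 0 := by
        have h := (hqeq _).2 ((hqk _).2 (hNN hz).2)
        simp only [map_add, map_smul, hU, (hqeq _).2 ((hqk _).2 ha₁.2),
          (hqeq _).2 ((hqk _).2 ha₂.2), smul_zero, add_zero] at h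
        simpa using congrFun (congrFun h 0) 0
      rw [hg0, zero_smul, zero_add] at hz
      have hg2 : g 2 = 0 := by
        by_contra h2
        apply ha₂'
        have e1 : a₂ = (g 2)⁻¹ • (g 1 • a₁ + g 2 • a₂) - ((g 2)⁻¹ * g 1) • a₁ := by
          rw [smul_add, smul_smul, smul_smul, inv_mul_cancel₀ h2, one_smul, add_sub_cancel_left]
        rw [e1]
        exact Submodule.sub_mem _ (Submodule.mem_sup_right (Submodule.smul_mem _ _ hz))
          (Submodule.mem_sup_left (Submodule.smul_mem _ _ (Submodule.mem_span_singleton_self a₁)))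
      rw [hg2, zero_smul, add_zero] at hz
      have hg1 : g 1 = 0 := by
        by_contra h1
        apply ha₁'
        exact Submodule.mem_sup_right ((Submodule.smul_mem_iff _ h1).1 hz)
      intro i; fin_cases i <;> assumption
    have hsub : Submodule.span F (Set.range ![SA.mkQ (U.e 0), SA.mkQ a₁, SA.mkQ a₂]) ≤
        A.map SA.mkQ := by
      rw [Submodule.span_le]
      rintro _ ⟨i, rfl⟩
      fin_cases i
      · exact ⟨_, hmemA.2 ⟨(U.complete.idem 0).eq, (U.complete.idem 0).eq⟩, rfl⟩
      · exact ⟨a₁, ha₁.1, rfl⟩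
      · exact ⟨a₂, ha₂.1, rfl⟩
    have h3 := (Submodule.finrank_mono hsub).trans hAS
    rw [finrank_span_eq_card hli] at h3
    simp at h3
  have hP := le_span_powers (N := Nn) (x := x)
    ⟨N + 1, (Submodule.eq_bot_iff _).2 fun z hz => by
      have h := Ideal.pow_le_pow_right (Nat.le_succ N) (hpow N z hz)
      rw [← hJ] at hN
      rw [hN] at h
      exact (Submodule.mem_bot R).1 h⟩
    hxN hNN hspan rfl
  have hcomm : ∀ a ∈ Nn, ∀ b ∈ Nn, a * b = b * a := by
    intro a ha b hb
    have key : ∀ a ∈ Submodule.span F (Set.range fun i => x ^ (i + 1)),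
        ∀ b ∈ Submodule.span F (Set.range fun i => x ^ (i + 1)), a * b = b * a := by
      intro a ha
      refine Submodule.span_induction ?_ ?_ ?_ ?_ ha
      · rintro _ ⟨i, rfl⟩ b hb
        refine Submodule.span_induction ?_ ?_ ?_ ?_ hb
        · rintro _ ⟨l, rfl⟩; exact (Commute.pow_pow_self x _ _).eq
        · simp
        · intro y z _ _ hy hz; rw [mul_add, add_mul, hy, hz]
        · intro c y _ hy; rw [mul_smul_comm, smul_mul_assoc, hy]
      · intro b _; simp
      · intro y z _ _ hy hz b hb; rw [mul_add, add_mul, hy b hb, hz b hb]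
      · intro c y _ hy b hb; rw [mul_smul_comm, smul_mul_assoc, hy b hb]
    exact key a (hP ha) b (hP hb)
  have hSA0 : SA = ⊥ := by
    rw [hSA, cornerComm, Submodule.span_eq_bot]
    rintro _ ⟨a, ha, b, hb, rfl⟩
    obtain ⟨ca, hca⟩ := hdec a ha
    obtain ⟨cb, hcb⟩ := hdec b hb
    have h := hcomm _ hca _ hcb
    simp only [sub_mul, mul_sub, smul_mul_assoc, mul_smul_comm, hcomm0 ha, hcomm0 hb] at h
    have h2 := sub_eq_zero.2 h
    rw [← h2]
    module
  have hle : Module.finrank F A ≤ 2 := by
    have hinj : Function.Injective (SA.mkQ.comp A.subtype) := by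
      intro a b h
      apply Subtype.ext
      have h1 := (Submodule.Quotient.eq _).1 h
      rw [hSA0, Submodule.mem_bot, sub_eq_zero] at h1
      exact h1
    rw [← LinearMap.finrank_range_of_inj hinj, LinearMap.range_comp, Submodule.range_subtype]
    exact hAS
  refine ⟨d 0, ?_⟩
  rw [U.finrank_eq (F := F), ← hA, le_antisymm hle hge, mul_comm]

end Cfsg.Agent.BlkChar.LocalTrace
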