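import Cfsg.Agent.CharInd.Basic
import Cfsg.Agent.CharInd.Induced
import Cfsg.Agent.Char.Kernel
import Cfsg.Agent.Char.Linear
import Cfsg.Agent.Char.Integrality
import Cfsg.Prelude.Def_Blocks

/-! Irreducible constituents of degree prime to `p`, and triviality on normal subgroups. -/

namespace Cfsg.Agent.BlkChar

open Cfsg Cfsg.Agent.Char
open scoped ComplexConjugate

variable {G : Type*} [Group G] [Finite G]

theorem isCharacter_one_eq_charDegree {χ : G → ℂ} (h : IsCharacter G χ) :
    χ 1 = (charDegree χ : ℂ) := by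
  obtain ⟨n, hn⟩ := isCharacter_one_nat h
  simp [charDegree, hn]

theorem charDegree_add {χ ψ : G → ℂ} (h : IsCharacter G χ) (h' : IsCharacter G ψ) :
    charDegree (χ + ψ) = charDegree χ + charDegree ψ := by
  have h1 : ((charDegree (χ + ψ) : ℕ) : ℂ) = (charDegree χ : ℂ) + (charDegree ψ : ℂ) := by
    rw [← isCharacter_one_eq_charDegree (isCharacter_add h h'), ← isCharacter_one_eq_charDegree h,
      ← isCharacter_one_eq_charDegree h', Pi.add_apply]
  exact_mod_cast h1

theorem irr_charDegree_dvd_card (χ : IrrCharacter G) :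
    charDegree (χ : G → ℂ) ∣ Nat.card G := by
  obtain ⟨n, -, h1, h2⟩ := irr_degree_dvd_card χ.2
  rw [isCharacter_one_eq_charDegree (isCharacter_of_irr χ.2)] at h1
  rwa [Nat.cast_inj.1 h1]

theorem isCharacter_multiset_sum (s : Multiset (IrrCharacter G)) :
    IsCharacter G (s.map Subtype.val).sum := by
  induction s using Multiset.induction_on with
  | empty => simpa using isCharacter_zero
  | cons a s ih => simpa using isCharacter_add (isCharacter_of_irr a.2) ih

theorem classInner_multiset_sum [Fintype G] [DecidableEq (IrrCharacter G)]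
    (s : Multiset (IrrCharacter G)) (χ : IrrCharacter G) :
    classInner (s.map Subtype.val).sum (χ : G → ℂ) = (s.count χ : ℂ) := by
  induction s using Multiset.induction_on with
  | empty => simp [classInner]
  | cons a s ih =>
    rw [Multiset.map_cons, Multiset.sum_cons, classInner_add_left, ih, classInner_irrCharacter,
      Multiset.count_cons, Nat.cast_add]
    by_cases h : a = χ
    · subst h; simp [add_comm]
    · simp [h, Ne.symm h]

/-- A character of degree prime to `p` has an irreducible constituent of degree prime to `p`. -/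
theorem exists_constituent_not_dvd [Fintype G] {p : ℕ} {ψ : G → ℂ} (hψ : IsCharacter G ψ)
    (hp : ¬ p ∣ charDegree ψ) :
    ∃ χ : IrrCharacter G, ¬ p ∣ charDegree (χ : G → ℂ) ∧ classInner ψ (χ : G → ℂ) ≠ 0 := by
  classical
  obtain ⟨s, rfl⟩ := isCharacter_eq_multiset_sum hψ
  suffices h : ∃ χ ∈ s, ¬ p ∣ charDegree (χ : G → ℂ) by
    obtain ⟨χ, hs, hχ⟩ := h
    refine ⟨χ, hχ, ?_⟩
    rw [classInner_multiset_sum]
    exact Nat.cast_ne_zero.2 (Multiset.count_ne_zero.2 hs)
  by_contra hc
  push Not at hc
  apply hp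
  clear hp hψ
  induction s using Multiset.induction_on with
  | empty => simp [charDegree]
  | cons a s ih =>
    rw [Multiset.map_cons, Multiset.sum_cons,
      charDegree_add (isCharacter_of_irr a.2) (isCharacter_multiset_sum s)]
    exact dvd_add (hc a (Multiset.mem_cons_self a s))
      (ih fun χ h => hc χ (Multiset.mem_cons_of_mem h))

/-- Over a linear character of a subgroup of index prime to `p` lies an irreducible character
of degree prime to `p`. -/
theorem exists_pPrime_over_linear [Fintype G] {p : ℕ} (H : Subgroup G) [Fintype H]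
    (hH : ¬ p ∣ H.index) (f : H →* ℂˣ) :
    ∃ χ : IrrCharacter G, ¬ p ∣ charDegree (χ : G → ℂ) ∧
      classInner (fun h : H => (χ : G → ℂ) h) (fun h : H => (f h : ℂ)) ≠ 0 := by
  have hch : IsCharacter G (indFun H (fun h : H => (f h : ℂ))) :=
    Cfsg.Agent.CharInd.isCharacter_indFun H (isCharacter_of_irr (isIrrCharacter_monoidHom f))
  have hdeg : charDegree (indFun H (fun h : H => (f h : ℂ))) = H.index := by
    have := isCharacter_one_eq_charDegree hch
    rw [Cfsg.Agent.CharInd.indFun_one_apply] at this
    simp only [map_one, Units.val_one, mul_one] at this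
    exact_mod_cast this.symm
  obtain ⟨χ, hχ, hne⟩ := exists_constituent_not_dvd (p := p) hch (hdeg ▸ hH)
  refine ⟨χ, hχ, fun h0 => hne ?_⟩
  rw [← Cfsg.Agent.CharInd.classInner_swap, Cfsg.Agent.CharInd.classInner_indFun_right H _
    (irr_isClassFunction χ.2), h0, map_zero]

/-- A kernel element in `H` is killed by every linear constituent of the restriction to `H`. -/
theorem eq_one_of_mem_kernel {χ : G → ℂ} (hχ : IsCharacter G χ) (H : Subgroup G) [Fintype H]
    (f : H →* ℂˣ) (hne : classInner (fun h : H => χ h) (fun h : H => (f h : ℂ)) ≠ 0)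
    {g : H} (hg : χ g = χ 1) : f g = 1 := by
  by_contra h1
  apply hne
  set S := ∑ h : H, χ h * conj (f h : ℂ) with hS
  have hS' : S = conj (f g : ℂ) * S := by
    conv_lhs => rw [hS, ← Equiv.sum_comp (Equiv.mulLeft g)]
    rw [hS, Finset.mul_sum]
    refine Finset.sum_congr rfl fun h _ => ?_
    rw [Equiv.coe_mulLeft, Subgroup.coe_mul, (isCharacter_mul_of_mem_ker hχ hg h).1, map_mul,
      Units.val_mul, map_mul]
    ring
  have : S = 0 := by
    by_contra h0
    have h2 := congrArg conj ((mul_eq_right₀ h0).1 hS'.symm)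
    rw [Complex.conj_conj, map_one] at h2
    exact h1 (Units.ext (by simpa using h2))
  rw [classInner, ← hS, this, mul_zero]

/-- A linear character of a subgroup containing `g`, nontrivial at `g`, gives an irreducible
character of degree prime to `p` with `g` outside its kernel. -/
theorem exists_pPrime_not_kernel {p : ℕ} (H : Subgroup G) (hH : ¬ p ∣ H.index) (f : H →* ℂˣ)
    {g : H} (hf : f g ≠ 1) :
    ∃ χ : IrrCharacter G, ¬ p ∣ charDegree (χ : G → ℂ) ∧ (χ : G → ℂ) g ≠ (χ : G → ℂ) 1 := by
  classical
  letI := Fintype.ofFinite G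
  obtain ⟨χ, hχ, hne⟩ := exists_pPrime_over_linear H hH f
  exact ⟨χ, hχ, fun h => hf (eq_one_of_mem_kernel (isCharacter_of_irr χ.2) H f hne h)⟩

/-- A subgroup `L` normal in `G` fixing a non-zero operator lies in the kernel of an irreducible
representation. -/
theorem rep_eq_one_of_fixed {V : Type*} [AddCommGroup V] [Module ℂ V] [FiniteDimensional ℂ V]
    (ρ : Representation ℂ G V) [ρ.IsIrreducible] (L : Subgroup G) [L.Normal]
    (E : Module.End ℂ V) (hE : E ≠ 0) (h : ∀ l ∈ L, ρ l * E = E) : ∀ l ∈ L, ρ l = 1 := by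
  classical
  letI := Fintype.ofFinite G
  set f : G → ℂ := fun g => if g ∈ L then 1 else 0 with hf
  have hcf : IsClassFunction G f := fun g x => by
    have hiff : x * g * x⁻¹ ∈ L ↔ g ∈ L :=
      ⟨fun hx => by simpa [mul_assoc] using Subgroup.Normal.conj_mem inferInstance _ hx x⁻¹,
        fun hx => Subgroup.Normal.conj_mem inferInstance _ hx x⟩
    simp only [hf, hiff]
  have hT := sum_smul_eq_smul_id ρ hcf
  set c := (∑ g : G, f g * ρ.character g) / (Module.finrank ℂ V : ℂ)
  set T : Module.End ℂ V := ∑ g : G, f g • ρ g with hTdef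
  have hTE : T * E = (Nat.card L : ℂ) • E := by
    rw [hTdef, Finset.sum_mul]
    have : ∀ g : G, f g • ρ g * E = f g • E := fun g => by
      by_cases hg : g ∈ L
      · rw [smul_mul_assoc, h g hg]
      · simp [hf, hg]
    simp only [this, ← Finset.sum_smul]
    congr 1
    simp [hf, Fintype.card_subtype, Nat.card_eq_fintype_card]
  have hc : c ≠ 0 := by
    intro h0
    rw [show T = c • (1 : Module.End ℂ V) from hT, h0, zero_smul, zero_mul] at hTE
    exact hE ((smul_eq_zero.1 hTE.symm).resolve_left (Nat.cast_ne_zero.2 Nat.card_pos.ne'))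
  intro l hl
  have hlT : ρ l * T = T := by
    rw [hTdef, Finset.mul_sum]
    refine Fintype.sum_equiv (Equiv.mulLeft l) _ _ fun g => ?_
    have hiff : l * g ∈ L ↔ g ∈ L := L.mul_mem_cancel_left hl
    simp [hf, hiff]
  rw [show T = c • (1 : Module.End ℂ V) from hT, mul_smul_comm, mul_one] at hlT
  exact smul_right_injective _ hc hlT

end Cfsg.Agent.BlkChar
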