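import Cfsg.Agent.BlkChar.RankTwo

/-!
# `k(B) ≤ p ^ d` for a major subsection of rank at most two
-/

set_option autoImplicit false
set_option linter.style.haveILetI false
set_option linter.unusedSectionVars false

namespace Cfsg.Agent.BlkChar.RankTwo

open Cfsg
open Cfsg.Agent.Block Cfsg.Agent.BlkChar.Cyclo Cfsg.Agent.BlkChar.Contrib
open scoped ComplexConjugate Classical

universe v

variable {G : Type v} [Group G] [Fintype G] {p : ℕ} [hp : Fact p.Prime] {M : Ideal AlgInt}
  {C : Subgroup G} [Fintype C] {u : G} {k : ℕ} {B : Set (IrrCharacter G)}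
  {b : Set (IrrCharacter C)}

/-- The sum over the units of `|x| ^ 2`. -/
noncomputable def meanSq (a : ZMod (p ^ k) → ℤ) : ℝ :=
  ∑ j ∈ unitSet (p ^ k), Complex.normSq (cev a j)

theorem meanSq_nonneg (a : ZMod (p ^ k) → ℤ) : 0 ≤ meanSq a :=
  Finset.sum_nonneg fun _ _ => Complex.normSq_nonneg _

theorem card_le_meanSq {a : ZMod (p ^ k) → ℤ} (h : cev a 1 ≠ 0) :
    ((unitSet (p ^ k)).card : ℝ) ≤ meanSq a :=
  unitSet_card_le_of_ne_zero a isUnit_one h

theorem card_le_rank_one (hS : IsSection p k u C) (hM : IsPModular p M)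
    (hind : IsInducedBlock M C b B) (hd : blockDefect p b = blockDefect p B)
    {e : Fin 1 → C → ℂ} (he : IsBasisFor p b e) : Nat.card B ≤ p ^ blockDefect p B := by
  haveI : M.IsPrime := isPrime_of_isPModular hM
  set s := Finset.univ.filter (· ∈ B) with hs
  obtain ⟨χ₀, hχ₀, h₀⟩ := BlockVal.exists_height_zero (p := p) (pBlock_nonempty hind.2.1)
  set U : ℝ := ((unitSet (p ^ k)).card : ℝ) with hUdef
  have hU : 0 < U := Nat.cast_pos.2 (unitSet_card_pos _)
  set a := gramMat he 0 0 with ha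
  have hapos : 1 ≤ a := by
    have := gramMat_quad_pos he (n := fun _ => 1) (fun h => by simpa using congrFun h 0)
    simp [← ha] at this
    omega
  have hne : ∀ χ ∈ s, cev (coord' hS he χ 0) 1 ≠ 0 := by
    intro χ hχ h0
    refine cM_ne_zero_major hS hM hind hd (Finset.mem_filter.1 hχ).2 hχ₀ h₀ isUnit_one ?_
    rw [cM_eq_coord hS he]
    simp [h0]
  have htr : ∀ j ∈ unitSet (p ^ k),
      (a : ℝ) * ∑ χ ∈ s, Complex.normSq (cev (coord' hS he χ 0) j) =
        (p : ℝ) ^ blockDefect p B := by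
    intro j hj
    have h := sum_pairing hS hM hind he (mem_unitSet.1 hj) 0 0
    simp only [pairing, Fin.sum_univ_one, map_mul, map_intCast, ← ha, hd] at h
    have h1 : ∀ χ : IrrCharacter G, cev (coord' hS he χ 0) j * (a : ℂ) *
        (conj (cev (coord' hS he χ 0) j) * (a : ℂ)) =
        (a : ℂ) * ((a : ℂ) * (Complex.normSq (cev (coord' hS he χ 0) j) : ℂ)) := by
      intro χ; rw [← Complex.mul_conj]; ring
    rw [Finset.sum_congr rfl fun χ _ => h1 χ, ← Finset.mul_sum, mul_comm _ (a : ℂ)] at h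
    have h2 := mul_left_cancel₀ (Int.cast_ne_zero.2 (by omega)) h
    rw [← Finset.mul_sum, ← Complex.ofReal_sum] at h2
    exact_mod_cast h2
  have h1 : (s.card : ℝ) * U ≤ (p : ℝ) ^ blockDefect p B * U := by
    calc (s.card : ℝ) * U ≤ ∑ χ ∈ s, meanSq (coord' hS he χ 0) := by
          rw [← nsmul_eq_mul, ← Finset.sum_const]
          exact Finset.sum_le_sum fun χ hχ => card_le_meanSq (hne χ hχ)
      _ = ∑ j ∈ unitSet (p ^ k), ∑ χ ∈ s, Complex.normSq (cev (coord' hS he χ 0) j) := by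
          simp only [meanSq]; exact Finset.sum_comm
      _ ≤ ∑ j ∈ unitSet (p ^ k), (p : ℝ) ^ blockDefect p B := by
          refine Finset.sum_le_sum fun j hj => ?_
          rw [← htr j hj]
          refine le_mul_of_one_le_left (Finset.sum_nonneg fun _ _ => Complex.normSq_nonneg _) ?_
          exact_mod_cast hapos
      _ = _ := by rw [Finset.sum_const, nsmul_eq_mul, mul_comm]
  have h2 := le_of_mul_le_mul_right h1 hU
  rw [Nat.card_eq_fintype_card, Fintype.card_subtype, ← hs]
  exact_mod_cast h2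

/-- The column sums of the coordinates in rank two. -/
theorem sum_coord_two (hS : IsSection p k u C) (hM : IsPModular p M)
    (hind : IsInducedBlock M C b B) {e : Fin 2 → C → ℂ} (he : IsBasisFor p b e)
    {j : ZMod (p ^ k)} (hj : IsUnit j) :
    (((gramMat he 0 0 * gramMat he 1 1 - gramMat he 0 1 ^ 2 : ℤ)) : ℝ) *
        ∑ χ ∈ Finset.univ.filter (· ∈ B), Complex.normSq (cev (coord' hS he χ 0) j) =
      (p : ℝ) ^ blockDefect p b * (gramMat he 1 1 : ℝ) ∧
    (((gramMat he 0 0 * gramMat he 1 1 - gramMat he 0 1 ^ 2 : ℤ)) : ℝ) *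
        ∑ χ ∈ Finset.univ.filter (· ∈ B), Complex.normSq (cev (coord' hS he χ 1) j) =
      (p : ℝ) ^ blockDefect p b * (gramMat he 0 0 : ℝ) ∧
    (((gramMat he 0 0 * gramMat he 1 1 - gramMat he 0 1 ^ 2 : ℤ)) : ℝ) *
        ∑ χ ∈ Finset.univ.filter (· ∈ B),
          (cev (coord' hS he χ 0) j * conj (cev (coord' hS he χ 1) j)).re =
      -((p : ℝ) ^ blockDefect p b * (gramMat he 0 1 : ℝ)) := by
  set s := Finset.univ.filter (· ∈ B)
  set A : ℂ := (gramMat he 0 0 : ℂ) with hA
  set Bc : ℂ := (gramMat he 0 1 : ℂ) with hBc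
  set Cc : ℂ := (gramMat he 1 1 : ℂ) with hCc
  set pd : ℂ := ((p ^ blockDefect p b : ℕ) : ℂ) with hpd
  set w : IrrCharacter G → Fin 2 → ℂ := fun χ l => pairing hS he χ l j with hwdef
  set det : ℂ := A * Cc - Bc ^ 2 with hdet
  have hdet0 : det ≠ 0 := by
    have h := gramMat_det_ne_zero he
    rw [Matrix.det_fin_two, gramMat_symm he 1 0] at h
    rw [hdet, hA, hBc, hCc]
    exact_mod_cast (show gramMat he 0 0 * gramMat he 1 1 - gramMat he 0 1 ^ 2 ≠ 0 by rwa [pow_two])
  set x : IrrCharacter G → Fin 2 → ℂ := fun χ i => cev (coord' hS he χ i) j with hx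
  have hw : ∀ χ, w χ 0 = x χ 0 * A + x χ 1 * Bc ∧ w χ 1 = x χ 0 * Bc + x χ 1 * Cc := by
    intro χ
    simp only [hwdef, hx, pairing, Fin.sum_univ_two, hA, hBc, hCc, gramMat_symm he 1 0, and_self]
  have hd0 : ∀ χ, det * x χ 0 = Cc * w χ 0 - Bc * w χ 1 := fun χ => by
    rw [(hw χ).1, (hw χ).2]; ring
  have hd1 : ∀ χ, det * x χ 1 = A * w χ 1 - Bc * w χ 0 := fun χ => by
    rw [(hw χ).1, (hw χ).2]; ring
  have hS0 := fun i l => sum_pairing hS hM hind he hj i l
  have s00 : ∑ χ ∈ s, w χ 0 * conj (w χ 0) = pd * A := hS0 0 0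
  have s01 : ∑ χ ∈ s, w χ 0 * conj (w χ 1) = pd * Bc := hS0 0 1
  have s10 : ∑ χ ∈ s, w χ 1 * conj (w χ 0) = pd * Bc := by
    have := hS0 1 0
    rwa [gramMat_symm he 1 0] at this
  have s11 : ∑ χ ∈ s, w χ 1 * conj (w χ 1) = pd * Cc := hS0 1 1
  have hc : conj det = det ∧ conj A = A ∧ conj Bc = Bc ∧ conj Cc = Cc := by
    simp [hdet, hA, hBc, hCc]
  have hlin : ∀ a₀ a₁ c₀ c₁ : ℂ, conj c₀ = c₀ → conj c₁ = c₁ →
      ∑ χ ∈ s, (a₀ * w χ 0 + a₁ * w χ 1) * conj (c₀ * w χ 0 + c₁ * w χ 1) =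
        a₀ * c₀ * (pd * A) + a₀ * c₁ * (pd * Bc) + a₁ * c₀ * (pd * Bc) + a₁ * c₁ * (pd * Cc) := by
    intro a₀ a₁ c₀ c₁ h0 h1
    rw [← s00, ← s01, ← s11]
    conv_rhs => enter [1, 2]; rw [s01, ← s10]
    simp only [Finset.mul_sum, ← Finset.sum_add_distrib, map_add, map_mul, h0, h1]
    exact Finset.sum_congr rfl fun χ _ => by ring
  have t00 : det * ∑ χ ∈ s, x χ 0 * conj (x χ 0) = pd * Cc := by
    refine mul_left_cancel₀ hdet0 ?_
    have h := hlin Cc (-Bc) Cc (-Bc) hc.2.2.2 (by rw [map_neg, hc.2.2.1])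
    rw [Finset.sum_congr rfl (g := fun χ => det * det * (x χ 0 * conj (x χ 0))) (fun χ _ => by
      rw [show Cc * w χ 0 + -Bc * w χ 1 = det * x χ 0 by rw [hd0]; ring, map_mul, hc.1]; ring),
      ← Finset.mul_sum] at h
    rw [← mul_assoc, h, hdet]
    ring
  have t11 : det * ∑ χ ∈ s, x χ 1 * conj (x χ 1) = pd * A := by
    refine mul_left_cancel₀ hdet0 ?_
    have h := hlin (-Bc) A (-Bc) A (by rw [map_neg, hc.2.2.1]) hc.2.1
    rw [Finset.sum_congr rfl (g := fun χ => det * det * (x χ 1 * conj (x χ 1))) (fun χ _ => by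
      rw [show -Bc * w χ 0 + A * w χ 1 = det * x χ 1 by rw [hd1]; ring, map_mul, hc.1]; ring),
      ← Finset.mul_sum] at h
    rw [← mul_assoc, h, hdet]
    ring
  have t01 : det * ∑ χ ∈ s, x χ 0 * conj (x χ 1) = -(pd * Bc) := by
    refine mul_left_cancel₀ hdet0 ?_
    have h := hlin Cc (-Bc) (-Bc) A (by rw [map_neg, hc.2.2.1]) hc.2.1
    rw [Finset.sum_congr rfl (g := fun χ => det * det * (x χ 0 * conj (x χ 1))) (fun χ _ => by
      rw [show Cc * w χ 0 + -Bc * w χ 1 = det * x χ 0 by rw [hd0]; ring,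
        show -Bc * w χ 0 + A * w χ 1 = det * x χ 1 by rw [hd1]; ring, map_mul, hc.1]; ring),
      ← Finset.mul_sum] at h
    rw [← mul_assoc, h, hdet]
    ring
  refine ⟨?_, ?_, ?_⟩
  · simp only [hx, Complex.mul_conj, hdet, hA, hBc, hCc, hpd] at t00
    rw [← Complex.ofReal_sum] at t00
    exact_mod_cast t00
  · simp only [hx, Complex.mul_conj, hdet, hA, hBc, hCc, hpd] at t11
    rw [← Complex.ofReal_sum] at t11
    exact_mod_cast t11
  · have h := congrArg Complex.re t01
    rw [hdet, hA, hBc, hCc, hpd] at h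
    simp only [hx, Nat.cast_pow] at h
    rw [show ((gramMat he 0 0 : ℂ) * (gramMat he 1 1 : ℂ) - (gramMat he 0 1 : ℂ) ^ 2) =
      (((gramMat he 0 0 * gramMat he 1 1 - gramMat he 0 1 ^ 2 : ℤ) : ℝ) : ℂ) by push_cast; rfl,
      show -((p : ℂ) ^ blockDefect p b * (gramMat he 0 1 : ℂ)) =
        ((-((p : ℝ) ^ blockDefect p b * (gramMat he 0 1 : ℝ)) : ℝ) : ℂ) by push_cast; rfl,
      Complex.re_ofReal_mul, Complex.ofReal_re, Complex.re_sum] at h
    exact h

/-- An orthogonal reduced basis `1, c` with `c` divisible by `p`. -/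
theorem card_le_diag (hS : IsSection p k u C) (hM : IsPModular p M)
    (hind : IsInducedBlock M C b B) (hd : blockDefect p b = blockDefect p B)
    {e : Fin 2 → C → ℂ} (he : IsBasisFor p b e) {i o : Fin 2} (hio : i ≠ o)
    (hi : gramMat he i i = 1) (h0 : gramMat he i o = 0) (hc : (p : ℤ) ∣ gramMat he o o)
    (hti : ∀ j ∈ unitSet (p ^ k), ∑ χ ∈ Finset.univ.filter (· ∈ B),
      Complex.normSq (cev (coord' hS he χ i) j) = (p : ℝ) ^ blockDefect p B)
    (hto : ∀ j ∈ unitSet (p ^ k), (gramMat he o o : ℝ) * ∑ χ ∈ Finset.univ.filter (· ∈ B),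
      Complex.normSq (cev (coord' hS he χ o) j) = (p : ℝ) ^ blockDefect p B) :
    Nat.card B ≤ p ^ blockDefect p B := by
  haveI : M.IsPrime := isPrime_of_isPModular hM
  obtain ⟨c', hc'⟩ := hc
  set s := Finset.univ.filter (· ∈ B) with hs
  set U : ℝ := ((unitSet (p ^ k)).card : ℝ) with hUdef
  have hU : 0 < U := Nat.cast_pos.2 (unitSet_card_pos _)
  have hp0 : (p : ℂ) ≠ 0 := Nat.cast_ne_zero.2 hp.out.ne_zero
  set x : IrrCharacter G → Fin 2 → ℂ := fun χ l => cev (coord' hS he χ l) 1 with hx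
  have hcm : ∀ χ ψ : IrrCharacter G, cM hS b χ ψ 1 =
      x χ i * conj (x ψ i) + (p : ℂ) * ((c' : ℂ) * (x χ o * conj (x ψ o))) := by
    intro χ ψ
    have hsum : ∀ f : Fin 2 → ℂ, ∑ l, f l = f i + f o := fun f =>
      Fintype.sum_eq_add i o hio (fun l hl => absurd hl (by omega))
    rw [cM_eq_coord hS he]
    simp only [hsum, hi, h0, gramMat_symm he o i, hc', hx]
    push_cast
    ring
  have hxm : ∀ χ l, MemLocalRing M (x χ l) ∧ MemLocalRing M (conj (x χ l)) := by
    intro χ l
    have h1 : ∀ j : ZMod (p ^ k), MemLocalRing M (cev (coord' hS he χ l) j) := fun j =>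
      (localRing M).sum_mem fun d _ => (localRing M).mul_mem (intCast_mem (localRing M) _)
        (memLocalRing_of_pow_eq_one (pow_ne_zero k hp.out.ne_zero) (by
          rw [← AddChar.map_nsmul_eq_pow, nsmul_eq_mul, ZMod.natCast_self, zero_mul,
            AddChar.map_zero_eq_one]))
    exact ⟨h1 1, by rw [hx]; simp only [cev_conj]; exact h1 _⟩
  have hpI : ∀ z, MemLocalRing M z → MemLocalIdeal M ((p : ℂ) * z) := fun z hz =>
    memLocalIdeal_mul_right (by
      have := (memLocalIdeal_intCast_iff hM ((p : ℕ) : ℤ)).2 dvd_rfl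
      simpa using this) hz
  have hrestm : ∀ χ ψ, MemLocalRing M ((c' : ℂ) * (x χ o * conj (x ψ o))) := fun χ ψ =>
    (localRing M).mul_mem (intCast_mem (localRing M) _)
      ((localRing M).mul_mem (hxm χ o).1 (hxm ψ o).2)
  obtain ⟨χ₀, hχ₀, h₀⟩ := BlockVal.exists_height_zero (p := p) (pBlock_nonempty hind.2.1)
  have hunit : ∀ χ ∈ B, blockHeight p B ((χ : IrrCharacter G) : G → ℂ) = 0 →
      x χ i ≠ 0 ∧ ¬ MemLocalIdeal M (conj (x χ i)) := by
    intro χ hχ hh
    have h := cM_not_mem hS hM hind hχ hh hχ hh (1 : ZMod (p ^ k))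
    rw [hcm] at h
    refine ⟨fun hz => h ?_, fun hm => h ?_⟩
    · rw [hz, zero_mul, zero_add]; exact hpI _ (hrestm χ χ)
    · exact memLocalIdeal_add (memLocalIdeal_mul_left (hxm χ i).1 hm) (hpI _ (hrestm χ χ))
  set T := s.filter (fun χ => x χ i = 0 ∨ blockHeight p B (χ : G → ℂ) = 0) with hT
  by_cases hn : ∃ χ ∈ B, x χ i = 0
  · obtain ⟨χ₁, hχ₁, hz⟩ := hn
    have hTo : ∀ χ ∈ T, x χ o ≠ 0 := by
      intro χ hχ
      obtain ⟨hχs, hz' | hh⟩ := Finset.mem_filter.1 hχ
      · intro ho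
        refine cM_ne_zero_major hS hM hind hd (Finset.mem_filter.1 hχs).2 hχ₀ h₀
          (isUnit_one : IsUnit (1 : ZMod (p ^ k))) ?_
        rw [hcm, hz', ho]; ring
      · intro ho
        refine cM_ne_zero_major hS hM hind hd hχ₁ (Finset.mem_filter.1 hχs).2 hh
          (isUnit_one : IsUnit (1 : ZMod (p ^ k))) ?_
        rw [hcm, hz, ho, map_zero]; ring
    have hrest : ∀ χ ∈ s \ T, U * (p : ℝ) ^ 2 ≤ meanSq (coord' hS he χ i) := by
      intro χ hχ
      obtain ⟨hχs, hχT⟩ := Finset.mem_sdiff.1 hχ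
      have h1 : x χ i ≠ 0 ∧ blockHeight p B (χ : G → ℂ) ≠ 0 := by
        simpa [hT, hχs] using hχT
      have hdiv := cM_div_mem hS hM hind.1 hd (Finset.mem_filter.1 hχs).2 χ₀
        (isUnit_one : IsUnit (1 : ZMod (p ^ k)))
      obtain ⟨t, ht⟩ := Nat.exists_eq_succ_of_ne_zero h1.2
      have h2 : MemLocalRing M (cM hS b χ χ₀ 1 / (p : ℂ)) := by
        rw [ht] at hdiv
        have := (localRing M).mul_mem ((localRing M).pow_mem (natCast_mem (localRing M) p) t) hdiv
        have e1 : cM hS b χ χ₀ 1 / (p : ℂ) =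
            (p : ℂ) ^ t * (cM hS b χ χ₀ 1 / (p : ℂ) ^ t.succ) := by
          rw [Nat.succ_eq_add_one, pow_succ]
          field_simp
        rw [e1]
        exact this
      have h3 : MemLocalRing M (x χ i / (p : ℂ)) := by
        have hu := hunit χ₀ hχ₀ h₀
        have hne : conj (x χ₀ i) ≠ 0 := fun hc0 => hu.2 (by rw [hc0]; exact memLocalIdeal_zero)
        have hinv := memLocalRing_inv (hxm χ₀ i).2 hu.2
        have h4 := (localRing M).mul_mem hinv ((localRing M).sub_mem h2 (hrestm χ χ₀))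
        have e1 : x χ i / (p : ℂ) = (conj (x χ₀ i))⁻¹ *
            (cM hS b χ χ₀ 1 / (p : ℂ) - (c' : ℂ) * (x χ o * conj (x χ₀ o))) := by
          rw [hcm]
          field_simp
          ring
        rw [e1]
        exact h4
      have := unitSet_mul_le_of_div_mem (p := p) hM (coord' hS he χ i) isUnit_one h1.1 (n := 1)
        (by rw [pow_one]; exact h3)
      simpa [meanSq] using this
    have hTsum : (T.card : ℝ) * U * (p : ℝ) ≤ (p : ℝ) ^ blockDefect p B * U := by
      have h1 : (T.card : ℝ) * U ≤ ∑ χ ∈ s, meanSq (coord' hS he χ o) := by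
        rw [← nsmul_eq_mul, ← Finset.sum_const]
        refine le_trans (Finset.sum_le_sum fun χ hχ => card_le_meanSq (hTo χ hχ))
          (Finset.sum_le_sum_of_subset_of_nonneg (Finset.filter_subset _ _)
            fun χ _ _ => meanSq_nonneg _)
      have hcp : (p : ℝ) ≤ (gramMat he o o : ℝ) := by
        have hpos : 0 < gramMat he o o := by
          have h := gramMat_quad_pos he (n := Pi.single o 1) (by simp)
          rw [Finset.sum_eq_single o, Finset.sum_eq_single o] at h
          · simpa using h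
          all_goals simp +contextual
        have := Int.le_of_dvd hpos ⟨c', hc'⟩
        exact_mod_cast this
      calc (T.card : ℝ) * U * (p : ℝ) ≤ (∑ χ ∈ s, meanSq (coord' hS he χ o)) * (p : ℝ) :=
            mul_le_mul_of_nonneg_right h1 (Nat.cast_nonneg _)
        _ ≤ (∑ χ ∈ s, meanSq (coord' hS he χ o)) * (gramMat he o o : ℝ) :=
            mul_le_mul_of_nonneg_left hcp (Finset.sum_nonneg fun _ _ => meanSq_nonneg _)
        _ = ∑ j ∈ unitSet (p ^ k), (p : ℝ) ^ blockDefect p B := by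
            simp only [meanSq]
            rw [Finset.sum_comm, Finset.sum_mul]
            exact Finset.sum_congr rfl fun j hj => by rw [mul_comm]; exact hto j hj
        _ = _ := by rw [Finset.sum_const, nsmul_eq_mul, mul_comm]
    have hRsum : ((s \ T).card : ℝ) * (U * (p : ℝ) ^ 2) ≤ (p : ℝ) ^ blockDefect p B * U := by
      rw [← nsmul_eq_mul, ← Finset.sum_const]
      refine (Finset.sum_le_sum hrest).trans ((Finset.sum_le_sum_of_subset_of_nonneg
        Finset.sdiff_subset fun χ _ _ => meanSq_nonneg _).trans ?_)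
      simp only [meanSq]
      rw [Finset.sum_comm, Finset.sum_congr rfl hti, Finset.sum_const, nsmul_eq_mul, mul_comm]
    have h1 : T.card * p ≤ p ^ blockDefect p B := by
      have h2 : ((T.card : ℝ) * (p : ℝ)) * U ≤ (p : ℝ) ^ blockDefect p B * U := by linarith
      exact_mod_cast le_of_mul_le_mul_right h2 hU
    have h2 : (s \ T).card * p ^ 2 ≤ p ^ blockDefect p B := by
      have h3 : (((s \ T).card : ℝ) * (p : ℝ) ^ 2) * U ≤ (p : ℝ) ^ blockDefect p B * U := by
        linarith
      exact_mod_cast le_of_mul_le_mul_right h3 hU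
    have h3 : s.card = T.card + (s \ T).card := by
      have := Finset.card_sdiff_add_card_eq_card (Finset.filter_subset
        (fun χ => x χ i = 0 ∨ blockHeight p B (χ : G → ℂ) = 0) s)
      rw [hT]
      omega
    rw [Nat.card_eq_fintype_card, Fintype.card_subtype, ← hs, h3]
    have h4 := hp.out.two_le
    have h5 : T.card * 2 ≤ p ^ blockDefect p B := le_trans (Nat.mul_le_mul_left _ h4) h1
    have h6 : (s \ T).card * 4 ≤ p ^ blockDefect p B :=
      le_trans (Nat.mul_le_mul_left _ (Nat.pow_le_pow_left h4 2)) h2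
    omega
  · push Not at hn
    have h1 : (s.card : ℝ) * U ≤ (p : ℝ) ^ blockDefect p B * U := by
      rw [← nsmul_eq_mul, ← Finset.sum_const]
      refine (Finset.sum_le_sum fun χ hχ =>
        card_le_meanSq (a := coord' hS he χ i) (hn χ (Finset.mem_filter.1 hχ).2)).trans ?_
      simp only [meanSq]
      rw [Finset.sum_comm, Finset.sum_congr rfl hti, Finset.sum_const, nsmul_eq_mul, mul_comm]
    rw [Nat.card_eq_fintype_card, Fintype.card_subtype, ← hs]
    exact_mod_cast le_of_mul_le_mul_right h1 hU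

/-- The bound. -/
theorem card_le_pow_defect (hS : IsSection p k u C) (hM : IsPModular p M)
    (hind : IsInducedBlock M C b B) (hd : blockDefect p b = blockDefect p B)
    (hl : blockRank p b ≤ 2) : Nat.card B ≤ p ^ blockDefect p B := by
  haveI : M.IsPrime := isPrime_of_isPModular hM
  obtain ⟨χ₀, hχ₀, h₀⟩ := BlockVal.exists_height_zero (p := p) (pBlock_nonempty hind.2.1)
  obtain ⟨r, e, he⟩ := exists_basis p b
  have hr := rank_eq he
  rw [hr] at hl
  rcases (show r = 0 ∨ r = 1 ∨ r = 2 by omega) with rfl | rfl | rfl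
  · exfalso
    refine cM_ne_zero_major hS hM hind hd hχ₀ hχ₀ h₀ (isUnit_one : IsUnit (1 : ZMod (p ^ k))) ?_
    rw [cM_eq_coord hS he]
    simp
  · exact card_le_rank_one hS hM hind hd he
  obtain ⟨f, hf, hb0, hb1⟩ := exists_reduced he
  set a := gramMat hf 0 0 with ha
  set c := gramMat hf 1 1 with hc
  set b' := gramMat hf 0 1 with hb
  set pd : ℝ := (p : ℝ) ^ blockDefect p B with hpd
  have hpd0 : 0 ≤ pd := by positivity
  set s := Finset.univ.filter (· ∈ B) with hs
  set U : ℝ := ((unitSet (p ^ k)).card : ℝ) with hUdef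
  have hU : 0 < U := Nat.cast_pos.2 (unitSet_card_pos _)
  have hcs := fun j (hj : j ∈ unitSet (p ^ k)) =>
    sum_coord_two hS hM hind hf (mem_unitSet.1 hj)
  simp only [← ha, ← hb, ← hc, hd, ← hs, ← hpd] at hcs
  have hdpos : 0 < a * c - b' ^ 2 ∧ 0 < a ∧ 0 < c := by
    have hpos : ∀ i : Fin 2, 0 < gramMat hf i i := by
      intro i
      have h := gramMat_quad_pos hf (n := Pi.single i 1) (by simp)
      rw [Finset.sum_eq_single i, Finset.sum_eq_single i] at h
      · simpa using h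
      all_goals simp +contextual
    refine ⟨?_, hpos 0, hpos 1⟩
    rcases abs_cases b' with h | h <;> nlinarith [hpos 0, hpos 1]
  have hcount : ∀ (F : IrrCharacter G → ℝ) (N : ℝ), (∀ χ ∈ s, U ≤ F χ) →
      ∑ χ ∈ s, F χ ≤ N * U → (s.card : ℝ) ≤ N := by
    intro F N hF hN
    refine le_of_mul_le_mul_right ?_ hU
    rw [← nsmul_eq_mul, ← Finset.sum_const]
    exact (Finset.sum_le_sum hF).trans hN
  have hne : ∀ χ ∈ s, cev (coord' hS hf χ 0) 1 ≠ 0 ∨ cev (coord' hS hf χ 1) 1 ≠ 0 := by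
    intro χ hχ
    by_contra hc'
    push Not at hc'
    refine cM_ne_zero_major hS hM hind hd (Finset.mem_filter.1 hχ).2 hχ₀ h₀
      (isUnit_one : IsUnit (1 : ZMod (p ^ k))) ?_
    rw [cM_eq_coord hS hf]
    simp [Fin.sum_univ_two, hc'.1, hc'.2]
  have hgoal : (s.card : ℝ) ≤ pd → Nat.card B ≤ p ^ blockDefect p B := by
    intro h
    rw [Nat.card_eq_fintype_card, Fintype.card_subtype, ← hs]
    rw [hpd] at h
    exact_mod_cast h
  rcases eq_or_ne b' 0 with h0 | h0
  · have hdet : p ∣ (a * c).natAbs := by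
      have h := dvd_minor hM hind.1 hf 0 0 1 1
      rw [gramMat_symm hf 1 0, ← hb, h0, mul_zero, sub_zero] at h
      exact Int.natCast_dvd.1 h
    by_cases h2 : 2 ≤ a ∧ 2 ≤ c
    · refine hgoal (hcount (fun χ => meanSq (coord' hS hf χ 0) + meanSq (coord' hS hf χ 1)) pd
        (fun χ hχ => ?_) ?_)
      · have n0 := meanSq_nonneg (coord' hS hf χ 0)
        have n1 := meanSq_nonneg (coord' hS hf χ 1)
        rcases hne χ hχ with h | h <;> linarith [card_le_meanSq h]
      · rw [Finset.sum_add_distrib]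
        simp only [meanSq]
        rw [Finset.sum_comm (s := s), Finset.sum_comm (s := s), ← Finset.sum_add_distrib,
          mul_comm pd, ← nsmul_eq_mul, ← Finset.sum_const]
        refine Finset.sum_le_sum fun j hj => ?_
        obtain ⟨e0, e1, -⟩ := hcs j hj
        rw [h0] at e0 e1
        push_cast at e0 e1
        have ha2 : (2 : ℝ) ≤ (a : ℝ) := by exact_mod_cast h2.1
        have hc2 : (2 : ℝ) ≤ (c : ℝ) := by exact_mod_cast h2.2
        set S0 : ℝ := ∑ χ ∈ s, Complex.normSq (cev (coord' hS hf χ 0) j)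
        set S1 : ℝ := ∑ χ ∈ s, Complex.normSq (cev (coord' hS hf χ 1) j)
        have hS0 : 0 ≤ S0 := Finset.sum_nonneg fun _ _ => Complex.normSq_nonneg _
        have hS1 : 0 ≤ S1 := Finset.sum_nonneg fun _ _ => Complex.normSq_nonneg _
        have f0 : (a : ℝ) * S0 = pd := by
          refine mul_right_cancel₀ (show (c : ℝ) ≠ 0 by linarith) ?_
          linear_combination e0
        have f1 : (c : ℝ) * S1 = pd := by
          refine mul_right_cancel₀ (show (a : ℝ) ≠ 0 by linarith) ?_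
          linear_combination e1
        nlinarith
    · have hprime := hp.out.two_le
      have hdvd : (p : ℤ) ∣ a * c := Int.natCast_dvd.2 hdet
      rcases (show a = 1 ∨ c = 1 by omega) with h1 | h1
      · refine card_le_diag hS hM hind hd hf (i := 0) (o := 1) (by decide) h1 h0 ?_
          (fun j hj => ?_) (fun j hj => ?_)
        · rwa [h1, one_mul] at hdvd
        · obtain ⟨e0, -, -⟩ := hcs j hj
          rw [h0, h1] at e0
          push_cast at e0
          refine mul_right_cancel₀ (show (c : ℝ) ≠ 0 by exact_mod_cast hdpos.2.2.ne') ?_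
          linear_combination e0
        · obtain ⟨-, e1, -⟩ := hcs j hj
          rw [h0, h1] at e1
          push_cast at e1
          simp only [← hc, ← hs, ← hpd]
          linear_combination e1
      · refine card_le_diag hS hM hind hd hf (i := 1) (o := 0) (by decide) h1 ?_ ?_
          (fun j hj => ?_) (fun j hj => ?_)
        · rw [gramMat_symm]; exact h0
        · rwa [h1, mul_one] at hdvd
        · obtain ⟨-, e1, -⟩ := hcs j hj
          rw [h0, h1] at e1
          push_cast at e1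
          refine mul_right_cancel₀ (show (a : ℝ) ≠ 0 by exact_mod_cast hdpos.2.1.ne') ?_
          linear_combination e1
        · obtain ⟨e0, -, -⟩ := hcs j hj
          rw [h0, h1] at e0
          push_cast at e0
          simp only [← ha, ← hs, ← hpd]
          linear_combination e0
  · -- the form `x² + σ x y + y²`
    obtain ⟨σ, hσ, hσb⟩ : ∃ σ : ℝ, (σ = 1 ∨ σ = -1) ∧ σ * (b' : ℝ) = |(b' : ℝ)| := by
      rcases abs_cases (b' : ℝ) with h | h
      · exact ⟨1, Or.inl rfl, by rw [one_mul, h.1]⟩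
      · exact ⟨-1, Or.inr rfl, by rw [h.1]; ring⟩
    set y : IrrCharacter G → ZMod (p ^ k) → ℤ := fun χ i =>
      coord' hS hf χ 0 i + (if σ = 1 then 1 else -1) * coord' hS hf χ 1 i with hy
    have hyv : ∀ χ j, cev (y χ) j =
        cev (coord' hS hf χ 0) j + (σ : ℂ) * cev (coord' hS hf χ 1) j := by
      intro χ j
      simp only [cev, hy, Finset.mul_sum, ← Finset.sum_add_distrib]
      refine Finset.sum_congr rfl fun i _ => ?_
      rcases hσ with h | h
      · rw [h, if_pos rfl]; push_cast; ring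
      · rw [h, if_neg (by norm_num)]; push_cast; ring
    refine hgoal (hcount (fun χ => (meanSq (coord' hS hf χ 0) + meanSq (coord' hS hf χ 1) +
      meanSq (y χ)) / 2) pd (fun χ hχ => ?_) ?_)
    · have n0 := meanSq_nonneg (coord' hS hf χ 0)
      have n1 := meanSq_nonneg (coord' hS hf χ 1)
      have n2 := meanSq_nonneg (y χ)
      have hσ0 : (σ : ℂ) ≠ 0 := by rcases hσ with h | h <;> simp [h]
      by_cases hx0 : cev (coord' hS hf χ 0) 1 = 0
      · have hx1 := (hne χ hχ).resolve_left (fun h => h hx0)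
        have hy1 : cev (y χ) 1 ≠ 0 := by
          rw [hyv, hx0, zero_add]; exact mul_ne_zero hσ0 hx1
        linarith [card_le_meanSq hx1, card_le_meanSq hy1]
      · by_cases hx1 : cev (coord' hS hf χ 1) 1 = 0
        · have hy1 : cev (y χ) 1 ≠ 0 := by rwa [hyv, hx1, mul_zero, add_zero]
          linarith [card_le_meanSq hx0, card_le_meanSq hy1]
        · linarith [card_le_meanSq hx0, card_le_meanSq hx1]
    · rw [← Finset.sum_div, Finset.sum_add_distrib, Finset.sum_add_distrib]
      simp only [meanSq]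
      rw [Finset.sum_comm (s := s), Finset.sum_comm (s := s), Finset.sum_comm (s := s),
        ← Finset.sum_add_distrib, ← Finset.sum_add_distrib, Finset.sum_div, mul_comm pd,
        ← nsmul_eq_mul, ← Finset.sum_const]
      refine Finset.sum_le_sum fun j hj => ?_
      obtain ⟨e0, e1, e2⟩ := hcs j hj
      have hexp : ∀ χ, Complex.normSq (cev (y χ) j) = Complex.normSq (cev (coord' hS hf χ 0) j) +
          Complex.normSq (cev (coord' hS hf χ 1) j) +
          2 * σ * (cev (coord' hS hf χ 0) j * conj (cev (coord' hS hf χ 1) j)).re := by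
        intro χ
        rw [hyv, Complex.normSq_add, Complex.normSq_mul, Complex.normSq_ofReal, map_mul,
          Complex.conj_ofReal, mul_left_comm, Complex.re_ofReal_mul]
        have : σ * σ = 1 := by rcases hσ with h | h <;> simp [h]
        rw [this]
        ring
      simp only [hexp, Finset.sum_add_distrib, ← Finset.mul_sum]
      set S0 : ℝ := ∑ χ ∈ s, Complex.normSq (cev (coord' hS hf χ 0) j)
      set S1 : ℝ := ∑ χ ∈ s, Complex.normSq (cev (coord' hS hf χ 1) j)
      set R : ℝ := ∑ χ ∈ s, (cev (coord' hS hf χ 0) j * conj (cev (coord' hS hf χ 1) j)).re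
      have hkey : a + c - |b'| ≤ a * c - b' ^ 2 := by
        have hb1' : 1 ≤ |b'| := Int.one_le_abs h0
        have h3 : (2 * |b'| - 1) * (2 * |b'| - 1) ≤ (a - 1) * (c - 1) :=
          mul_le_mul (by linarith) (by linarith) (by linarith) (by linarith)
        nlinarith [sq_abs b']
      have hkeyR : (a : ℝ) + c - |(b' : ℝ)| ≤ ((a * c - b' ^ 2 : ℤ) : ℝ) := by
        exact_mod_cast hkey
      have hDpos : (0 : ℝ) < ((a * c - b' ^ 2 : ℤ) : ℝ) := by exact_mod_cast hdpos.1
      refine le_of_mul_le_mul_left ?_ hDpos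
      calc ((a * c - b' ^ 2 : ℤ) : ℝ) * ((S0 + S1 + (S0 + S1 + 2 * σ * R)) / 2)
          = ((a * c - b' ^ 2 : ℤ) : ℝ) * S0 + ((a * c - b' ^ 2 : ℤ) : ℝ) * S1 +
              σ * (((a * c - b' ^ 2 : ℤ) : ℝ) * R) := by ring
        _ = pd * ((a : ℝ) + c - |(b' : ℝ)|) := by rw [e0, e1, e2, ← hσb]; ring
        _ ≤ pd * ((a * c - b' ^ 2 : ℤ) : ℝ) := mul_le_mul_of_nonneg_left hkeyR hpd0
        _ = _ := mul_comm _ _

end Cfsg.Agent.BlkChar.RankTwo
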