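import Cfsg.Agent.BlkChar.Major
import Mathlib.LinearAlgebra.FreeModule.PID
import Mathlib.LinearAlgebra.Matrix.ToLinearEquiv

/-!
# Blocks with a major subsection of rank at most two

An integral basis of the regular parts of `b` has an integral Gram matrix; the coordinates of the
parts are integral combinations of roots of unity with known column products.
-/

set_option autoImplicit false
set_option linter.style.haveILetI false
set_option linter.unusedSectionVars false

namespace Cfsg.Agent.BlkChar.RankTwo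

open Cfsg
open Cfsg.Agent.Block Cfsg.Agent.BlkChar.Cyclo Cfsg.Agent.BlkChar.Contrib
open Cfsg.Agent.BlockVal (cReg)
open Cfsg.Agent.Brauer (regSum)
open scoped ComplexConjugate Classical

universe v

variable {G : Type v} [Group G] [Fintype G] {p : ℕ} [hp : Fact p.Prime] {M : Ideal AlgInt}
  {C : Subgroup G} [Fintype C] {u : G} {k : ℕ}

/-- The integral combinations of the regular parts of `b`. -/
noncomputable def lattice (p : ℕ) (b : Set (IrrCharacter C)) : Submodule ℤ (C → ℂ) :=
  Submodule.span ℤ ((fun η : IrrCharacter C => pRegularPart p (η : C → ℂ)) '' b)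

/-- The scaled Gram form. -/
noncomputable def gram (p : ℕ) (b : Set (IrrCharacter C)) (f g : C → ℂ) : ℂ :=
  ((p ^ blockDefect p b : ℕ) : ℂ) / (Nat.card C : ℂ) * regSum p f g

theorem gram_sum_left {ι : Type*} [Fintype ι] (b : Set (IrrCharacter C)) (c : ι → ℂ)
    (f : ι → C → ℂ) (g : C → ℂ) :
    gram p b (∑ i, c i • f i) g = ∑ i, c i * gram p b (f i) g := by
  simp only [gram, regSum_sum_left, regSum_smul_left, Finset.mul_sum]
  exact Finset.sum_congr rfl fun i _ => by ring

theorem gram_sum_right {ι : Type*} [Fintype ι] (b : Set (IrrCharacter C)) (c : ι → ℂ)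
    (f : C → ℂ) (g : ι → C → ℂ) :
    gram p b f (∑ i, c i • g i) = ∑ i, conj (c i) * gram p b f (g i) := by
  simp only [gram, regSum_sum_right, regSum_smul_right, Finset.mul_sum]
  exact Finset.sum_congr rfl fun i _ => by ring

theorem gram_conj (b : Set (IrrCharacter C)) (f g : C → ℂ) :
    conj (gram p b f g) = gram p b g f := by
  rw [gram, gram, map_mul, map_div₀, map_natCast, map_natCast, Brauer.regSum_conj]

theorem lattice_le_span (b : Set (IrrCharacter C)) {f : C → ℂ} (hf : f ∈ lattice p b) :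
    f ∈ Submodule.span ℂ
      ((fun η : IrrCharacter C => pRegularPart p (η : C → ℂ)) '' b) := by
  refine Submodule.span_induction ?_ ?_ ?_ ?_ hf
  · exact fun x hx => Submodule.subset_span hx
  · exact Submodule.zero_mem _
  · exact fun _ _ _ _ hx hy => Submodule.add_mem _ hx hy
  · intro r x _ hx
    rw [← Int.cast_smul_eq_zsmul ℂ]
    exact Submodule.smul_mem _ _ hx

theorem regSum_add_right {H : Type*} [Group H] [Fintype H] (f g g' : H → ℂ) :
    regSum p f (g + g') = regSum p f g + regSum p f g' := by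
  simp only [regSum, Pi.add_apply, map_add, mul_add, Finset.sum_add_distrib]

theorem exists_gram_int (b : Set (IrrCharacter C)) {f g : C → ℂ} (hf : f ∈ lattice p b)
    (hg : g ∈ lattice p b) : ∃ z : ℤ, gram p b f g = z := by
  refine Submodule.span_induction ?_ ?_ ?_ ?_ hf
  · rintro _ ⟨ξ, hξ, rfl⟩
    refine Submodule.span_induction ?_ ?_ ?_ ?_ hg
    · rintro _ ⟨η, -, rfl⟩
      obtain ⟨q, hq⟩ := exists_qInt (p := p) b hξ η
      exact ⟨q, by rw [gram, regSum_pRegularPart_left, regSum_pRegularPart_right, hq]⟩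
    · exact ⟨0, by simp [gram, regSum]⟩
    · rintro x y - - ⟨z, hz⟩ ⟨w, hw⟩
      exact ⟨z + w, by rw [gram, regSum_add_right, mul_add, ← gram, ← gram, hz, hw]; push_cast; ring⟩
    · rintro r x - ⟨z, hz⟩
      refine ⟨r * z, ?_⟩
      rw [← Int.cast_smul_eq_zsmul ℂ, gram, regSum_smul_right, map_intCast, mul_left_comm, ← gram,
        hz]
      push_cast; rfl
  · exact ⟨0, by simp [gram, regSum]⟩
  · rintro x y - - ⟨z, hz⟩ ⟨w, hw⟩
    exact ⟨z + w, by rw [gram, regSum_add_left, mul_add, ← gram, ← gram, hz, hw]; push_cast; ring⟩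
  · rintro r x - ⟨z, hz⟩
    refine ⟨r * z, ?_⟩
    rw [← Int.cast_smul_eq_zsmul ℂ, gram, regSum_smul_left, mul_left_comm, ← gram, hz]
    push_cast; rfl

theorem eq_zero_of_gram_self {b : Set (IrrCharacter C)} {f : C → ℂ}
    (hf : f ∈ Submodule.span ℂ
      ((fun η : IrrCharacter C => pRegularPart p (η : C → ℂ)) '' b))
    (h : gram p b f f = 0) : f = 0 := by
  refine regSum_self_eq_zero_of_mem hf ((mul_eq_zero.1 h).resolve_left ?_)
  exact div_ne_zero (Nat.cast_ne_zero.2 (pow_ne_zero _ hp.out.ne_zero))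
    (Nat.cast_ne_zero.2 Nat.card_pos.ne')

/-- An integral spanning family inside the lattice, linearly independent over `ℤ`. -/
structure IsBasisFor (p : ℕ) (b : Set (IrrCharacter C)) {r : ℕ} (e : Fin r → C → ℂ) : Prop where
  mem : ∀ i, e i ∈ lattice p b
  indep : ∀ n : Fin r → ℤ, (∑ i, (n i : ℂ) • e i) = 0 → n = 0
  expand : ∀ ξ ∈ b, ∃ n : Fin r → ℤ,
    pRegularPart p ((ξ : IrrCharacter C) : C → ℂ) = ∑ i, (n i : ℂ) • e i

theorem exists_basis (p : ℕ) (b : Set (IrrCharacter C)) :
    ∃ (r : ℕ) (e : Fin r → C → ℂ), IsBasisFor p b e := by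
  haveI : Module.Finite ℤ (lattice p b) :=
    Module.Finite.iff_fg.2 (Submodule.fg_span (Set.toFinite _))
  haveI : Module.Free ℤ (lattice p b) := Module.free_of_finite_type_torsion_free'
  set β := (Module.Free.chooseBasis ℤ (lattice p b)).reindex (Fintype.equivFin _) with hβ
  refine ⟨_, fun i => (β i : C → ℂ), fun i => (β i).2, fun n hn => ?_, fun ξ hξ => ?_⟩
  · refine Fintype.linearIndependent_iff.1 β.linearIndependent n ?_ |> funext
    apply Subtype.ext
    simp only [Submodule.coe_sum, Submodule.coe_smul, Submodule.coe_zero, ← hn,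
      Int.cast_smul_eq_zsmul]
  · refine ⟨fun i => β.repr ⟨_, Submodule.subset_span ⟨ξ, hξ, rfl⟩⟩ i, ?_⟩
    have h := congrArg Subtype.val (β.sum_repr ⟨_, Submodule.subset_span ⟨ξ, hξ, rfl⟩⟩)
    simp only [Submodule.coe_sum, Submodule.coe_smul] at h
    exact h.symm.trans (Finset.sum_congr rfl fun i _ => (Int.cast_smul_eq_zsmul ℂ _ _).symm)

variable {r : ℕ} {e : Fin r → C → ℂ} {b : Set (IrrCharacter C)}

/-- The Gram matrix. -/
noncomputable def gramMat (he : IsBasisFor p b e) : Matrix (Fin r) (Fin r) ℤ :=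
  fun i l => (exists_gram_int b (he.mem i) (he.mem l)).choose

theorem gramMat_spec (he : IsBasisFor p b e) (i l : Fin r) :
    gram p b (e i) (e l) = (gramMat he i l : ℂ) :=
  (exists_gram_int b (he.mem i) (he.mem l)).choose_spec

theorem gramMat_symm (he : IsBasisFor p b e) (i l : Fin r) : gramMat he i l = gramMat he l i := by
  apply Int.cast_injective (α := ℂ)
  rw [← gramMat_spec he l i, ← gram_conj b (e i) (e l), gramMat_spec he, map_intCast]

theorem gramMat_quad_pos (he : IsBasisFor p b e) {n : Fin r → ℤ} (hn : n ≠ 0) :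
    0 < ∑ i, ∑ l, n i * n l * gramMat he i l := by
  set f : C → ℂ := ∑ i, (n i : ℂ) • e i with hf
  have hmem : f ∈ Submodule.span ℂ
      ((fun η : IrrCharacter C => pRegularPart p (η : C → ℂ)) '' b) :=
    Submodule.sum_mem _ fun i _ => Submodule.smul_mem _ _ (lattice_le_span b (he.mem i))
  have h1 : gram p b f f = ((∑ i, ∑ l, n i * n l * gramMat he i l : ℤ) : ℂ) := by
    rw [hf, gram_sum_left]
    push_cast
    refine Finset.sum_congr rfl fun i _ => ?_
    rw [gram_sum_right, Finset.mul_sum]
    refine Finset.sum_congr rfl fun l _ => ?_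
    rw [gramMat_spec he, map_intCast]
    ring
  have h2 : ∃ t : ℝ, 0 ≤ t ∧ gram p b f f = t := by
    refine ⟨((p ^ blockDefect p b : ℕ) : ℝ) / (Nat.card C : ℝ) *
      ∑ x ∈ Finset.univ.filter (fun x : C => ¬ p ∣ orderOf x), Complex.normSq (f x), ?_, ?_⟩
    · exact mul_nonneg (by positivity) (Finset.sum_nonneg fun x _ => Complex.normSq_nonneg _)
    · rw [gram, regSum]
      push_cast
      congr 1
      exact Finset.sum_congr rfl fun x _ => Complex.mul_conj _
  obtain ⟨t, ht, hte⟩ := h2
  rw [h1] at hte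
  have h3 : ((∑ i, ∑ l, n i * n l * gramMat he i l : ℤ) : ℝ) = t := by exact_mod_cast hte
  have h4 : (0 : ℤ) ≤ ∑ i, ∑ l, n i * n l * gramMat he i l := by
    rw [← h3] at ht; exact_mod_cast ht
  refine lt_of_le_of_ne h4 fun h0 => hn (he.indep n ?_)
  refine eq_zero_of_gram_self hmem ?_
  rw [h1, ← h0, Int.cast_zero]

theorem gramMat_det_ne_zero (he : IsBasisFor p b e) : (gramMat he).det ≠ 0 := by
  intro h
  obtain ⟨n, hn, h0⟩ := Matrix.exists_mulVec_eq_zero_iff.2 h
  refine (gramMat_quad_pos he hn).ne' (Finset.sum_eq_zero fun i _ => ?_)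
  have h1 := congrFun h0 i
  simp only [Matrix.mulVec, dotProduct, Pi.zero_apply] at h1
  calc ∑ l, n i * n l * gramMat he i l = n i * ∑ l, gramMat he i l * n l := by
        rw [Finset.mul_sum]; exact Finset.sum_congr rfl fun l _ => by ring
    _ = 0 := by rw [h1, mul_zero]

theorem rank_eq (he : IsBasisFor p b e) : blockRank p b = r := by
  set V := Submodule.span ℂ
    ((fun η : IrrCharacter C => pRegularPart p (η : C → ℂ)) '' b) with hV
  have hli : LinearIndependent ℂ e := by
    rw [Fintype.linearIndependent_iff]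
    intro c hc
    have h1 : Matrix.vecMul c ((gramMat he).map (Int.cast : ℤ → ℂ)) = 0 := by
      funext l
      have h2 := congrArg (fun f => gram p b f (e l)) hc
      simp only [gram_sum_left, gramMat_spec he] at h2
      simp only [Matrix.vecMul, dotProduct, Matrix.map_apply, Pi.zero_apply]
      rw [h2]
      simp [gram, regSum]
    have hdet : ((gramMat he).map (Int.cast : ℤ → ℂ)).det ≠ 0 := by
      have := RingHom.map_det (Int.castRingHom ℂ) (gramMat he)
      simp only [RingHom.mapMatrix_apply, Int.coe_castRingHom] at this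
      rw [← this, Int.cast_ne_zero]
      exact gramMat_det_ne_zero he
    exact congrFun (Matrix.eq_zero_of_vecMul_eq_zero hdet h1)
  have hspan : Submodule.span ℂ (Set.range e) = V := by
    refine le_antisymm (Submodule.span_le.2 ?_) (Submodule.span_le.2 ?_)
    · rintro _ ⟨i, rfl⟩; exact lattice_le_span b (he.mem i)
    · rintro _ ⟨ξ, hξ, rfl⟩
      obtain ⟨n, hn⟩ := he.expand ξ hξ
      show pRegularPart p (ξ : C → ℂ) ∈ Submodule.span ℂ (Set.range e)
      rw [hn]
      exact Submodule.sum_mem _ fun i _ => Submodule.smul_mem _ _ (Submodule.subset_span ⟨i, rfl⟩)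
  show Module.finrank ℂ V = r
  rw [← hspan, finrank_span_eq_card hli, Fintype.card_fin]

/-- The integral coefficients of the regular part of `ξ`. -/
noncomputable def expCoeff (he : IsBasisFor p b e) (ξ : IrrCharacter C) : Fin r → ℤ :=
  if h : ξ ∈ b then (he.expand ξ h).choose else 0

theorem expCoeff_spec (he : IsBasisFor p b e) {ξ : IrrCharacter C} (h : ξ ∈ b) :
    pRegularPart p (ξ : C → ℂ) = ∑ i, (expCoeff he ξ i : ℂ) • e i := by
  rw [expCoeff, dif_pos h]
  exact (he.expand ξ h).choose_spec

/-- The coordinate of the part of `χ`. -/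
noncomputable def coord' (hS : IsSection p k u C) (he : IsBasisFor p b e) (χ : IrrCharacter G)
    (i : Fin r) (d : ZMod (p ^ k)) : ℤ :=
  ∑ ξ ∈ Finset.univ.filter (· ∈ b),
    if idx hS ξ = d then (mult C χ ξ : ℤ) * expCoeff he ξ i else 0

theorem cev_coord' (hS : IsSection p k u C) (he : IsBasisFor p b e) (χ : IrrCharacter G)
    (i : Fin r) (j : ZMod (p ^ k)) : cev (coord' hS he χ i) j =
      ∑ ξ ∈ Finset.univ.filter (· ∈ b), secCoeff hS χ j ξ * (expCoeff he ξ i : ℂ) := by
  simp only [cev, coord', Int.cast_sum, Finset.sum_mul]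
  rw [Finset.sum_comm]
  refine Finset.sum_congr rfl fun ξ _ => ?_
  rw [Finset.sum_eq_single (idx hS ξ)]
  · rw [if_pos rfl, secCoeff]; push_cast; ring
  · intro d _ hd; rw [if_neg (Ne.symm hd)]; simp
  · intro h; exact absurd (Finset.mem_univ _) h

theorem part_eq_sum (hS : IsSection p k u C) (he : IsBasisFor p b e) (χ : IrrCharacter G)
    (j : ZMod (p ^ k)) : part hS b χ j = ∑ i, cev (coord' hS he χ i) j • e i := by
  simp only [cev_coord', Finset.sum_smul, part]
  rw [Finset.sum_comm]
  refine Finset.sum_congr rfl fun ξ hξ => ?_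
  rw [expCoeff_spec he (Finset.mem_filter.1 hξ).2, Finset.smul_sum]
  exact Finset.sum_congr rfl fun i _ => smul_smul _ _ _

theorem cM_eq_coord (hS : IsSection p k u C) (he : IsBasisFor p b e) (χ ψ : IrrCharacter G)
    (j : ZMod (p ^ k)) : cM hS b χ ψ j = ∑ i, ∑ l,
      cev (coord' hS he χ i) j * conj (cev (coord' hS he ψ l) j) * (gramMat he i l : ℂ) := by
  rw [show cM hS b χ ψ j = gram p b (part hS b χ j) (part hS b ψ j) from rfl, part_eq_sum hS he,
    part_eq_sum hS he, gram_sum_left]
  refine Finset.sum_congr rfl fun i _ => ?_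
  rw [gram_sum_right, Finset.mul_sum]
  exact Finset.sum_congr rfl fun l _ => by rw [gramMat_spec he]; ring

/-- The pairing of the part of `χ` with a basis vector. -/
noncomputable def pairing (hS : IsSection p k u C) (he : IsBasisFor p b e) (χ : IrrCharacter G)
    (l : Fin r) (j : ZMod (p ^ k)) : ℂ :=
  ∑ i, cev (coord' hS he χ i) j * (gramMat he i l : ℂ)

theorem sum_pairing (hS : IsSection p k u C) (hM : IsPModular p M) {B : Set (IrrCharacter G)}
    (hind : IsInducedBlock M C b B) (he : IsBasisFor p b e) {j : ZMod (p ^ k)} (hj : IsUnit j)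
    (i l : Fin r) :
    ∑ χ ∈ Finset.univ.filter (· ∈ B), pairing hS he χ i j * conj (pairing hS he χ l j) =
      ((p ^ blockDefect p b : ℕ) : ℂ) * (gramMat he i l : ℂ) := by
  obtain ⟨hw, hwp⟩ := pow_section hS hj
  have hi := lattice_le_span b (he.mem i)
  have hl := lattice_le_span b (he.mem l)
  have h := section_orth (p := p) (f := e i) hw hwp (span_isClassFunction hl)
  have hpair : ∀ (χ : IrrCharacter G) (n : Fin r), pairing hS he χ n j =
      ((p ^ blockDefect p b : ℕ) : ℂ) / (Nat.card C : ℂ) *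
        regSum p (fun y : C => (χ : G → ℂ) (u ^ j.val * y)) (e n) := by
    intro χ n
    rw [← Brauer.regSum_conj p (e n) (fun y : C => (χ : G → ℂ) (u ^ j.val * y)),
      regSum_section_right hS hM hind.1 χ j (lattice_le_span b (he.mem n)), Brauer.regSum_conj,
      ← gram, part_eq_sum hS he, gram_sum_left, pairing]
    exact Finset.sum_congr rfl fun m _ => by rw [gramMat_spec he]
  rw [Finset.sum_subset (Finset.subset_univ (Finset.univ.filter (· ∈ B)))]
  · simp only [hpair, map_mul, map_div₀, map_natCast]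
    have hC0 : (Nat.card C : ℂ) ≠ 0 := Nat.cast_ne_zero.2 Nat.card_pos.ne'
    set c : ℂ := ((p ^ blockDefect p b : ℕ) : ℂ) / (Nat.card C : ℂ) with hc
    have e1 : ∀ χ : IrrCharacter G,
        c * regSum p (fun y : C => (χ : G → ℂ) (u ^ j.val * y)) (e i) *
          (c * conj (regSum p (fun y : C => (χ : G → ℂ) (u ^ j.val * y)) (e l))) =
        c * c * (regSum p (fun y : C => (χ : G → ℂ) (u ^ j.val * y)) (e i) *
          conj (regSum p (fun y : C => (χ : G → ℂ) (u ^ j.val * y)) (e l))) := fun χ => by ring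
    rw [Finset.sum_congr rfl fun χ _ => e1 χ, ← Finset.mul_sum, h]
    rw [gramMat_symm he i l, ← gramMat_spec he l i, gram, hc]
    field_simp
  · intro χ _ hχ
    rw [hpair, ← Brauer.regSum_conj p (e i) (fun y : C => (χ : G → ℂ) (u ^ j.val * y)),
      regSum_section_right hS hM hind.1 χ j hi,
      part_eq_zero_of_notMem hS hM hind (by simpa using hχ) hj]
    simp [regSum]

/-- The scaled Gram matrix has rank one modulo `p`. -/
theorem dvd_minor (hM : IsPModular p M) (hb : IsPBlock M b) (he : IsBasisFor p b e)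
    (i l i' l' : Fin r) :
    (p : ℤ) ∣ gramMat he i l * gramMat he i' l' - gramMat he i l' * gramMat he i' l := by
  haveI : M.IsPrime := isPrime_of_isPModular hM
  obtain ⟨η₀, hη₀, hη₀0⟩ := BlockVal.exists_height_zero (p := p) (pBlock_nonempty hb)
  set d0 : ℂ := ((p ^ ((charDegree (η₀ : C → ℂ)).factorization p) : ℕ) : ℂ) with hd0
  have hd00 : d0 ≠ 0 := Nat.cast_ne_zero.2 (pow_ne_zero _ hp.out.ne_zero)
  have hdef : blockDefect p b =
      (Nat.card C).factorization p - (charDegree (η₀ : C → ℂ)).factorization p :=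
    BlockVal.blockDefect_eq hη₀ hη₀0
  let D : IrrCharacter C → ℂ := fun η => (η : C → ℂ) 1 / d0
  let K : IrrCharacter C → ℂ := fun ξ => cReg p (ξ : C → ℂ) (η₀ : C → ℂ) / (η₀ : C → ℂ) 1
  have hD : ∀ η ∈ b, MemLocalRing M (D η) := by
    intro η hη
    simp only [D, hd0, (BlockVal.irr_one_eq_charDegree η).1]
    rw [memLocalRing_natCast_div_iff hM (BlockVal.irr_one_eq_charDegree η).2
      (pow_ne_zero _ hp.out.ne_zero), hp.out.factorization_pow, Finsupp.single_eq_same]
    exact (BlockVal.blockHeight_eq_zero_iff hη₀).1 hη₀0 η hη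
  have hK : ∀ ξ : IrrCharacter C, MemLocalRing M (K ξ) := by
    intro ξ
    simp only [K]
    rw [BlockVal.cReg_comm, BlockVal.cReg, mul_div_right_comm, mul_div_assoc]
    exact (localRing M).mul_mem (BlockVal.pPart_div_card_memLocalRing hM)
      (Brauer.regSum_div_memLocalRing hM (Char.isCharacter_of_irr ξ.2) η₀)
  -- pairs from the generators
  have hq : ∀ ξ ∈ b, ∀ η ∈ b,
      MemLocalIdeal M (gram p b (pRegularPart p ((ξ : IrrCharacter C) : C → ℂ))
        (pRegularPart p ((η : IrrCharacter C) : C → ℂ)) - K ξ * D η) := by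
    intro ξ hξ η hη
    have hc := memLocalIdeal_mul_left (hD η hη)
      (BlockVal.cReg_div_congr hM ξ (pBlock_sameBlock hb hη hη₀))
    convert hc using 1
    have hne : (η : C → ℂ) 1 ≠ 0 := Char.irr_one_ne_zero η.2
    have hg : gram p b (pRegularPart p (ξ : C → ℂ)) (pRegularPart p (η : C → ℂ)) =
        cReg p (ξ : C → ℂ) (η : C → ℂ) / d0 := by
      rw [gram, regSum_pRegularPart_left, regSum_pRegularPart_right, BlockVal.cReg, hdef, hd0,
        eq_div_iff (hd0 ▸ hd00)]
      conv_rhs => rw [← Nat.add_sub_cancel' (BlockVal.factorization_degree_le p η₀)]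
      push_cast
      rw [pow_add]
      ring
    rw [hg]
    simp only [K, D]
    field_simp
  -- the lattice vectors
  have hgen : ∀ n : Fin r, ∃ c : IrrCharacter C → ℤ, e n =
      ∑ ξ ∈ Finset.univ.filter (· ∈ b), (c ξ : ℂ) • pRegularPart p (ξ : C → ℂ) := by
    intro n
    refine Submodule.span_induction ?_ ?_ ?_ ?_ (he.mem n)
    · rintro _ ⟨ξ, hξ, rfl⟩
      refine ⟨fun η => if η = ξ then 1 else 0, ?_⟩
      rw [Finset.sum_eq_single ξ]
      · simp
      · intro η _ hne; simp [hne]
      · intro h; simp [hξ] at h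
    · exact ⟨0, by simp⟩
    · rintro x y - - ⟨c, hc⟩ ⟨c', hc'⟩
      exact ⟨c + c', by rw [hc, hc', ← Finset.sum_add_distrib]; simp [add_smul]⟩
    · rintro m x - ⟨c, hc⟩
      refine ⟨fun η => m * c η, ?_⟩
      rw [hc, ← Int.cast_smul_eq_zsmul ℂ, Finset.smul_sum]
      simp [smul_smul]
  choose c hc using hgen
  let T : Fin r → ℂ := fun n => ∑ ξ ∈ Finset.univ.filter (· ∈ b), (c n ξ : ℂ) * K ξ
  let S : Fin r → ℂ := fun n => ∑ ξ ∈ Finset.univ.filter (· ∈ b), (c n ξ : ℂ) * D ξ
  have hTm : ∀ n, MemLocalRing M (T n) := fun n => (localRing M).sum_mem fun ξ _ =>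
    (localRing M).mul_mem (intCast_mem (localRing M) _) (hK ξ)
  have hSm : ∀ n, MemLocalRing M (S n) := fun n => (localRing M).sum_mem fun ξ hξ =>
    (localRing M).mul_mem (intCast_mem (localRing M) _) (hD ξ (Finset.mem_filter.1 hξ).2)
  have hA : ∀ n m, MemLocalIdeal M ((gramMat he n m : ℂ) - T n * S m) := by
    intro n m
    have e1 : gram p b (e n) (e m) = ∑ ξ ∈ Finset.univ.filter (· ∈ b),
        ∑ η ∈ Finset.univ.filter (· ∈ b), ((c n ξ : ℂ) * (c m η : ℂ)) *
          gram p b (pRegularPart p (ξ : C → ℂ)) (pRegularPart p (η : C → ℂ)) := by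
      rw [gram, hc n, hc m, regSum_sum_left, Finset.mul_sum]
      refine Finset.sum_congr rfl fun ξ _ => ?_
      rw [regSum_smul_left, regSum_sum_right, Finset.mul_sum, Finset.mul_sum]
      refine Finset.sum_congr rfl fun η _ => ?_
      rw [regSum_smul_right, map_intCast, gram]
      ring
    rw [← gramMat_spec he, e1]
    simp only [T, S, Finset.sum_mul_sum, ← Finset.sum_sub_distrib]
    refine memLocalIdeal_sum _ _ fun ξ hξ => memLocalIdeal_sum _ _ fun η hη => ?_
    convert memLocalIdeal_mul_left ((localRing M).mul_mem (intCast_mem (localRing M) (c n ξ))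
      (intCast_mem (localRing M) (c m η)))
      (hq ξ (Finset.mem_filter.1 hξ).2 η (Finset.mem_filter.1 hη).2) using 1
    ring
  rw [← memLocalIdeal_intCast_iff hM]
  push_cast
  have hprod : ∀ n m n' m', MemLocalIdeal M
      ((gramMat he n m : ℂ) * (gramMat he n' m' : ℂ) - T n * S m * (T n' * S m')) := by
    intro n m n' m'
    convert memLocalIdeal_add
      (memLocalIdeal_mul_left (intCast_mem (localRing M) (gramMat he n m)) (hA n' m'))
      (memLocalIdeal_mul_right (hA n m) ((localRing M).mul_mem (hTm n') (hSm m'))) using 1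
    ring
  convert memLocalIdeal_sub (hprod i l i' l') (hprod i l' i' l) using 1
  ring

/-- A reduced basis of rank two. -/
theorem exists_reduced {e : Fin 2 → C → ℂ} (he : IsBasisFor p b e) :
    ∃ (e' : Fin 2 → C → ℂ) (he' : IsBasisFor p b e'),
      2 * |gramMat he' 0 1| ≤ gramMat he' 0 0 ∧ 2 * |gramMat he' 0 1| ≤ gramMat he' 1 1 := by
  let P : ℕ → Prop := fun n => ∃ (f : Fin 2 → C → ℂ) (hf : IsBasisFor p b f),
    (gramMat hf 0 0 + gramMat hf 1 1).toNat = n
  have hP : ∃ n, P n := ⟨_, e, he, rfl⟩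
  obtain ⟨f, hf, hn⟩ := Nat.find_spec hP
  have hpos : ∀ {g : Fin 2 → C → ℂ} (hg : IsBasisFor p b g) (i : Fin 2), 0 < gramMat hg i i := by
    intro g hg i
    have h := gramMat_quad_pos hg (n := Pi.single i 1) (by simp)
    rw [Finset.sum_eq_single i, Finset.sum_eq_single i] at h
    · simpa using h
    all_goals simp +contextual
  -- shearing
  have hshear : ∀ (i o : Fin 2), i ≠ o → ∀ s : ℤ,
      ∃ (g : Fin 2 → C → ℂ) (hg : IsBasisFor p b g), gramMat hg i i = gramMat hf i i ∧
        gramMat hg o o = gramMat hf o o + 2 * s * gramMat hf i o + s * s * gramMat hf i i := by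
    intro i o hio s
    set g : Fin 2 → C → ℂ := fun n => if n = o then f o + (s : ℂ) • f i else f n with hg
    have hsum : ∀ c : Fin 2 → ℂ, (∑ n, c n • g n) = c o • f o + (c i + c o * s) • f i := by
      intro c
      rw [Fintype.sum_eq_add o i hio.symm (fun x hx => absurd hx (by omega))]
      simp [hg, hio, smul_add, smul_smul, add_smul]
      abel
    have hf2 : ∀ c : Fin 2 → ℂ, (∑ n, c n • f n) = c o • f o + c i • f i := fun c =>
      Fintype.sum_eq_add o i hio.symm (fun x hx => absurd hx (by omega))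
    have hgb : IsBasisFor p b g := by
      refine ⟨fun n => ?_, fun n hn => ?_, fun ξ hξ => ?_⟩
      · simp only [hg]
        split_ifs
        · rw [Int.cast_smul_eq_zsmul]
          exact Submodule.add_mem _ (hf.mem o) (Submodule.smul_mem _ _ (hf.mem i))
        · exact hf.mem n
      · rw [hsum] at hn
        set m : Fin 2 → ℤ := fun x => if x = o then n o else n i + n o * s with hm
        have h0 := hf.indep m (by
          rw [hf2]
          simpa [hm, hio] using hn)
        have ho : n o = 0 := by simpa [hm] using congrFun h0 o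
        have hi : n i = 0 := by simpa [hm, hio, ho] using congrFun h0 i
        funext x
        rcases eq_or_ne x o with rfl | hx
        · exact ho
        · rw [show x = i by omega]; exact hi
      · obtain ⟨n, hn⟩ := hf.expand ξ hξ
        refine ⟨fun x => if x = o then n o else n i - n o * s, ?_⟩
        rw [hsum, hn, hf2]
        simp [hio]
    refine ⟨g, hgb, ?_, ?_⟩
    · apply Int.cast_injective (α := ℂ)
      rw [← gramMat_spec hgb, ← gramMat_spec hf]
      simp [hg, hio]
    · apply Int.cast_injective (α := ℂ)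
      rw [← gramMat_spec hgb]
      push_cast
      simp only [← gramMat_spec hf, hg, if_pos]
      simp only [gram, regSum_add_left, regSum_add_right, regSum_smul_left, regSum_smul_right,
        map_intCast]
      have hsymm : gram p b (f o) (f i) = gram p b (f i) (f o) := by
        rw [gramMat_spec hf, gramMat_spec hf, gramMat_symm hf]
      simp only [gram] at hsymm
      linear_combination (s : ℂ) * hsymm
  have hbound : ∀ (i o : Fin 2), i ≠ o → 2 * |gramMat hf i o| ≤ gramMat hf i i := by
    intro i o hio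
    by_contra hc
    push Not at hc
    obtain ⟨g, hg, h1, h2⟩ := hshear i o hio (if 0 ≤ gramMat hf i o then -1 else 1)
    have hlt : gramMat hg o o < gramMat hf o o := by
      rw [h2]
      split_ifs with h
      · rw [abs_of_nonneg h] at hc; linarith
      · rw [abs_of_neg (not_le.1 h)] at hc; linarith
    refine Nat.find_min hP (m := (gramMat hg 0 0 + gramMat hg 1 1).toNat) ?_ ⟨g, hg, rfl⟩
    rw [← hn]
    have p0 := hpos hf 0; have p1 := hpos hf 1; have q0 := hpos hg 0; have q1 := hpos hg 1
    rcases Fin.exists_fin_two.1 (⟨i, rfl⟩ : ∃ n : Fin 2, i = n) with rfl | rfl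
    · obtain rfl : o = 1 := by omega
      omega
    · obtain rfl : o = 0 := by omega
      omega
  refine ⟨f, hf, hbound 0 1 (by decide), ?_⟩
  rw [gramMat_symm hf 0 1]
  exact hbound 1 0 (by decide)

end Cfsg.Agent.BlkChar.RankTwo
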