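import Cfsg.Agent.Brauer.RegElement
import Cfsg.Agent.Block.Degrees
import Cfsg.Agent.BlkChar.PPrimeConstituent

/-! Membership in the principal block through sums over `p`-regular elements. -/

namespace Cfsg.Agent.BlkChar

open Cfsg Cfsg.Agent.Block
open scoped ComplexConjugate

variable {G : Type*} [Group G]

/-- The sum of a function over the `p`-regular elements. -/
noncomputable def regTotal [Finite G] (p : ℕ) (χ : G → ℂ) : ℂ :=
  haveI := Fintype.ofFinite G
  ∑ x ∈ Finset.univ.filter (fun x : G => ¬ p ∣ orderOf x), χ x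

theorem regTotal_eq [Fintype G] (p : ℕ) (χ : G → ℂ) :
    regTotal p χ = ∑ x ∈ Finset.univ.filter (fun x : G => ¬ p ∣ orderOf x), χ x := by
  rw [regTotal, Subsingleton.elim (Fintype.ofFinite G) ‹Fintype G›]

theorem mem_principalBlock_iff_regTotal [Finite G] {p : ℕ} {M : Ideal AlgInt}
    (hM : IsPModular p M) (χ : IrrCharacter G) :
    χ ∈ principalBlock M G ↔
      ¬ MemLocalIdeal M (regTotal p (χ : G → ℂ) / (χ : G → ℂ) 1) := by
  letI := Fintype.ofFinite G
  rw [Brauer.mem_principalBlock_iff_regSum hM, regTotal_eq]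
  simp [Brauer.regSum]

/-- Congruence of the totals within the principal block. -/
theorem regTotal_div_sub_mem [Finite G] {p : ℕ} {M : Ideal AlgInt}
    (hM : IsPModular p M) (χ : IrrCharacter G) (h : χ ∈ principalBlock M G) :
    MemLocalIdeal M
      ((Nat.card {x : G // ¬ p ∣ orderOf x} : ℂ) - regTotal p (χ : G → ℂ) / (χ : G → ℂ) 1) := by
  letI := Fintype.ofFinite G
  haveI : M.IsPrime := isPrime_of_isPModular hM
  have := Brauer.regSum_div_congr hM (Char.isCharacter_const_one (G := G))
    (ψ := Char.trivialIrr G) (η := χ) h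
  simp only [Brauer.regSum, Char.trivialIrr, map_one, mul_one, div_one, Finset.sum_const,
    nsmul_eq_mul] at this
  rw [regTotal_eq, Nat.card_eq_fintype_card, Fintype.card_subtype]
  simpa using this

/-- If a subgroup contains all `p`-regular elements, the totals agree. -/
theorem regTotal_restrict [Finite G] (p : ℕ) (N : Subgroup G)
    (h : ∀ x : G, ¬ p ∣ orderOf x → x ∈ N) (f : G → ℂ) :
    regTotal p f = regTotal p (fun n : N => f n) := by
  classical
  letI := Fintype.ofFinite G
  rw [regTotal_eq, regTotal_eq]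
  refine Finset.sum_bij' (fun x hx => (⟨x, h x (by simpa using hx)⟩ : N)) (fun n _ => (n : G))
    ?_ ?_ ?_ ?_ ?_
  · intro x hx
    simp only [Finset.mem_filter, Finset.mem_univ, true_and] at hx ⊢
    rwa [← Subgroup.orderOf_coe]
  · intro n hn; simpa [← Subgroup.orderOf_coe] using hn
  · intro x hx; rfl
  · intro n hn; rfl
  · intro x hx; rfl

end Cfsg.Agent.BlkChar
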