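import Mathlib

/-!
# Solvable groups embed in regular groups of affine permutations

For a natural number `n`, every finite solvable group all of whose prime divisors
divide `n` embeds in a group of affine permutations acting regularly on an abelian group killed
by `n`.
-/

set_option autoImplicit false
set_option linter.style.haveILetI false

namespace Cfsg.Agent.BlkChar.RegularAffine

universe u

open scoped Classical

/-- `G` embeds in a regular group of affine permutations of an abelian group killed by `n`. -/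
def Embeds (n : ℕ) (G : Type u) [Group G] : Prop :=
  ∃ (A : Type u) (_ : AddCommGroup A) (_ : Finite A) (L : Subgroup (Equiv.Perm A))
    (φ : G →* Equiv.Perm A),
    (∀ a : A, n • a = 0) ∧
    (∀ σ ∈ L, ∀ a b : A, σ (a + b) + σ 0 = σ a + σ b) ∧
    (∀ a : A, ∃ σ ∈ L, σ 0 = a) ∧
    (∀ σ ∈ L, σ 0 = 0 → σ = 1) ∧
    Function.Injective φ ∧ ∀ g, φ g ∈ L

theorem embeds_subsingleton (n : ℕ) (G : Type u) [Group G] [Subsingleton G] : Embeds n G := by
  refine ⟨PUnit.{u+1}, inferInstance, inferInstance, ⊥, 1, fun a => Subsingleton.elim _ _,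
    fun _ _ _ _ => Subsingleton.elim _ _,
    fun a => ⟨1, one_mem _, Subsingleton.elim _ _⟩,
    fun σ _ _ => Equiv.ext fun _ => Subsingleton.elim _ _,
    fun _ _ _ => Subsingleton.elim _ _, fun g => one_mem _⟩

section Wreath

variable {A : Type u} {Q : Type u} [CommGroup Q]

/-- A wreath permutation. -/
def wperm (k : Q → Equiv.Perm A) (c : Q) : Equiv.Perm ((Q → A) × Additive Q) where
  toFun t := (fun i => k i (t.1 (c⁻¹ * i)), Additive.ofMul c + t.2)
  invFun t := (fun i => (k (c * i))⁻¹ (t.1 (c * i)), Additive.ofMul c⁻¹ + t.2)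
  left_inv t := by
    refine Prod.ext (funext fun i => ?_) ?_
    · simp
    · simp [← add_assoc]
  right_inv t := by
    refine Prod.ext (funext fun i => ?_) ?_
    · simp
    · simp [← add_assoc]

theorem wperm_apply (k : Q → Equiv.Perm A) (c : Q) (t : (Q → A) × Additive Q) :
    wperm k c t = (fun i => k i (t.1 (c⁻¹ * i)), Additive.ofMul c + t.2) := rfl

theorem wperm_mul (k k' : Q → Equiv.Perm A) (c c' : Q) :
    wperm k c * wperm k' c' = wperm (fun i => k i * k' (c⁻¹ * i)) (c * c') := by
  refine Equiv.ext fun t => ?_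
  rw [Equiv.Perm.mul_apply, wperm_apply, wperm_apply, wperm_apply]
  refine Prod.ext (funext fun i => ?_) ?_
  · simp [mul_assoc]
  · simp [add_assoc]

theorem wperm_one : wperm (fun _ : Q => (1 : Equiv.Perm A)) 1 = 1 := by
  refine Equiv.ext fun t => ?_
  simp [wperm_apply]

variable (Q) in
/-- The wreath product of `L` by `Q` acting regularly. -/
def wreath (L : Subgroup (Equiv.Perm A)) : Subgroup (Equiv.Perm ((Q → A) × Additive Q)) where
  carrier := {σ | ∃ (k : Q → Equiv.Perm A) (c : Q), (∀ i, k i ∈ L) ∧ σ = wperm k c}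
  one_mem' := ⟨fun _ => 1, 1, fun _ => one_mem _, wperm_one.symm⟩
  mul_mem' := by
    rintro _ _ ⟨k, c, hk, rfl⟩ ⟨k', c', hk', rfl⟩
    exact ⟨_, _, fun i => mul_mem (hk i) (hk' _), wperm_mul k k' c c'⟩
  inv_mem' := by
    rintro _ ⟨k, c, hk, rfl⟩
    refine ⟨fun i => (k (c * i))⁻¹, c⁻¹, fun i => inv_mem (hk _), ?_⟩
    rw [inv_eq_iff_mul_eq_one, wperm_mul, mul_inv_cancel, ← wperm_one]
    congr 1
    funext i
    simp

variable [AddCommGroup A]

theorem wreath_affine {L : Subgroup (Equiv.Perm A)}
    (hL : ∀ σ ∈ L, ∀ a b : A, σ (a + b) + σ 0 = σ a + σ b)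
    {σ : Equiv.Perm ((Q → A) × Additive Q)} (hσ : σ ∈ wreath Q L) (a b : (Q → A) × Additive Q) :
    σ (a + b) + σ 0 = σ a + σ b := by
  obtain ⟨k, c, hk, rfl⟩ := hσ
  simp only [wperm_apply]
  refine Prod.ext (funext fun i => ?_) ?_
  · simpa using hL _ (hk i) _ _
  · simp only [Prod.snd_add, Prod.snd_zero, add_zero]
    abel

theorem wreath_trans {L : Subgroup (Equiv.Perm A)} (hL : ∀ a : A, ∃ σ ∈ L, σ 0 = a)
    (t : (Q → A) × Additive Q) : ∃ σ ∈ wreath Q L, σ 0 = t := by
  choose k hk hk' using fun i : Q => hL (t.1 i)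
  refine ⟨wperm k (Additive.toMul t.2), ⟨k, _, hk, rfl⟩, ?_⟩
  rw [wperm_apply]
  refine Prod.ext (funext fun i => ?_) ?_
  · simpa using hk' i
  · simp

theorem wreath_free {L : Subgroup (Equiv.Perm A)} (hL : ∀ σ ∈ L, σ 0 = 0 → σ = 1)
    {σ : Equiv.Perm ((Q → A) × Additive Q)} (hσ : σ ∈ wreath Q L) (h : σ 0 = 0) : σ = 1 := by
  obtain ⟨k, c, hk, rfl⟩ := hσ
  rw [wperm_apply] at h
  have h1 := congrArg Prod.fst h
  have h2 := congrArg Prod.snd h
  simp only [Prod.snd_zero, add_zero] at h2
  have hc : c = 1 := Additive.ofMul.injective (by simpa using h2)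
  have hk1 : k = fun _ => 1 := funext fun i => hL _ (hk i) (by simpa using congrFun h1 i)
  rw [hc, hk1, wperm_one]

end Wreath

/-- The embedding step along a normal subgroup with abelian quotient. -/
theorem embeds_step {n : ℕ} {G : Type u} [Group G] [Finite G] (N : Subgroup G) [N.Normal]
    (hcomm : ∀ a b : G ⧸ N, a * b = b * a) (hexp : ∀ q : G ⧸ N, q ^ n = 1) (hN : Embeds n N) :
    Embeds n G := by
  obtain ⟨A, iA, iF, L, φ, hexpA, haff, htr, hfree, hinj, hmem⟩ := hN
  letI : CommGroup (G ⧸ N) := { (inferInstance : Group (G ⧸ N)) with mul_comm := hcomm }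
  let π : G →* G ⧸ N := QuotientGroup.mk' N
  let s : G ⧸ N → G := Quotient.out
  have hs : ∀ q, π (s q) = q := fun q => QuotientGroup.out_eq' q
  have hk : ∀ (g : G) (i : G ⧸ N), (s i)⁻¹ * g * s ((π g)⁻¹ * i) ∈ N := by
    intro g i
    rw [← QuotientGroup.eq_one_iff]
    show π _ = 1
    simp [map_mul, hs, mul_assoc]
  let k : G → G ⧸ N → Equiv.Perm A := fun g i => φ ⟨_, hk g i⟩
  have hmul : ∀ g h i, k (g * h) i = k g i * k h ((π g)⁻¹ * i) := by
    intro g h i
    simp only [k, ← map_mul]
    congr 1
    refine Subtype.ext ?_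
    simp [mul_assoc]
  let Φ : G →* Equiv.Perm ((G ⧸ N → A) × Additive (G ⧸ N)) :=
    MonoidHom.mk' (fun g => wperm (k g) (π g)) fun g h => by
      rw [wperm_mul, map_mul]
      congr 1
      exact funext (hmul g h)
  refine ⟨(G ⧸ N → A) × Additive (G ⧸ N), inferInstance, inferInstance, wreath (G ⧸ N) L, Φ,
    ?_, fun σ hσ => wreath_affine haff hσ, wreath_trans htr, fun σ hσ => wreath_free hfree hσ, ?_,
    fun g => ⟨k g, π g, fun i => hmem _, rfl⟩⟩
  · intro a
    refine Prod.ext (funext fun i => ?_) ?_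
    · simpa using hexpA _
    · exact Additive.toMul.injective (by simpa using hexp (Additive.toMul a.2))
  · rw [injective_iff_map_eq_one]
    intro g hg
    have h0 : ∀ t, wperm (k g) (π g) t = t := fun t => Equiv.ext_iff.1 hg t
    have hg1 : π g = 1 := by
      have := congrArg Prod.snd (h0 (0, 0))
      rw [wperm_apply] at this
      exact Additive.ofMul.injective (by simpa using this)
    have h1 : k g 1 = 1 := by
      refine Equiv.ext fun a => ?_
      have := congrFun (congrArg Prod.fst (h0 (fun _ => a, 0))) 1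
      simpa [wperm_apply] using this
    have h2 := congrArg Subtype.val ((injective_iff_map_eq_one _).1 hinj _ h1)
    simp only [hg1, inv_one, one_mul, OneMemClass.coe_one] at h2
    calc g = s 1 * ((s 1)⁻¹ * g * s 1) * (s 1)⁻¹ := by group
      _ = 1 := by rw [h2]; group

/-- Solvable groups embed in regular affine groups. -/
theorem embeds_of_isSolvable {n : ℕ} : ∀ (m : ℕ) (G : Type u) [Group G] [Finite G],
    Nat.card G ≤ m → Group.IsSolvable G → (∀ p : ℕ, p.Prime → p ∣ Nat.card G → p ∣ n) →
    Embeds n G := by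
  intro m
  induction m with
  | zero => intro G _ _ h; exact absurd h (not_le.2 Nat.card_pos)
  | succ m ih =>
    intro G _ _ hm hsolv hn
    rcases subsingleton_or_nontrivial G with h | h
    · exact embeds_subsingleton n G
    haveI := hsolv
    haveI : Nontrivial (Abelianization G) :=
      QuotientGroup.nontrivial_iff.2
        (Group.IsSolvable.commutator_lt_top_of_nontrivial G).ne
    obtain ⟨p, hp, hpd⟩ := Nat.exists_prime_and_dvd
      (Finite.one_lt_card (α := Abelianization G)).ne'
    haveI := Fact.mk hp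
    let P : Abelianization G →* Abelianization G := powMonoidHom p
    have hP : P.range ≠ ⊤ := by
      intro htop
      obtain ⟨x, hx⟩ := exists_prime_orderOf_dvd_card' p hpd
      have hinj : Function.Injective P :=
        Finite.injective_iff_surjective.2 (MonoidHom.range_eq_top.1 htop)
      have : x = 1 := hinj (by simp [P, ← hx, pow_orderOf_eq_one])
      rw [this, orderOf_one] at hx
      exact hp.ne_one hx.symm
    let ψ : G →* Abelianization G ⧸ P.range := (QuotientGroup.mk' P.range).comp Abelianization.of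
    have hψ : Function.Surjective ψ :=
      (QuotientGroup.mk'_surjective _).comp (QuotientGroup.mk'_surjective _)
    let N := ψ.ker
    have hpG : p ∣ n := hn p hp (hpd.trans (Subgroup.card_quotient_dvd_card _))
    let e := QuotientGroup.quotientKerEquivOfSurjective ψ hψ
    have hcomm : ∀ a b : G ⧸ N, a * b = b * a := fun a b =>
      e.injective (by rw [map_mul, map_mul, mul_comm])
    have hexp : ∀ q : G ⧸ N, q ^ n = 1 := by
      intro q
      apply e.injective
      rw [map_pow, map_one]
      obtain ⟨y, hy⟩ := QuotientGroup.mk'_surjective P.range (e q)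
      obtain ⟨c, rfl⟩ := hpG
      rw [← hy, ← map_pow, pow_mul]
      refine (QuotientGroup.eq_one_iff _).2 (Subgroup.pow_mem _ (MonoidHom.mem_range.2 ⟨y, rfl⟩) c)
    have hNne : N ≠ ⊤ := by
      intro htop
      apply hP
      rw [eq_top_iff]
      intro y _
      obtain ⟨g, hg⟩ := hψ (QuotientGroup.mk' P.range y)
      have : g ∈ N := htop ▸ Subgroup.mem_top g
      rw [MonoidHom.mem_ker.1 this] at hg
      exact (QuotientGroup.eq_one_iff _).1 hg.symm
    refine embeds_step N hcomm hexp (ih N ?_ inferInstance fun q hq hqd =>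
      hn q hq (hqd.trans (Subgroup.card_subgroup_dvd_card N)))
    have hlt : Nat.card N < Nat.card G := lt_of_le_of_ne (Subgroup.card_le_card_group N)
      fun h => hNne (Subgroup.eq_top_of_card_eq N h)
    omega

end Cfsg.Agent.BlkChar.RegularAffine
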