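import Cfsg.Agent.CharExt.Extension

/-! Two extensions of an irreducible character differ by a linear character. -/

namespace Cfsg.Agent.BlkChar

open Cfsg Cfsg.Agent.CharExt Module

/-- Two characters with the same irreducible restriction to a normal subgroup differ by a linear
character trivial on it. -/
theorem exists_linear_twist {G : Type*} [Group G] [Finite G] (N : Subgroup G) [N.Normal]
    {θ : N → ℂ} (hθ : IsIrrCharacter N θ) {χ₁ χ₂ : G → ℂ} (h₁ : IsCharacter G χ₁)
    (h₂ : IsCharacter G χ₂) (r₁ : ∀ n : N, χ₁ n = θ n) (r₂ : ∀ n : N, χ₂ n = θ n) :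
    ∃ f : G →* ℂˣ, (∀ n : N, f n = 1) ∧ ∀ g, χ₁ g = (f g : ℂ) * χ₂ g := by
  obtain ⟨k, ρ, hρ, rfl⟩ := hθ
  haveI := hρ
  haveI : Nontrivial (Fin k → ℂ) := Char.nontrivial_of_isIrreducible ρ
  obtain ⟨k₁, σ₁, rfl⟩ := h₁
  obtain ⟨k₂, σ₂, rfl⟩ := h₂
  obtain ⟨e₁⟩ := nonempty_equiv_of_character_eq ρ (σ₁.comp N.subtype) (funext fun n => (r₁ n).symm)
  obtain ⟨e₂⟩ := nonempty_equiv_of_character_eq ρ (σ₂.comp N.subtype) (funext fun n => (r₂ n).symm)
  let τ₁ : Representation ℂ G (Fin k → ℂ) :=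
    (e₁.toLinearEquiv.symm.conjRingEquiv : Module.End ℂ _ ≃+* _).toMonoidHom.comp σ₁
  let τ₂ : Representation ℂ G (Fin k → ℂ) :=
    (e₂.toLinearEquiv.symm.conjRingEquiv : Module.End ℂ _ ≃+* _).toMonoidHom.comp σ₂
  have hc₁ : τ₁.character = σ₁.character :=
    Representation.char_iso (Representation.Equiv.mk e₁.toLinearEquiv fun g => by
      apply LinearMap.ext; intro v
      show e₁.toLinearEquiv (e₁.toLinearEquiv.symm (σ₁ g (e₁.toLinearEquiv v))) = _
      rw [LinearEquiv.apply_symm_apply]; rfl)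
  have hc₂ : τ₂.character = σ₂.character :=
    Representation.char_iso (Representation.Equiv.mk e₂.toLinearEquiv fun g => by
      apply LinearMap.ext; intro v
      show e₂.toLinearEquiv (e₂.toLinearEquiv.symm (σ₂ g (e₂.toLinearEquiv v))) = _
      rw [LinearEquiv.apply_symm_apply]; rfl)
  have hN₁ : ∀ n : N, τ₁ n = ρ n := by
    intro n
    apply LinearMap.ext
    intro v
    have := e₁.toIntertwiningMap.isIntertwining _ _ n v
    simp only [MonoidHom.comp_apply, Subgroup.subtype_apply] at this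
    apply e₁.toLinearEquiv.injective
    show e₁.toLinearEquiv (e₁.toLinearEquiv.symm (σ₁ n (e₁.toLinearEquiv v))) = _
    rw [LinearEquiv.apply_symm_apply]
    exact this.symm
  have hN₂ : ∀ n : N, τ₂ n = ρ n := by
    intro n
    apply LinearMap.ext
    intro v
    have := e₂.toIntertwiningMap.isIntertwining _ _ n v
    simp only [MonoidHom.comp_apply, Subgroup.subtype_apply] at this
    apply e₂.toLinearEquiv.injective
    show e₂.toLinearEquiv (e₂.toLinearEquiv.symm (σ₂ n (e₂.toLinearEquiv v))) = _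
    rw [LinearEquiv.apply_symm_apply]
    exact this.symm
  have hsc : ∀ g, ∃ c : ℂ, τ₂ g⁻¹ * τ₁ g = c • (1 : (Fin k → ℂ) →ₗ[ℂ] (Fin k → ℂ)) := by
    intro g
    refine exists_scalar_of_commute ρ _ fun n => ?_
    show τ₂ g⁻¹ * τ₁ g * ρ n = ρ n * (τ₂ g⁻¹ * τ₁ g)
    have a1 : τ₁ g * ρ n = ρ (cj N g n) * τ₁ g := by
      rw [← hN₁, ← hN₁, ← map_mul, ← map_mul]
      exact congrArg τ₁ (by simp [cj, mul_assoc])
    have a2 : τ₂ g⁻¹ * ρ (cj N g n) = ρ n * τ₂ g⁻¹ := by
      rw [← hN₂, ← hN₂, ← map_mul, ← map_mul]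
      exact congrArg τ₂ (by simp [cj, mul_assoc])
    rw [mul_assoc, a1, ← mul_assoc, a2, mul_assoc]
  choose c hc using hsc
  have hτ : ∀ g, τ₁ g = c g • τ₂ g := fun g => by
    have h1 := congrArg (fun X => τ₂ g * X) (hc g)
    simp only [← mul_assoc, ← map_mul, mul_inv_cancel, map_one, one_mul, mul_smul_comm, mul_one] at h1
    exact h1
  have hne : ∀ g, τ₂ g ≠ 0 := fun g h0 => by
    have : τ₂ g * τ₂ g⁻¹ = 1 := by rw [← map_mul, mul_inv_cancel, map_one]
    rw [h0, zero_mul] at this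
    exact zero_ne_one this
  have hN : ∀ n : N, c n = 1 := fun n => by
    have h := hτ (n : G)
    rw [hN₁, hN₂] at h
    exact smul_left_injective ℂ (hN₂ n ▸ hne n) (h.symm.trans (one_smul ℂ _).symm)
  have hmul : ∀ a b, c (a * b) = c a * c b := fun a b => by
    refine smul_left_injective ℂ (hne (a * b)) ?_
    show c (a * b) • τ₂ (a * b) = (c a * c b) • τ₂ (a * b)
    rw [← hτ, map_mul, map_mul, hτ a, hτ b, smul_mul_smul_comm]
  let f₀ : G →* ℂ := { toFun := c, map_one' := by simpa using hN 1, map_mul' := hmul }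
  refine ⟨f₀.toHomUnits, fun n => Units.ext ?_, fun g => ?_⟩
  · simpa [f₀] using hN n
  · rw [← hc₁, ← hc₂]
    simp [Representation.character, hτ g, f₀]

end Cfsg.Agent.BlkChar
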