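import Cfsg.Agent.Char.Thompson
import Cfsg.Agent.BlkChar.Twist
import Cfsg.Agent.BlkChar.RegCriterion
import Cfsg.Agent.OddChar.Twist
import Cfsg.Agent.CharInd.Basic

/-! Characters of degree prime to `p` over the `p`-residual, and their Galois twists. -/

namespace Cfsg.Agent.BlkChar

open Cfsg Cfsg.Agent.Char Module
open scoped ComplexConjugate

theorem det_of_eigen {n : ℕ} {U : Type*} [AddCommGroup U] [Module ℂ U] (c : Basis (Fin n) ℂ U)
    (T : U →ₗ[ℂ] U) (e : Fin n → ℂ) (he : ∀ i, T (c i) = e i • c i) :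
    LinearMap.det T = ∏ i, e i := by
  rw [← LinearMap.det_toMatrix c, ← Matrix.det_diagonal]
  congr 1
  ext i j
  rw [LinearMap.toMatrix_apply, he j, map_smul, Basis.repr_self]
  by_cases hij : i = j
  · subst hij; simp
  · simp [hij, Ne.symm hij]

variable {G : Type*} [Group G] [Finite G]

/-- The determinant of the twist by a power. -/
theorem detChar_twist {χ : G → ℂ} (hχ : IsCharacter G χ) {k : ℕ}
    (hk : IsCharacter G (fun g => χ (g ^ k))) (g : G) :
    detChar (fun g => χ (g ^ k)) g = detChar χ g ^ k := by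
  classical
  obtain ⟨n, ρ, rfl⟩ := hχ
  obtain ⟨m, σ, hσ⟩ := hk
  rw [CharExt.detChar_eq ρ rfl, CharExt.detChar_eq σ hσ]
  obtain ⟨b, ε, hb, -⟩ := exists_eigenbasis ρ g
  obtain ⟨b', ε', hb', -⟩ := exists_eigenbasis σ g
  rw [det_of_eigen b _ ε hb, det_of_eigen b' _ ε' hb', ← Finset.prod_pow]
  have hdim : finrank ℂ (Fin m → ℂ) = finrank ℂ (Fin n → ℂ) := by
    have h1 : σ.character 1 = ρ.character ((1 : G) ^ k) := congrFun hσ 1
    rw [one_pow, σ.char_one, ρ.char_one] at h1
    exact_mod_cast h1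
  rw [← (finCongr hdim.symm).prod_comp ε']
  apply CharExt.prod_eq_of_power_sums_eq
  intro j
  have h1 := character_pow_eq_sum σ hb' j
  have h2 := character_pow_eq_sum ρ hb (k * j)
  have h3 : σ.character (g ^ j) = ρ.character (g ^ (k * j)) := by
    rw [congrFun hσ (g ^ j), ← pow_mul, mul_comm]
  rw [h1, h2] at h3
  rw [(finCongr hdim.symm).sum_comp (fun i => ε' i ^ j), h3]
  simp [pow_mul]

/-- A character of degree prime to `p` restricted to a normal subgroup with `p`-group action has an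
invariant irreducible constituent of degree prime to `p`. -/
theorem exists_invariant_constituent {p : ℕ} [hp : Fact p.Prime] (P : Subgroup G)
    (hP : IsPGroup p P) (N : Subgroup G) [N.Normal] [Fintype N] (χ : IrrCharacter G)
    (hχ : ¬ p ∣ charDegree (χ : G → ℂ)) :
    ∃ θ : IrrCharacter N, ¬ p ∣ charDegree (θ : N → ℂ) ∧
      classInner (fun n : N => (χ : G → ℂ) n) (θ : N → ℂ) ≠ 0 ∧
      ∀ x ∈ P, ∀ n : N, (θ : N → ℂ) (MulAut.conjNormal x n) = (θ : N → ℂ) n := by
  classical
  obtain ⟨s, hs⟩ := isCharacter_eq_multiset_sum (isCharacter_restrict (isCharacter_of_irr χ.2) N)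
  letI act : MulAction P (IrrCharacter N) :=
    { smul := fun x θ => ⟨(θ : N → ℂ) ∘ (MulAut.conjNormal (x : G)⁻¹ : MulAut N),
        isIrrCharacter_comp_mulEquiv θ.2 (MulAut.conjNormal (x : G)⁻¹ : MulAut N)⟩
      one_smul := fun θ => Subtype.ext (funext fun n => by
        show (θ : N → ℂ) (MulAut.conjNormal ((1 : P) : G)⁻¹ n) = _
        simp)
      mul_smul := fun x y θ => Subtype.ext (funext fun n => by
        show (θ : N → ℂ) (MulAut.conjNormal ((x * y : P) : G)⁻¹ n)
          = (θ : N → ℂ) (MulAut.conjNormal (y : G)⁻¹ (MulAut.conjNormal (x : G)⁻¹ n))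
        simp) }
  set f : IrrCharacter N → ZMod p := fun θ => (s.count θ : ZMod p) * (charDegree (θ : N → ℂ) : ZMod p)
  have hval : ∀ (x : P) (θ : IrrCharacter N), ((x • θ : IrrCharacter N) : N → ℂ) =
      fun n => (θ : N → ℂ) (MulAut.conjNormal (x : G)⁻¹ n) := fun x θ => rfl
  have hinv : ∀ (x : P) (θ : IrrCharacter N), f (x • θ) = f θ := by
    intro x θ
    have h1 : charDegree ((x • θ : IrrCharacter N) : N → ℂ) = charDegree (θ : N → ℂ) := by
      simp only [charDegree, hval, map_one]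
    have h2 : s.count (x • θ) = s.count θ := by
      have e1 := classInner_multiset_sum s (x • θ)
      have e2 := classInner_multiset_sum s θ
      rw [← hs] at e1 e2
      have e3 : classInner (fun n : N => (χ : G → ℂ) n) ((x • θ : IrrCharacter N) : N → ℂ) =
          classInner (fun n : N => (χ : G → ℂ) n) (θ : N → ℂ) := by
        simp only [classInner]
        congr 1
        refine Fintype.sum_equiv (MulAut.conjNormal (x : G)⁻¹ : MulAut N).toEquiv _ _ fun n => ?_
        simp only [hval, MulEquiv.toEquiv_eq_coe, EquivLike.coe_coe, MulAut.conjNormal_apply]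
        rw [irr_isClassFunction χ.2]
      rw [e3, e2] at e1
      exact_mod_cast e1.symm
    simp only [f, h1, h2]
  have hsum : ∑ θ, f θ = (charDegree (χ : G → ℂ) : ZMod p) := by
    have h1 : ((∑ θ, s.count θ * charDegree (θ : N → ℂ) : ℕ) : ℂ) = (charDegree (χ : G → ℂ) : ℂ) := by
      push_cast
      rw [← isCharacter_one_eq_charDegree (isCharacter_of_irr χ.2)]
      have h2 := congrFun hs (1 : N)
      rw [OneMemClass.coe_one] at h2
      rw [h2, Finset.sum_multiset_map_count, Finset.sum_apply]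
      refine (Finset.sum_subset (Finset.subset_univ s.toFinset) ?_).symm.trans ?_
      · intro θ _ hθ
        rw [Multiset.count_eq_zero.2 (fun h => hθ (Multiset.mem_toFinset.2 h))]
        simp
      · refine Finset.sum_congr rfl fun θ _ => ?_
        rw [Pi.smul_apply, nsmul_eq_mul, ← isCharacter_one_eq_charDegree (isCharacter_of_irr θ.2)]
    have h2 : ∑ θ, s.count θ * charDegree (θ : N → ℂ) = charDegree (χ : G → ℂ) := by exact_mod_cast h1
    simp only [f]
    exact_mod_cast congrArg (Nat.cast (R := ZMod p)) h2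
  have h := Cfsg.Agent.Block.sum_eq_sum_fixedPoints (R := ZMod p) hP f hinv
  rw [hsum] at h
  have hne : (charDegree (χ : G → ℂ) : ZMod p) ≠ 0 := by
    rwa [Ne, ZMod.natCast_eq_zero_iff]
  rw [h] at hne
  obtain ⟨θ, hθ, hfθ⟩ := Finset.exists_ne_zero_of_sum_ne_zero hne
  refine ⟨θ, ?_, ?_, fun x hx n => ?_⟩
  · intro hd
    exact hfθ (by simp [f, (ZMod.natCast_eq_zero_iff _ p).2 hd])
  · have e2 := classInner_multiset_sum s θ
    rw [← hs] at e2
    rw [e2]
    intro h0
    exact hfθ (by simp [f, Nat.cast_eq_zero.1 h0])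
  · have h1 := (Finset.mem_filter.1 hθ).2 (⟨x, hx⟩⁻¹ : P)
    have h2 := congrFun (congrArg Subtype.val h1) n
    rw [hval] at h2
    simpa using h2

/-- An irreducible character over the restriction of `η`, for an abelian quotient, is a twist
of `η`. -/
theorem exists_twist_of_over (N : Subgroup G) [N.Normal] [Fintype N]
    (hab : ∀ a b : G ⧸ N, a * b = b * a) (χ η : IrrCharacter G)
    (hirr : IsIrrCharacter N (fun n : N => (η : G → ℂ) n))
    (h : classInner (fun n : N => (χ : G → ℂ) n) (fun n : N => (η : G → ℂ) n) ≠ 0) :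
    ∃ f : G →* ℂˣ, (∀ n : N, f n = 1) ∧ ∀ g, (χ : G → ℂ) g = (f g : ℂ) * (η : G → ℂ) g := by
  classical
  letI := Fintype.ofFinite G
  haveI := monoidHom_complex_finite (G := G ⧸ N)
  letI := Fintype.ofFinite (G ⧸ N →* ℂˣ)
  by_contra hc
  apply h
  have hsum : ∀ g : G, ∑ l : G ⧸ N →* ℂˣ, (l (g : G ⧸ N) : ℂ) =
      if g ∈ N then (Fintype.card (G ⧸ N →* ℂˣ) : ℂ) else 0 := by
    intro g
    by_cases hg : g ∈ N
    · simp [hg, (QuotientGroup.eq_one_iff g).2 hg]
    · rw [if_neg hg]
      obtain ⟨ψ, hψ⟩ := exists_irr_ne_degree (G := G ⧸ N) (g := (g : G ⧸ N))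
        (fun h0 => hg ((QuotientGroup.eq_one_iff g).1 h0))
      obtain ⟨l0, hl0⟩ := irr_exists_monoidHom_of_comm hab ψ.2
      have hne : (l0 (g : G ⧸ N) : ℂ) ≠ 1 := fun h0 => hψ (by rw [hl0, hl0, h0, map_one, Units.val_one])
      set S := ∑ l : G ⧸ N →* ℂˣ, (l (g : G ⧸ N) : ℂ)
      have hS : S = (l0 (g : G ⧸ N) : ℂ) * S := by
        rw [Finset.mul_sum]
        refine (Fintype.sum_equiv (Equiv.mulLeft l0) _ _ fun l => ?_).symm
        simp
      by_contra h0
      exact hne ((mul_eq_right₀ h0).1 hS.symm)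
  have hzero : ∀ l : G ⧸ N →* ℂˣ,
      classInner (χ : G → ℂ) (fun g : G => (l (g : G ⧸ N) : ℂ) * (η : G → ℂ) g) = 0 := by
    intro l
    by_contra hne
    have heq : (χ : G → ℂ) = fun g : G => (l (g : G ⧸ N) : ℂ) * (η : G → ℂ) g := by
      by_contra hne'
      exact hne (classInner_irr_ne χ.2
        (isIrrCharacter_mul_monoidHom η.2 (l.comp (QuotientGroup.mk' N))) hne')
    exact hc ⟨l.comp (QuotientGroup.mk' N), fun n => by
      rw [MonoidHom.comp_apply, QuotientGroup.mk'_apply, (QuotientGroup.eq_one_iff (n : G)).2 n.2,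
        map_one], fun g => congrFun heq g⟩
  have htot := Finset.sum_eq_zero (s := Finset.univ) fun l _ => hzero l
  simp only [classInner, ← Finset.mul_sum, map_mul] at htot
  rw [Finset.sum_comm] at htot
  have hconj : ∀ g : G, ∑ l : G ⧸ N →* ℂˣ,
      (χ : G → ℂ) g * (conj (l (g : G ⧸ N) : ℂ) * conj ((η : G → ℂ) g)) =
      (if g ∈ N then (Fintype.card (G ⧸ N →* ℂˣ) : ℂ) else 0) *
        ((χ : G → ℂ) g * conj ((η : G → ℂ) g)) := by
    intro g
    have h1 := congrArg conj (hsum g)
    rw [map_sum] at h1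
    rw [← Finset.mul_sum, ← Finset.sum_mul, h1]
    split_ifs <;> simp; ring
  rw [Finset.sum_congr rfl (fun g _ => hconj g)] at htot
  simp only [ite_mul, zero_mul, ← Finset.sum_filter, ← Finset.mul_sum] at htot
  rw [Finset.sum_subtype (p := (· ∈ N)) _ (fun g => by simp)
    (fun g => (χ : G → ℂ) g * conj ((η : G → ℂ) g))] at htot
  have h0 : ∑ n : N, (χ : G → ℂ) n * conj ((η : G → ℂ) n) = 0 := by
    simpa [Fintype.card_ne_zero, Nat.card_pos.ne'] using htot
  simp only [classInner]
  rw [h0, mul_zero]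

end Cfsg.Agent.BlkChar
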