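import Cfsg.Agent.Char.Basic

/-! Central elements act by scalars in irreducible representations. -/

namespace Cfsg.Agent.BlkChar

open Cfsg Cfsg.Agent.Char

theorem exists_scalar_of_center {G : Type*} [Group G] [Finite G] {V : Type*} [AddCommGroup V]
    [Module ℂ V] [FiniteDimensional ℂ V] (ρ : Representation ℂ G V) [ρ.IsIrreducible] {z : G}
    (hz : z ∈ Subgroup.center G) : ∃ c : ℂ, ρ z = c • (1 : Module.End ℂ V) := by
  haveI := nontrivial_of_isIrreducible ρ
  obtain ⟨c, hc⟩ := Module.End.exists_eigenvalue (ρ z)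
  refine ⟨c, ?_⟩
  have hinv : ∀ g : G, ∀ v ∈ Module.End.eigenspace (ρ z) c,
      ρ g v ∈ Module.End.eigenspace (ρ z) c := by
    intro g v hv
    rw [Module.End.mem_eigenspace_iff] at hv ⊢
    rw [← Module.End.mul_apply, ← map_mul, ← (Subgroup.mem_center_iff.1 hz g), map_mul,
      Module.End.mul_apply, hv, map_smul]
  rcases ((isIrreducible_iff_forall ρ).1 inferInstance).2 _ hinv with h | h
  · exact absurd h hc
  · ext v
    have : v ∈ Module.End.eigenspace (ρ z) c := by rw [h]; trivial
    simpa using Module.End.mem_eigenspace_iff.1 this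

/-- An irreducible character scales along central elements. -/
theorem irr_mul_center {G : Type*} [Group G] [Finite G] {χ : G → ℂ} (hχ : IsIrrCharacter G χ)
    {z : G} (hz : z ∈ Subgroup.center G) :
    ∃ c : ℂ, χ z = c * χ 1 ∧ ∀ g : G, χ (g * z) = c * χ g := by
  obtain ⟨n, ρ, hirr, rfl⟩ := hχ
  haveI := hirr
  obtain ⟨c, hc⟩ := exists_scalar_of_center ρ hz
  have : ∀ g : G, ρ.character (g * z) = c * ρ.character g := fun g => by
    simp [Representation.character, map_mul, hc]
  exact ⟨c, by simpa using this 1, this⟩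

end Cfsg.Agent.BlkChar
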