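import Cfsg.Agent.Lib.Element
import Cfsg.Agent.S0164
import Cfsg.Agent.CharInd.GenChar
import Cfsg.Agent.Char.Linear
import Cfsg.Agent.Transfer.Frobenius
import Cfsg.Agent.Solvable.ThompsonFPF

/-!
# Class functions which only depend on the `p`-part
-/

set_option autoImplicit false
set_option linter.style.haveILetI false
set_option linter.unusedSectionVars false

namespace Cfsg.Agent.BlkChar.SectionLift

open Cfsg
open scoped ComplexConjugate

universe u

variable {G : Type u} [Group G] [Finite G] {p : ℕ} [hp : Fact p.Prime]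

theorem exists_conj_mem (P : Sylow p G) {Q : Subgroup G} (hQ : IsPGroup p Q) :
    ∃ g : G, ∀ x ∈ Q, g * x * g⁻¹ ∈ (P : Subgroup G) := by
  obtain ⟨R, hR⟩ := hQ.exists_le_sylow
  obtain ⟨g, rfl⟩ := MulAction.exists_smul_eq G R P
  refine ⟨g, fun x hx => ?_⟩
  rw [Sylow.coe_subgroup_smul]
  exact Subgroup.smul_mem_pointwise_smul x (MulAut.conj g) _ (hR hx)

theorem exists_conj_pPart (P : Sylow p G) (z : G) :
    ∃ y : (P : Subgroup G), IsConj (Element.pPart p z) (y : G) := by
  have h : IsPGroup p (Subgroup.zpowers (Element.pPart p z)) :=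
    IsPGroup.of_card (by rw [Nat.card_zpowers]; exact Element.orderOf_pPart_eq_pow hp.out z)
  obtain ⟨g, hg⟩ := exists_conj_mem P h
  exact ⟨⟨_, hg _ (Subgroup.mem_zpowers _)⟩, isConj_iff.2 ⟨g, rfl⟩⟩

/-- `pPart` is a homomorphism on a nilpotent group. -/
theorem exists_pPart_hom (E : Type u) [Group E] [Finite E] [Group.IsNilpotent E] :
    ∃ π : E →* E, ∀ e, π e = Element.pPart p e := by
  obtain ⟨S, K, hK, hcompl⟩ :=
    Cfsg.Agent.Solvable.hasNormalPComplement_of_isNilpotent (p := p) E
  haveI := hK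
  haveI hSn : (S : Subgroup E).Normal :=
    Sylow.normal_of_normalizerCondition normalizerCondition_of_isNilpotent S
  have hidx : K.index = Nat.card (S : Subgroup E) := hcompl.symm.index_eq_card
  have hcop : (Nat.card K).Coprime p := by
    rw [← hcompl.index_eq_card]
    exact ((hp.out.coprime_iff_not_dvd).2 S.not_dvd_index).symm
  have hSmem : ∀ a : E, Element.pPart p a ∈ (S : Subgroup E) := by
    intro a
    obtain ⟨k, hk⟩ : ∃ k, orderOf (Element.pPart p a) = p ^ k :=
      ⟨_, Element.orderOf_pPart_eq_pow hp.out a⟩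
    exact (S.3 ((IsPGroup.of_card (n := k) (by rw [Nat.card_zpowers, hk]) :
      IsPGroup p (Subgroup.zpowers (Element.pPart p a))).to_sup_of_normal_right S.2)
      le_sup_right).le (le_sup_left (a := Subgroup.zpowers (Element.pPart p a)) (Subgroup.mem_zpowers _))
  have hKmem : ∀ a : E, Element.pComplPart p a ∈ K := by
    intro a
    rw [← QuotientGroup.eq_one_iff, ← orderOf_eq_one_iff]
    obtain ⟨k, hk⟩ := IsPGroup.iff_card.1 S.2
    have h1 : orderOf ((Element.pComplPart p a : E) : E ⧸ K) ∣ p ^ k := by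
      rw [← hk, ← hidx, Subgroup.index_eq_card]
      exact orderOf_dvd_natCard _
    have h2 := orderOf_map_dvd (QuotientGroup.mk' K) (Element.pComplPart p a)
    exact Nat.eq_one_of_dvd_coprimes
      ((Element.coprime_orderOf_pComplPart hp.out a).symm.pow_left k) h1 h2
  have hcomm : ∀ s ∈ (S : Subgroup E), ∀ k ∈ K, Commute s k := fun s hs k hk =>
    Subgroup.commute_of_normal_of_disjoint _ _ hSn hK hcompl.symm.disjoint s k hs hk
  refine ⟨MonoidHom.mk' (Element.pPart p) fun a b => ?_, fun e => rfl⟩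
  obtain ⟨k, hk⟩ := Element.orderOf_eq_pow_of_mem_isPGroup S.2 (mul_mem (hSmem a) (hSmem b))
  refine (Element.eq_pPart hp.out (g := a * b) (b := Element.pComplPart p a * Element.pComplPart p b)
    (hcomm _ (mul_mem (hSmem a) (hSmem b)) _ (mul_mem (hKmem a) (hKmem b))) ?_ hk
    (Element.coprime_orderOf_of_mem hcop (mul_mem (hKmem a) (hKmem b)))).1.symm
  calc Element.pPart p a * Element.pPart p b *
        (Element.pComplPart p a * Element.pComplPart p b)
      = Element.pPart p a * (Element.pPart p b * Element.pComplPart p a) *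
          Element.pComplPart p b := by group
    _ = (Element.pPart p a * Element.pComplPart p a) *
          (Element.pPart p b * Element.pComplPart p b) := by
        rw [(hcomm _ (hSmem b) _ (hKmem a)).eq]; group
    _ = a * b := by rw [Element.pPart_mul_pComplPart, Element.pPart_mul_pComplPart]

/-- A function on a Sylow subgroup that respects the fusion of the group. -/
def Fused (P : Sylow p G) (f : ↥(P : Subgroup G) → ℂ) : Prop :=
  ∀ y y' : (P : Subgroup G), IsConj (y : G) (y' : G) → f y = f y'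

open scoped Classical in
/-- The extension of a fused function through the `p`-part. -/
noncomputable def lift (P : Sylow p G) (f : ↥(P : Subgroup G) → ℂ) (z : G) : ℂ :=
  if h : ∃ y : (P : Subgroup G), IsConj (Element.pPart p z) (y : G) then f h.choose else 0

variable {P : Sylow p G}

theorem lift_eq {f : ↥(P : Subgroup G) → ℂ} (hf : Fused P f) {z : G} {y : (P : Subgroup G)}
    (h : IsConj (Element.pPart p z) (y : G)) : lift P f z = f y := by
  have he : ∃ y : (P : Subgroup G), IsConj (Element.pPart p z) (y : G) := ⟨y, h⟩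
  rw [lift, dif_pos he]
  exact hf _ _ (he.choose_spec.symm.trans h)

theorem lift_regular {f : ↥(P : Subgroup G) → ℂ} (hf : Fused P f) {z : G}
    (hz : ¬ p ∣ orderOf z) : lift P f z = f 1 := by
  refine lift_eq hf ?_
  rw [(Element.pPart_eq_one hp.out ((hp.out.coprime_iff_not_dvd).2 hz).symm).1, Subgroup.coe_one]

theorem lift_isClassFunction {f : ↥(P : Subgroup G) → ℂ} (hf : Fused P f) :
    IsClassFunction G (lift P f) := by
  intro g h
  obtain ⟨y, hy⟩ := exists_conj_pPart P g
  rw [lift_eq hf hy, lift_eq hf]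
  rw [(Element.pPart_conj hp.out h g).1]
  exact (isConj_iff.2 ⟨h, rfl⟩ : IsConj (Element.pPart p g) _).symm.trans hy

theorem lift_sub {f f' : ↥(P : Subgroup G) → ℂ} :
    lift P (f - f') = lift P f - lift P f' := by
  classical
  funext z
  simp only [lift, Pi.sub_apply]
  split_ifs <;> simp

/-- Integral combinations of linear characters lift to generalized characters. -/
theorem lift_generalized {f : ↥(P : Subgroup G) → ℂ} (hf : Fused P f) {ι : Type*} [Fintype ι]
    (c : ι → ℤ) (ψ : ι → ((P : Subgroup G) →* ℂˣ))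
    (hexp : ∀ y, f y = ∑ i, (c i : ℂ) * (ψ i y : ℂ)) :
    IsGeneralizedCharacter G (lift P f) := by
  refine Cfsg.Agent.S0164.result _ (lift_isClassFunction hf) fun E r hr hE => ?_
  obtain ⟨x, hx, -, k, hk⟩ := hE
  haveI : Fact r.Prime := ⟨hr⟩
  haveI : (Subgroup.zpowers x).Normal := ⟨fun z hz g => by
    obtain ⟨n, rfl⟩ := Subgroup.mem_zpowers_iff.1 hz
    rw [Subgroup.mem_center_iff.1 (Subgroup.zpow_mem _ hx n) g, mul_inv_cancel_right]
    exact hz⟩
  haveI : Group.IsNilpotent (E ⧸ Subgroup.zpowers x) :=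
    (IsPGroup.of_card (p := r) (n := k) (by rw [← Subgroup.index_eq_card, hk])).isNilpotent
  haveI : Group.IsNilpotent E := Subgroup.isNilpotent_of_ker_le_center
    (QuotientGroup.mk' (Subgroup.zpowers x))
    (by rw [QuotientGroup.ker_mk']; exact Subgroup.zpowers_le.2 hx)
  obtain ⟨π, hπ⟩ := exists_pPart_hom (p := p) E
  have hrange : IsPGroup p (π.range.map E.subtype) := by
    refine IsPGroup.map ?_ _
    rintro ⟨w, hw⟩
    obtain ⟨e, he⟩ := MonoidHom.mem_range.1 hw
    obtain ⟨j, hj⟩ : ∃ j, orderOf (Element.pPart p e) = p ^ j :=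
      ⟨_, Element.orderOf_pPart_eq_pow hp.out e⟩
    refine ⟨j, Subtype.ext ?_⟩
    show w ^ _ = 1
    rw [← he, hπ, ← hj, pow_orderOf_eq_one]
  obtain ⟨g, hg⟩ := exists_conj_mem P hrange
  let lam : E →* (P : Subgroup G) :=
    (((MulAut.conj g).toMonoidHom.comp E.subtype).comp π).codRestrict (P : Subgroup G) fun e =>
      hg _ ⟨π e, ⟨e, rfl⟩, rfl⟩
  have hval : (fun e : E => lift P f e) = ∑ i, fun e : E => (c i : ℂ) * ((ψ i).comp lam e : ℂˣ) := by
    funext e
    rw [Finset.sum_apply]
    refine Eq.trans ?_ (hexp (lam e))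
    refine lift_eq hf ?_
    have h1 := (Element.map_pPart hp.out E.subtype e).1
    rw [← hπ] at h1
    refine isConj_iff.2 ⟨g, ?_⟩
    show g * Element.pPart p (E.subtype e) * g⁻¹ = _
    rw [← h1]
    rfl
  rw [hval]
  refine CharInd.genChar_sum _ fun i _ => ?_
  have h := CharInd.genChar_zsmul
    (CharInd.genChar_irr (Char.isIrrCharacter_monoidHom ((ψ i).comp lam))) (c i)
  refine (congrArg (IsGeneralizedCharacter E) (funext fun e => ?_)).mp h
  simp

open scoped Classical in
/-- The `p`-regular elements centralising `y`. -/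
noncomputable def regC [Fintype G] (p : ℕ) (y : G) : Finset G :=
  Finset.univ.filter fun x => Commute y x ∧ ¬ p ∣ orderOf x

open scoped Classical in
theorem sum_section [Fintype G] {F : G → ℂ} (hF : IsClassFunction G F) {y : G} {k : ℕ}
    (hy : orderOf y = p ^ k) :
    (Nat.card G : ℂ) * ∑ x ∈ regC p y, F (y * x) =
      (Nat.card (Subgroup.centralizer ({y} : Set G)) : ℂ) *
        ∑ z ∈ Finset.univ.filter (fun z : G => IsConj (Element.pPart p z) y), F z := by
  let f : G × G → G := fun t => t.1 * (y * t.2) * t.1⁻¹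
  have h1 : (Nat.card G : ℂ) * ∑ x ∈ regC p y, F (y * x) =
      ∑ t ∈ Finset.univ ×ˢ regC p y, F (f t) := by
    rw [Finset.sum_product]
    simp only [f]
    rw [Finset.sum_congr rfl fun g _ => Finset.sum_congr rfl fun x _ => hF (y * x) g]
    simp only [Finset.sum_const, Finset.card_univ, nsmul_eq_mul, Nat.card_eq_fintype_card]
  have hpp : ∀ x ∈ regC p y,
      Element.pPart p (y * x) = y ∧ Element.pComplPart p (y * x) = x := by
    intro x hx
    obtain ⟨hc, hr⟩ := (Finset.mem_filter.1 hx).2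
    obtain ⟨e1, e2⟩ := Element.eq_pPart hp.out hc rfl hy ((hp.out.coprime_iff_not_dvd).2 hr).symm
    exact ⟨e1.symm, e2.symm⟩
  have hmaps : ∀ t ∈ Finset.univ ×ˢ regC p y,
      f t ∈ Finset.univ.filter (fun z : G => IsConj (Element.pPart p z) y) := by
    intro t ht
    refine Finset.mem_filter.2 ⟨Finset.mem_univ _, ?_⟩
    rw [(Element.pPart_conj hp.out t.1 (y * t.2)).1, (hpp _ (Finset.mem_product.1 ht).2).1]
    exact (isConj_iff.2 ⟨t.1, rfl⟩).symm
  rw [h1, ← Finset.sum_fiberwise_of_maps_to hmaps, Finset.mul_sum]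
  refine Finset.sum_congr rfl fun z hz => ?_
  rw [Finset.sum_congr rfl (fun t ht => by rw [(Finset.mem_filter.1 ht).2] :
    ∀ t ∈ (Finset.univ ×ˢ regC p y).filter (fun t => f t = z), F (f t) = F z), Finset.sum_const,
    nsmul_eq_mul]
  congr 2
  obtain ⟨g₀, hg₀⟩ := isConj_iff.1 (Finset.mem_filter.1 hz).2.symm
  set x₀ := g₀⁻¹ * Element.pComplPart p z * g₀ with hx₀
  have hx₀mem : x₀ ∈ regC p y := by
    refine Finset.mem_filter.2 ⟨Finset.mem_univ _, ?_, ?_⟩
    · rw [show y = g₀⁻¹ * Element.pPart p z * g₀ by rw [← hg₀]; group]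
      have := (Element.commute_pPart_pComplPart p z).map (MulAut.conj g₀⁻¹).toMonoidHom
      simpa [MulAut.conj_apply, hx₀] using this
    · rw [hx₀, show g₀⁻¹ * Element.pComplPart p z * g₀ =
        MulAut.conj g₀⁻¹ (Element.pComplPart p z) by simp [MulAut.conj_apply],
        MulEquiv.orderOf_eq]
      exact hp.out.coprime_iff_not_dvd.1 (Element.coprime_orderOf_pComplPart hp.out z).symm
  have hz0 : z = f (g₀, x₀) := by
    have := Element.pPart_mul_pComplPart p z
    conv_lhs => rw [← this]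
    simp only [f, hx₀]
    rw [← hg₀]
    group
  rw [Nat.card_eq_fintype_card, ← Finset.card_univ]
  refine Finset.card_bij' (fun t _ => (⟨g₀⁻¹ * t.1, ?_⟩ : Subgroup.centralizer ({y} : Set G)))
    (fun c _ => (g₀ * (c : G), (c : G)⁻¹ * x₀ * c)) ?_ ?_ ?_ ?_
  · rename_i t ht
    obtain ⟨ht, htz⟩ := Finset.mem_filter.1 ht
    have e := (Element.pPart_conj hp.out t.1 (y * t.2)).1
    rw [(hpp _ (Finset.mem_product.1 ht).2).1, show t.1 * (y * t.2) * t.1⁻¹ = z from htz,
      ← hg₀] at e
    rw [Subgroup.mem_centralizer_singleton_iff]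
    calc g₀⁻¹ * t.1 * y = g₀⁻¹ * (t.1 * y * t.1⁻¹) * t.1 := by group
      _ = g₀⁻¹ * (g₀ * y * g₀⁻¹) * t.1 := by rw [← e]
      _ = y * (g₀⁻¹ * t.1) := by group
  · intro t _
    exact Finset.mem_univ _
  · intro c _
    have hc : (c : G) * y = y * c := Subgroup.mem_centralizer_singleton_iff.1 c.2
    obtain ⟨hcx, hrx⟩ := (Finset.mem_filter.1 hx₀mem).2
    refine Finset.mem_filter.2 ⟨Finset.mem_product.2 ⟨Finset.mem_univ _,
      Finset.mem_filter.2 ⟨Finset.mem_univ _, ?_, ?_⟩⟩, ?_⟩
    · have h : Commute y (c : G) := hc.symm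
      exact (h.inv_right.mul_right hcx).mul_right h
    · rw [show (c : G)⁻¹ * x₀ * c = MulAut.conj (c : G)⁻¹ x₀ by simp [MulAut.conj_apply],
        MulEquiv.orderOf_eq]
      exact hrx
    · rw [hz0]
      simp only [f]
      calc g₀ * (c : G) * (y * ((c : G)⁻¹ * x₀ * c)) * (g₀ * (c : G))⁻¹
          = g₀ * ((c : G) * y) * (c : G)⁻¹ * x₀ * g₀⁻¹ := by group
        _ = g₀ * (y * x₀) * g₀⁻¹ := by rw [hc]; group
  · intro t ht
    obtain ⟨ht, htz⟩ := Finset.mem_filter.1 ht
    have e := (Element.pPart_conj hp.out t.1 (y * t.2)).2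
    rw [(hpp _ (Finset.mem_product.1 ht).2).2, show t.1 * (y * t.2) * t.1⁻¹ = z from htz] at e
    refine Prod.ext (by simp) ?_
    simp only [hx₀, e]
    group
  · intro c _
    exact Subtype.ext (by simp)

/-- The sum of a lift against a class function. -/
theorem sum_lift_mul [Fintype G] [Fintype (P : Subgroup G)] {α : ↥(P : Subgroup G) → ℂ}
    (hα : Fused P α) (hα1 : α 1 = 0) {F : G → ℂ} (hF : IsClassFunction G F) (m : ℕ)
    (hm : ∀ y : (P : Subgroup G), y ≠ 1 →
      Nat.card {y' : (P : Subgroup G) // IsConj (y : G) (y' : G)} = m) :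
    (m : ℂ) * ∑ z : G, lift P α z * F z =
      (Nat.card G : ℂ) * ∑ y : (P : Subgroup G),
        α y / (Nat.card (Subgroup.centralizer ({(y : G)} : Set G)) : ℂ) *
          ∑ x ∈ regC p (y : G), F (y * x) := by
  classical
  rw [Finset.mul_sum, Finset.mul_sum]
  have h : ∀ y : (P : Subgroup G), (Nat.card G : ℂ) *
      (α y / (Nat.card (Subgroup.centralizer ({(y : G)} : Set G)) : ℂ) *
        ∑ x ∈ regC p (y : G), F (y * x)) =
      ∑ z : G, if IsConj (Element.pPart p z) (y : G) then α y * F z else 0 := by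
    intro y
    obtain ⟨k, hk⟩ := Element.orderOf_eq_pow_of_mem_isPGroup P.2 y.2
    rw [mul_left_comm, sum_section hF hk, ← Finset.sum_filter, ← mul_assoc,
      div_mul_cancel₀ _ (Nat.cast_ne_zero.2 Nat.card_pos.ne'), Finset.mul_sum]
  simp only [h]
  rw [Finset.sum_comm]
  refine Finset.sum_congr rfl fun z _ => ?_
  obtain ⟨y₀, hy₀⟩ := exists_conj_pPart P z
  rw [lift_eq hα hy₀, ← Finset.sum_filter, Finset.sum_congr rfl (fun y hy => by
    rw [hα y y₀ ((Finset.mem_filter.1 hy).2.symm.trans hy₀)] :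
    ∀ y ∈ Finset.univ.filter (fun y : (P : Subgroup G) => IsConj (Element.pPart p z) (y : G)),
      α y * F z = α y₀ * F z), Finset.sum_const, nsmul_eq_mul]
  by_cases h1 : y₀ = 1
  · simp [h1, hα1]
  · congr 2
    rw [← hm y₀ h1, Nat.card_eq_fintype_card, Fintype.card_subtype]
    congr 1
    ext y
    simp only [Finset.mem_filter, Finset.mem_univ, true_and]
    exact ⟨fun h => hy₀.trans h, fun h => hy₀.symm.trans h⟩

end Cfsg.Agent.BlkChar.SectionLift
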